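import Cfsg.Agent.WreathMax.SlotRank
import Cfsg.Agent.MaxSub.Asch.TensorAux

/-!
Vectors of a square tensor product: pure vectors, and linear maps preserving them (helper67).
-/

set_option autoImplicit false
set_option linter.unusedSectionVars false

namespace Cfsg.Agent.WreathMax.Small

open Matrix Cfsg.Agent.MaxSub Cfsg.Agent.MaxSub.Asch Cfsg.Agent.FG75.SpinTensor

variable {F : Type*} [Field F]

/-- The pure vector of two factors. -/
def ten (x y : Fin 3 → F) : (Fin 2 → Fin 3) → F := fun z => x (z 0) * y (z 1)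

/-- A vector as a matrix. -/
def toM (v : (Fin 2 → Fin 3) → F) : Matrix (Fin 3) (Fin 3) F := Matrix.of fun i j => v ![i, j]

/-- A non-zero pure vector. -/
def Pure (v : (Fin 2 → Fin 3) → F) : Prop := ∃ x y : Fin 3 → F, x ≠ 0 ∧ y ≠ 0 ∧ v = ten x y

theorem vec_eta (z : Fin 2 → Fin 3) : ![z 0, z 1] = z := by
  funext k; fin_cases k <;> rfl

theorem toM_injective : Function.Injective (toM (F := F)) := fun v w h => funext fun z => by
  have := congrFun (congrFun h (z 0)) (z 1)
  simpa [toM, vec_eta] using this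

theorem ten_add_left (x x' y : Fin 3 → F) : ten (x + x') y = ten x y + ten x' y := by
  funext z; simp [ten, add_mul]

theorem ten_add_right (x y y' : Fin 3 → F) : ten x (y + y') = ten x y + ten x y' := by
  funext z; simp [ten, mul_add]

theorem ten_apply (x y : Fin 3 → F) (i j : Fin 3) : ten x y ![i, j] = x i * y j := rfl

theorem ten_ne_zero {x y : Fin 3 → F} (hx : x ≠ 0) (hy : y ≠ 0) : ten x y ≠ 0 := by
  obtain ⟨i, hi⟩ := Function.ne_iff.mp hx
  obtain ⟨j, hj⟩ := Function.ne_iff.mp hy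
  exact fun h => mul_ne_zero hi hj (congrFun h ![i, j])

theorem toM_tensGL (a : Fin 2 → GL (Fin 3) F) (v : (Fin 2 → Fin 3) → F) :
    toM ((tensGL a : GL (Fin 2 → Fin 3) F).val *ᵥ v) =
      (a 0 : Matrix (Fin 3) (Fin 3) F) * toM v * (a 1 : Matrix (Fin 3) (Fin 3) F)ᵀ := by
  ext i j
  show (tens (fun l => (a l : Matrix (Fin 3) (Fin 3) F)) *ᵥ v) ![i, j] = _
  simp only [Matrix.mulVec, dotProduct, Matrix.mul_apply, Matrix.transpose_apply, Finset.sum_mul]
  rw [Finset.sum_comm, ← (finTwoArrowEquiv (Fin 3)).symm.sum_comp, Fintype.sum_prod_type]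
  refine Finset.sum_congr rfl fun k _ => Finset.sum_congr rfl fun l _ => ?_
  simp [tens_apply, toM, finTwoArrowEquiv]
  ring

theorem tens_ten (b : Fin 2 → Matrix (Fin 3) (Fin 3) F) (x y : Fin 3 → F) :
    tens b *ᵥ ten x y = ten (b 0 *ᵥ x) (b 1 *ᵥ y) := by
  funext z
  simp only [Matrix.mulVec, dotProduct, ten, Finset.sum_mul_sum]
  rw [← (finTwoArrowEquiv (Fin 3)).symm.sum_comp, Fintype.sum_prod_type]
  refine Finset.sum_congr rfl fun k _ => Finset.sum_congr rfl fun l _ => ?_
  simp [tens_apply, finTwoArrowEquiv]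
  ring

theorem swap_eq (σ : Equiv.Perm (Fin 2)) : σ = 1 ∨ σ = Equiv.swap 0 1 := by decide +revert

theorem swap_mulVec (v : (Fin 2 → Fin 3) → F) (i j : Fin 3) :
    ((factorPerm (Equiv.swap 0 1) : GL (Fin 2 → Fin 3) F).val *ᵥ v) ![i, j] = v ![j, i] := by
  have h : ![i, j] ∘ ⇑(Equiv.swap (0 : Fin 2) 1) = ![j, i] := by
    funext k; fin_cases k <;> rfl
  simp [factorPerm, Matrix.mulVec, dotProduct, h]

theorem toM_swap (v : (Fin 2 → Fin 3) → F) :
    toM ((factorPerm (Equiv.swap 0 1) : GL (Fin 2 → Fin 3) F).val *ᵥ v) = (toM v)ᵀ := by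
  ext i j; exact swap_mulVec v i j

theorem swap_ten (x y : Fin 3 → F) :
    (factorPerm (Equiv.swap 0 1) : GL (Fin 2 → Fin 3) F).val *ᵥ ten x y = ten y x := by
  funext z
  rw [← vec_eta z, swap_mulVec, ten_apply, ten_apply, mul_comm]

theorem tensGL_mem (a : Fin 2 → GL (Fin 3) F) : tensGL a ∈ Geo.tensorWreathStandard 3 2 F :=
  Subgroup.subset_closure (Or.inl ⟨a, fun _ _ => rfl⟩)

theorem factorPerm_mem (σ : Equiv.Perm (Fin 2)) :
    (factorPerm σ : GL (Fin 2 → Fin 3) F) ∈ Geo.tensorWreathStandard 3 2 F :=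
  Subgroup.subset_closure (Or.inr ⟨σ, fun _ _ => rfl⟩)

/-- The wreath group keeps pure vectors. -/
theorem pure_wreath [Finite F] {m : GL (Fin 2 → Fin 3) F} (hm : m ∈ Geo.tensorWreathStandard 3 2 F)
    {v : (Fin 2 → Fin 3) → F} (hv : Pure v) : Pure (m.val *ᵥ v) := by
  obtain ⟨a, σ, rfl⟩ := exists_wreath_elem hm
  have ha : ∀ (l : Fin 2) (x : Fin 3 → F), x ≠ 0 → (a l : Matrix (Fin 3) (Fin 3) F) *ᵥ x ≠ 0 :=
    fun l x hx h => hx (mulVec_injective (a l) (by simp only [h, Matrix.mulVec_zero]))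
  obtain ⟨x, y, hx, hy, rfl⟩ := hv
  rw [Units.val_mul, ← Matrix.mulVec_mulVec]
  rcases swap_eq σ with rfl | rfl
  · rw [factorPerm_one, Units.val_one, Matrix.one_mulVec]
    exact ⟨_, _, ha 0 x hx, ha 1 y hy, tens_ten _ x y⟩
  · rw [swap_ten]
    exact ⟨_, _, ha 0 y hy, ha 1 x hx, tens_ten _ y x⟩

theorem elem_two (hF : Nat.card F = 2) (c : F) : c = 0 ∨ c = 1 := by
  haveI : Finite F := Nat.finite_of_card_ne_zero (by omega)
  haveI := Fintype.ofFinite F
  classical
  have hu : ({0, 1} : Finset F) = Finset.univ := Finset.eq_univ_of_card _ (by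
    rw [Finset.card_pair zero_ne_one, ← Nat.card_eq_fintype_card, hF])
  simpa using (show c ∈ ({0, 1} : Finset F) by rw [hu]; exact Finset.mem_univ c)

/-- A sum of two pure vectors which is pure has a common factor. -/
theorem share (hF : Nat.card F = 2) {x y x' y' : Fin 3 → F} (hx : x ≠ 0) (hy : y ≠ 0) (hx' : x' ≠ 0)
    (hy' : y' ≠ 0) (h : Pure (ten x y + ten x' y')) : x = x' ∨ y = y' := by
  obtain ⟨a, b, -, -, hab⟩ := h
  by_contra hc
  push Not at hc
  obtain ⟨hxx, hyy⟩ := hc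
  have indep : ∀ {u v : Fin 3 → F}, u ≠ 0 → u ≠ v → u ∉ Submodule.span F {v} := by
    intro u v hu huv hmem
    obtain ⟨c, rfl⟩ := Submodule.mem_span_singleton.mp hmem
    rcases elem_two hF c with rfl | rfl
    · simp at hu
    · simp at huv
  have contr : ∀ {u v : Fin 3 → F} {p q : Fin 3 → F}, p ≠ 0 → u ≠ 0 → u ≠ v →
      ten p u + ten q v = ten a b → p = a := by
    intro u v p q hp hu huv he
    obtain ⟨ψ, hψ, hψu⟩ := exists_annihilator (indep hu huv)
    have hψv : ψ ⬝ᵥ v = 0 := hψ v (Submodule.mem_span_singleton_self v)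
    have hcomp : ∀ i, p i = (ψ ⬝ᵥ b) * a i := fun i => by
      have h1 : ∀ r s : Fin 3 → F, ∑ j, ψ j * ten r s ![i, j] = r i * (ψ ⬝ᵥ s) := fun r s => by
        simp only [ten_apply, dotProduct, Finset.mul_sum]
        exact Finset.sum_congr rfl fun j _ => by ring
      have h2 : ∑ j, ψ j * (ten p u + ten q v) ![i, j] = ∑ j, ψ j * ten a b ![i, j] := by rw [he]
      simp only [Pi.add_apply, mul_add, Finset.sum_add_distrib, h1, hψu, hψv, mul_one, mul_zero,
        add_zero] at h2
      rw [h2, mul_comm]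
    rcases elem_two hF (ψ ⬝ᵥ b) with h0 | h0
    · exact absurd (funext fun i => by rw [hcomp i, h0, zero_mul]; rfl) hp
    · exact funext fun i => by rw [hcomp i, h0, one_mul]
  have e1 := contr hx hy hyy hab
  have e2 := contr hx' hy' (Ne.symm hyy) (show ten x' y' + ten x y = ten a b by rw [add_comm]; exact hab)
  exact hxx (e1.trans e2.symm)

theorem basis_pure (i j : Fin 3) : Pure (F := F) (ten (Pi.single i 1) (Pi.single j 1)) :=
  ⟨_, _, by simp, by simp, rfl⟩

theorem single_eq (z : Fin 2 → Fin 3) :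
    (Pi.single z 1 : (Fin 2 → Fin 3) → F) = ten (Pi.single (z 0) 1) (Pi.single (z 1) 1) := by
  funext w
  rw [← vec_eta w, ten_apply]
  by_cases h0 : w 0 = z 0
  · by_cases h1 : w 1 = z 1
    · rw [show ![w 0, w 1] = z by rw [h0, h1, vec_eta], h0, h1]; simp
    · rw [Pi.single_eq_of_ne (fun h : ![w 0, w 1] = z => h1 (congrFun h 1)),
        Pi.single_eq_of_ne h1, mul_zero]
  · rw [Pi.single_eq_of_ne (fun h : ![w 0, w 1] = z => h0 (congrFun h 0)),
      Pi.single_eq_of_ne h0, zero_mul]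

/-- A bijective linear map preserving pure vectors permutes and moves the two factors. -/
theorem mem_wreath_of_pure (hF : Nat.card F = 2) {g : GL (Fin 2 → Fin 3) F}
    (hg : ∀ v, Pure v → Pure (g.val *ᵥ v)) : g ∈ Geo.tensorWreathStandard 3 2 F := by
  classical
  haveI : Finite F := Nat.finite_of_card_ne_zero (by omega)
  have hg' : ∀ v, Pure (g.val *ᵥ v) → Pure v := by
    intro v hv
    let f : {w // Pure (F := F) w} → {w // Pure (F := F) w} := fun w => ⟨_, hg w.1 w.2⟩
    have hf : Function.Injective f := fun w w' h =>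
      Subtype.ext (mulVec_injective g (Subtype.ext_iff.mp h))
    obtain ⟨w, hw⟩ := (Finite.injective_iff_surjective.mp hf) ⟨_, hv⟩
    have h1 : g.val *ᵥ w.1 = g.val *ᵥ v := congrArg Subtype.val hw
    exact mulVec_injective g h1 ▸ w.2
  suffices key : ∀ g : GL (Fin 2 → Fin 3) F, (∀ v, Pure v ↔ Pure (g.val *ᵥ v)) →
      ∀ x0 y0 : Fin 3 → F, x0 ≠ 0 → y0 ≠ 0 →
      g.val *ᵥ ten (Pi.single 0 1) (Pi.single 0 1) = ten x0 y0 →
      (∀ j, j ≠ 0 → ∃ y, y ≠ 0 ∧ g.val *ᵥ ten (Pi.single 0 1) (Pi.single j 1) = ten x0 y) →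
      g ∈ Geo.tensorWreathStandard 3 2 F by
    obtain ⟨x0, y0, hx0, hy0, h00⟩ := hg _ (basis_pure 0 0)
    have hrow : ∀ j : Fin 3, j ≠ 0 → ∃ x y, x ≠ 0 ∧ y ≠ 0 ∧
        g.val *ᵥ ten (Pi.single 0 1) (Pi.single j 1) = ten x y ∧ (x0 = x ∨ y0 = y) := by
      intro j hj
      obtain ⟨x, y, hx, hy, hxy⟩ := hg _ (basis_pure 0 j)
      refine ⟨x, y, hx, hy, hxy, share hF hx0 hy0 hx hy ?_⟩
      rw [← h00, ← hxy, ← Matrix.mulVec_add, ← ten_add_right]
      exact hg _ ⟨_, _, by simp, fun h => by simpa [hj.symm] using congrFun h 0, rfl⟩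
    by_cases hall : ∀ j : Fin 3, j ≠ 0 → ∃ y, y ≠ 0 ∧
        g.val *ᵥ ten (Pi.single 0 1) (Pi.single j 1) = ten x0 y
    · exact key g (fun v => ⟨hg v, hg' v⟩) x0 y0 hx0 hy0 h00 hall
    set s : GL (Fin 2 → Fin 3) F := factorPerm (Equiv.swap 0 1)
    simp only [not_forall] at hall
    obtain ⟨j₁, hj₁, hno⟩ := hall
    have hcol : ∀ j : Fin 3, j ≠ 0 → ∃ x, x ≠ 0 ∧
        g.val *ᵥ ten (Pi.single 0 1) (Pi.single j 1) = ten x y0 := by
      intro j hj
      obtain ⟨x₁, y₁, hx₁, hy₁, he₁, ho₁⟩ := hrow j₁ hj₁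
      have hy₁' : y0 = y₁ := ho₁.resolve_left fun h => hno ⟨y₁, hy₁, h ▸ he₁⟩
      subst hy₁'
      obtain ⟨x, y, hx, hy, he, ho⟩ := hrow j hj
      rcases ho with ho | ho
      · subst ho
        by_cases hjj : j = j₁
        · exact absurd ⟨y, hy, hjj ▸ he⟩ hno
        · have hp : Pure (ten x0 y + ten x₁ y0) := by
            rw [← he, ← he₁, ← Matrix.mulVec_add, ← ten_add_right]
            exact hg _ ⟨_, _, by simp,
              fun h => by simpa [hjj] using congrFun h j, rfl⟩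
          rcases share hF hx0 hy hx₁ hy₁ hp with h | h
          · exact absurd ⟨y0, hy0, h ▸ he₁⟩ hno
          · exact ⟨x0, hx0, h ▸ he⟩
      · exact ⟨x, hx, ho ▸ he⟩
    have hs : s * g ∈ Geo.tensorWreathStandard 3 2 F := by
      refine key (s * g) (fun v => ?_) y0 x0 hy0 hx0 ?_ fun j hj => ?_
      · rw [Units.val_mul, ← Matrix.mulVec_mulVec]
        refine ⟨fun hv => pure_wreath (factorPerm_mem _) (hg v hv), fun hv => hg' v ?_⟩
        have := pure_wreath (inv_mem (factorPerm_mem (F := F) (Equiv.swap 0 1))) hv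
        rwa [inv_mulVec_mulVec] at this
      · rw [Units.val_mul, ← Matrix.mulVec_mulVec, h00, swap_ten]
      · obtain ⟨x, hx, hxy⟩ := hcol j hj
        exact ⟨x, hx, by rw [Units.val_mul, ← Matrix.mulVec_mulVec, hxy, swap_ten]⟩
    have h1 := mul_mem (inv_mem (factorPerm_mem (F := F) (Equiv.swap 0 1))) hs
    rwa [inv_mul_cancel_left] at h1
  intro g hg x0 y0 hx0 hy0 h00 hall
  have hrow : ∀ j, ∃ y, y ≠ 0 ∧ g.val *ᵥ ten (Pi.single 0 1) (Pi.single j 1) = ten x0 y := fun j => by
    by_cases hj : j = 0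
    · exact ⟨y0, hy0, hj ▸ h00⟩
    · exact hall j hj
  choose Y hY hYe using hrow
  have hY0 : ten x0 (Y 0) = ten x0 y0 := (hYe 0).symm.trans h00
  have hinj : ∀ {i i' j j' : Fin 3}, g.val *ᵥ ten (Pi.single i 1) (Pi.single j 1) =
      g.val *ᵥ ten (Pi.single i' 1) (Pi.single j' 1) → i = i' ∧ j = j' := by
    intro i i' j j' h
    have h1 := congrFun (mulVec_injective g h) ![i, j]
    simp only [ten_apply, Pi.single_eq_same, mul_one] at h1
    constructor
    · by_contra hne; rw [Pi.single_eq_of_ne hne, zero_mul] at h1; exact one_ne_zero h1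
    · by_contra hne; rw [Pi.single_eq_of_ne hne, mul_zero] at h1; exact one_ne_zero h1
  have hcol : ∀ i, ∃ x, x ≠ 0 ∧ g.val *ᵥ ten (Pi.single i 1) (Pi.single 0 1) = ten x (Y 0) := by
    intro i
    by_cases hi : i = 0
    · exact ⟨x0, hx0, hi ▸ hYe 0⟩
    obtain ⟨x, y, hx, hy, hxy⟩ := (hg _).mp (basis_pure i 0)
    refine ⟨x, hx, ?_⟩
    have hs : x = x0 ∨ y = Y 0 := share hF hx hy hx0 (hY 0) (by
      rw [← hxy, ← hYe 0, ← Matrix.mulVec_add, ← ten_add_left]
      exact (hg _).mp ⟨_, _, fun h => by simpa [hi] using congrFun h i, by simp, rfl⟩)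
    rcases hs with hs | hs
    · subst hs
      -- otherwise a vector of rank two goes to a pure or zero one
      exfalso
      obtain ⟨j, hj⟩ : ∃ j : Fin 3, j ≠ 0 := ⟨1, by decide⟩
      set v : (Fin 2 → Fin 3) → F :=
        ten (Pi.single i 1) (Pi.single 0 1) + ten (Pi.single 0 1) (Pi.single j 1) with hv
      have hgv : g.val *ᵥ v = ten x (y + Y j) := by
        rw [hv, Matrix.mulVec_add, hxy, hYe, ten_add_right]
      by_cases hz : y + Y j = 0
      · have h1 : v = 0 := mulVec_injective g (by simp only [hgv, hz, Matrix.mulVec_zero]; funext z; simp [ten])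
        have := congrFun h1 ![i, 0]
        simp [hv, ten_apply, hi] at this
      · rcases share hF (by simp) (by simp) (by simp) (by simp)
          ((hg v).mpr ⟨x, y + Y j, hx, hz, hgv⟩) with h | h
        · exact hi (by_contra fun hne => by simpa [hne] using congrFun h i)
        · exact hj (by_contra fun hne => by simpa [hne] using congrFun h j)
    · rw [hxy, hs]
  choose X hX hXe using hcol
  have hX0 : ten (X 0) (Y 0) = ten x0 (Y 0) := (hXe 0).symm.trans (hYe 0)
  have hall' : ∀ i j, g.val *ᵥ ten (Pi.single i 1) (Pi.single j 1) = ten (X i) (Y j) := by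
    intro i j
    by_cases hi : i = 0
    · subst hi
      rw [hYe]
      funext z
      obtain ⟨k, hk⟩ := Function.ne_iff.mp (hY 0)
      have h1 := congrFun hX0 ![z 0, k]
      simp only [ten_apply] at h1
      show x0 (z 0) * Y j (z 1) = X 0 (z 0) * Y j (z 1)
      rw [mul_right_cancel₀ hk h1]
    by_cases hj : j = 0
    · subst hj; exact hXe i
    obtain ⟨a, b, ha, hb, hab⟩ := (hg _).mp (basis_pure i j)
    have s1 : a = X i ∨ b = Y 0 := share hF ha hb (hX i) (hY 0) (by
      rw [← hab, ← hXe i, ← Matrix.mulVec_add, ← ten_add_right]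
      exact (hg _).mp ⟨_, _, by simp, fun h => by simpa [hj] using congrFun h j, rfl⟩)
    have s2 : a = x0 ∨ b = Y j := share hF ha hb hx0 (hY j) (by
      rw [← hab, ← hYe j, ← Matrix.mulVec_add, ← ten_add_left]
      exact (hg _).mp ⟨_, _, fun h => by simpa [hi] using congrFun h i, by simp, rfl⟩)
    rcases s1 with rfl | rfl <;> rcases s2 with h | h
    · exact absurd (hinj ((hXe i).trans (by rw [h]; exact (hYe 0).symm))).1 hi
    · rw [hab, h]
    · exact absurd (hinj (hab.trans (by rw [h]; exact (hYe 0).symm))).1 hi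
    · exact absurd (hinj ((hYe 0).trans (by rw [h]; exact (hYe j).symm))).2 (Ne.symm hj)
  let A : Matrix (Fin 3) (Fin 3) F := Matrix.of fun k i => X i k
  let B : Matrix (Fin 3) (Fin 3) F := Matrix.of fun k j => Y j k
  have hval : g.val = tens ![A, B] := by
    refine Matrix.ext fun z w => ?_
    have h1 := congrFun (hall' (w 0) (w 1)) z
    rw [← single_eq, Matrix.mulVec_single_one, ← vec_eta z, ten_apply, vec_eta] at h1
    rw [tens_apply, Fin.prod_univ_two]
    simpa [A, B] using h1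
  have hAB : A.det ≠ 0 ∧ B.det ≠ 0 := by
    constructor
    all_goals
      intro h
      obtain ⟨φ, hφ0, hφ⟩ := Matrix.exists_vecMul_eq_zero_iff.mpr h
    · refine ten_ne_zero hφ0 (one_ne_zero (α := Fin 3 → F)) ?_
      have h1 : ten φ 1 ᵥ* g.val = 0 := by
        funext w
        rw [hval]
        simp only [Matrix.vecMul, dotProduct, tens_apply, ten, Fin.prod_univ_two]
        rw [← (finTwoArrowEquiv (Fin 3)).symm.sum_comp, Fintype.sum_prod_type, Finset.sum_comm]
        refine Finset.sum_eq_zero fun l _ => ?_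
        have h2 : ∑ k, φ k * A k (w 0) = 0 := congrFun hφ (w 0)
        calc _ = ∑ k, (φ k * A k (w 0)) * B l (w 1) := Finset.sum_congr rfl fun k _ => by
              simp [finTwoArrowEquiv]; ring
          _ = 0 := by rw [← Finset.sum_mul, h2, zero_mul]
      have := congrArg (· ᵥ* (g⁻¹ : GL (Fin 2 → Fin 3) F).val) h1
      simpa [Matrix.vecMul_vecMul] using this
    · refine ten_ne_zero (one_ne_zero (α := Fin 3 → F)) hφ0 ?_
      have h1 : ten 1 φ ᵥ* g.val = 0 := by
        funext w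
        rw [hval]
        simp only [Matrix.vecMul, dotProduct, tens_apply, ten, Fin.prod_univ_two]
        rw [← (finTwoArrowEquiv (Fin 3)).symm.sum_comp, Fintype.sum_prod_type]
        refine Finset.sum_eq_zero fun k _ => ?_
        have h2 : ∑ l, φ l * B l (w 1) = 0 := congrFun hφ (w 1)
        calc _ = ∑ l, A k (w 0) * (φ l * B l (w 1)) := Finset.sum_congr rfl fun l _ => by
              simp [finTwoArrowEquiv]; ring
          _ = 0 := by rw [← Finset.mul_sum, h2, mul_zero]
      have := congrArg (· ᵥ* (g⁻¹ : GL (Fin 2 → Fin 3) F).val) h1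
      simpa [Matrix.vecMul_vecMul] using this
  have : g = tensGL ![Matrix.GeneralLinearGroup.mkOfDetNeZero A hAB.1,
      Matrix.GeneralLinearGroup.mkOfDetNeZero B hAB.2] := Units.ext (by
    rw [hval]
    show tens ![A, B] = tens _
    congr 1
    funext l; fin_cases l <;> rfl)
  rw [this]
  exact tensGL_mem _

end Cfsg.Agent.WreathMax.Small
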