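import Cfsg.Agent.WreathMax.Defs
import Cfsg.Agent.WreathMax.SmallPure

/-!
Overgroups of the wreath group of degree nine over two elements without fusion of roots (helper67).

A root of a slot fixing a coset of the wreath group forces the coset to be the base one, so the number of cosets
sending a singular vector to a pure one has constant parity; this makes pure vectors invariant.
-/

set_option autoImplicit false
set_option linter.unusedSectionVars false

namespace Cfsg.Agent.WreathMax.Small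

open Matrix Cfsg.Agent.MaxSub Cfsg.Agent.MaxSub.Asch Cfsg.Agent.FG75.SpinTensor

/-! ### Facts about three by three matrices over two elements -/

/-- The matrix with given bits. -/
def dec (c : Fin 512) : Matrix (Fin 3) (Fin 3) (ZMod 2) :=
  Matrix.of fun i j => if c.val.testBit (3 * i.val + j.val) then 1 else 0

/-- The bits of a matrix. -/
def enc (T : Matrix (Fin 3) (Fin 3) (ZMod 2)) : ℕ :=
  (T 0 0).val + 2 * (T 0 1).val + 4 * (T 0 2).val + 8 * (T 1 0).val + 16 * (T 1 1).val + 32 * (T 1 2).val +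
    64 * (T 2 0).val + 128 * (T 2 1).val + 256 * (T 2 2).val

theorem enc_dec : ∀ c, enc (dec c) = c.val := by decide +kernel

theorem dec_bijective : Function.Bijective dec :=
  (Fintype.bijective_iff_injective_and_card dec).mpr
    ⟨fun a b h => Fin.ext (by rw [← enc_dec a, h, enc_dec]), by decide +kernel⟩

theorem seven_dec : ∀ c, dec c ^ 7 = 1 →
    ((∃ v : Fin 3 → ZMod 2, v ≠ 0 ∧ dec c *ᵥ v = v) → dec c = 1) ∧
      (dec c = 1 ∨ dec c ^ 3 + dec c + 1 = 0 ∨ dec c ^ 3 + dec c ^ 2 + 1 = 0) := by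
  decide +kernel

/-- The determinant, expanded. -/
def det3 {R : Type*} [CommRing R] (T : Matrix (Fin 3) (Fin 3) R) : R :=
  T 0 0 * T 1 1 * T 2 2 - T 0 0 * T 1 2 * T 2 1 - T 0 1 * T 1 0 * T 2 2 + T 0 1 * T 1 2 * T 2 0 +
    T 0 2 * T 1 0 * T 2 1 - T 0 2 * T 1 1 * T 2 0

/-- Rank one or three. -/
def Op {R : Type*} [CommRing R] (T : Matrix (Fin 3) (Fin 3) R) : Prop :=
  (T ≠ 0 ∧ ∀ i j k l, T i j * T k l = T i l * T k j) ∨ det3 T ≠ 0

instance (T : Matrix (Fin 3) (Fin 3) (ZMod 2)) : Decidable (Op T) := by unfold Op; infer_instance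

/-- The corner matrix unit. -/
def e00 (R : Type*) [CommRing R] : Matrix (Fin 3) (Fin 3) R :=
  Matrix.of fun i j => if i = 0 ∧ j = 0 then 1 else 0

theorem count_corner :
    (Finset.univ.filter fun c => Op (dec c) ∧ Op (e00 (ZMod 2) + dec c)).card = 84 := by decide +kernel

theorem count_one :
    (Finset.univ.filter fun c => Op (dec c) ∧ Op (1 + dec c)).card = 90 := by decide +kernel

/-- An element of order seven. -/
def sevenMat : Matrix (Fin 3) (Fin 3) (ZMod 2) := !![0, 0, 1; 1, 0, 1; 0, 1, 0]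

theorem perm_sq : ∀ τ : Equiv.Perm (Fin 2), τ * τ = 1 := by decide

theorem other_slot : ∀ i l : Fin 2, l ≠ i + 1 → l = i := by decide

theorem sevenMat_pow : sevenMat * sevenMat ^ 6 = 1 ∧ sevenMat ^ 6 * sevenMat = 1 := by decide +kernel

theorem sevenMat_entries : (sevenMat ^ 3) 1 0 = 1 ∧ (sevenMat ^ 3) 0 0 = 1 ∧ (sevenMat ^ 2) 0 0 = 0 ∧
    sevenMat 1 0 = 1 ∧ sevenMat 0 0 = 0 := by decide +kernel

variable {F : Type*} [Field F]

theorem exists_iso [Finite F] (hF : Nat.card F = 2) : Nonempty (ZMod 2 ≃+* F) := by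
  letI := Fintype.ofFinite F
  exact ⟨ZMod.ringEquivOfPrime F Nat.prime_two (by rwa [← Nat.card_eq_fintype_card])⟩

theorem add_self [Finite F] (hF : Nat.card F = 2) (c : F) : c + c = 0 := by
  obtain ⟨e⟩ := exists_iso hF
  obtain ⟨z, rfl⟩ := e.surjective c
  rw [← map_add, show z + z = 0 by decide +revert, map_zero]

theorem mat_add_self [Finite F] (hF : Nat.card F = 2) {ι κ : Type*} (A : Matrix ι κ F) : A + A = 0 :=
  Matrix.ext fun i j => add_self hF (A i j)

theorem eq_one_of_ne_zero [Finite F] (hF : Nat.card F = 2) {c : F} (hc : c ≠ 0) : c = 1 :=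
  (elem_two hF c).resolve_left hc

theorem seven [Finite F] (hF : Nat.card F = 2) {B : Matrix (Fin 3) (Fin 3) F} (hB : B ^ 7 = 1) :
    ((∃ v : Fin 3 → F, v ≠ 0 ∧ B *ᵥ v = v) → B = 1) ∧
      (B = 1 ∨ B ^ 3 + B + 1 = 0 ∨ B ^ 3 + B ^ 2 + 1 = 0) := by
  obtain ⟨e⟩ := exists_iso hF
  obtain ⟨B', rfl⟩ := e.mapMatrix.surjective B
  obtain ⟨c, rfl⟩ := dec_bijective.2 B'
  have h7 : dec c ^ 7 = 1 := e.mapMatrix.injective (by rw [map_pow, hB, map_one])
  obtain ⟨h1, h2⟩ := seven_dec c h7
  refine ⟨fun ⟨v, hv, hfix⟩ => ?_, ?_⟩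
  · rw [h1 ⟨fun i => e.symm (v i), fun h => hv (funext fun i => ?_), funext fun i => ?_⟩, map_one]
    · simpa using congrArg e (congrFun h i)
    · apply e.injective
      rw [e.apply_symm_apply]
      refine Eq.trans ?_ (congrFun hfix i)
      refine (RingHom.map_mulVec (e : ZMod 2 →+* F) (dec c) _ i).trans ?_
      have hsymm : (⇑(e : ZMod 2 →+* F) ∘ fun k => e.symm (v k)) = v := funext fun k => e.apply_symm_apply _
      rw [hsymm]
      rfl
  · rcases h2 with h | h | h
    · exact Or.inl (by rw [h, map_one])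
    · have h' := congrArg e.mapMatrix h
      rw [map_add, map_add, map_pow, map_one, map_zero] at h'
      exact Or.inr (Or.inl h')
    · have h' := congrArg e.mapMatrix h
      rw [map_add, map_add, map_pow, map_pow, map_one, map_zero] at h'
      exact Or.inr (Or.inr h')

/-! ### Roots -/

theorem root_sq [Finite F] (hF : Nat.card F = 2) {u : GL (Fin 2 → Fin 3) F} (hu : IsSlotRoot u) : u * u = 1 := by
  obtain ⟨i, A, ⟨-, hA⟩, huA⟩ := hu
  refine Units.ext ?_
  rw [Units.val_mul, huA, Units.val_one, add_mul, one_mul, mul_add, mul_one, ← slot_mul', hA, slot_zero',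
    add_zero, add_assoc, mat_add_self hF, add_zero]

theorem ne_zero_of_gl (b : GL (Fin 3) F) : (b : Matrix (Fin 3) (Fin 3) F) ≠ 0 := b.ne_zero

/-- A root moves every coset but the base one. -/
theorem mem_of_conj_mem [Finite F] (hF : Nat.card F = 2) {H : Subgroup (GL (Fin 2 → Fin 3) F)}
    (hM : Geo.tensorWreathStandard 3 2 F ≤ H) (hcase : NoRootFusion H) {g u : GL (Fin 2 → Fin 3) F}
    (hg : g ∈ H) (hu : IsSlotRoot u) (hx : g⁻¹ * u * g ∈ Geo.tensorWreathStandard 3 2 F) :
    g ∈ Geo.tensorWreathStandard 3 2 F := by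
  by_contra hgM
  obtain ⟨a, σ, hxa⟩ := exists_wreath_elem hx
  have huu := root_sq hF hu
  obtain ⟨i, A, ⟨hA1, hA2⟩, huA⟩ := id hu
  have hxx : (tensGL a * factorPerm σ) * (tensGL a * factorPerm σ) = 1 := by
    rw [← hxa, show g⁻¹ * u * g * (g⁻¹ * u * g) = g⁻¹ * (u * u) * g by group, huu, mul_one, inv_mul_cancel]
  rcases swap_eq σ with rfl | rfl
  · rw [factorPerm_one, mul_one] at hxa hxx
    have hdiff : (tensGL a : GL (Fin 2 → Fin 3) F).val - 1 =
        (g⁻¹ : GL (Fin 2 → Fin 3) F).val * slot i A * g.val := by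
      rw [← hxa, Units.val_mul, Units.val_mul, huA, mul_add, add_mul, mul_one, Units.inv_mul, add_sub_cancel_left]
    have hS : (slot i A).rank = 3 := by rw [rank_slot, hA1]; rfl
    have hle : ((tensGL a : GL (Fin 2 → Fin 3) F).val - 1).rank ≤ 3 := by
      rw [hdiff]
      exact ((Matrix.rank_mul_le_left _ _).trans (Matrix.rank_mul_le_right _ _)).trans hS.le
    have hge : 3 ≤ ((tensGL a : GL (Fin 2 → Fin 3) F).val - 1).rank := by
      have : slot i A = g.val * ((tensGL a : GL (Fin 2 → Fin 3) F).val - 1) * (g⁻¹ : GL (Fin 2 → Fin 3) F).val := by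
        rw [hdiff, ← mul_assoc, ← mul_assoc, Units.mul_inv, one_mul, mul_assoc, Units.mul_inv, mul_one]
      calc 3 = (slot i A).rank := hS.symm
        _ ≤ _ := by rw [this]; exact (Matrix.rank_mul_le_left _ _).trans (Matrix.rank_mul_le_right _ _)
    obtain ⟨j, B, hB⟩ := tens_eq_slot (le_refl 3) one_le_two a hle
    have hBB : B * B = 1 := slot_injective (by norm_num) j (by
      rw [slot_mul', ← hB, slot_one', ← Units.val_mul, hxx, Units.val_one])
    have hsl : (tensGL a : GL (Fin 2 → Fin 3) F).val = 1 + slot j (B + 1) := by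
      rw [hB, slot_add', slot_one', add_comm, add_assoc, mat_add_self hF, add_zero]
    refine hcase g hg hgM u hu (hxa ▸ ⟨j, B + 1, ⟨?_, ?_⟩, hsl⟩)
    · have h3 : ((tensGL a : GL (Fin 2 → Fin 3) F).val - 1).rank = 3 := le_antisymm hle hge
      rw [hsl, add_sub_cancel_left, rank_slot] at h3
      omega
    · rw [add_mul, one_mul, mul_add, mul_one, hBB, add_comm B 1, mat_add_self hF]
  · set σ : Equiv.Perm (Fin 2) := Equiv.swap 0 1 with hσ
    have hs2 : σ * σ = 1 := Equiv.swap_mul_self 0 1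
    have hσs : σ.symm = σ := Equiv.symm_swap 0 1
    have hprod : tensGL (a * fun l => a (σ.symm l)) = (1 : GL (Fin 2 → Fin 3) F) := by
      rw [← tensGL_mul]
      have h1 : tensGL a * factorPerm σ * (tensGL a * factorPerm σ) =
          tensGL a * tensGL (fun l => a (σ.symm l)) * (factorPerm σ * factorPerm σ) := by
        rw [mul_assoc (tensGL a), ← mul_assoc (factorPerm σ), factorPerm_mul_tensGL]
        simp only [mul_assoc]
      rw [h1, factorPerm_mul, hs2, factorPerm_one, mul_one] at hxx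
      exact hxx
    obtain ⟨c, hc0, hc⟩ := tens_eq_one_imp (congrArg Units.val hprod) 0
    have h01 : a 0 * a 1 = 1 := Units.ext (by
      have h2 : σ.symm 0 = 1 := by rw [hσs]; rfl
      simpa [h2, eq_one_of_ne_zero hF hc0] using hc)
    have h10 : a 1 * a 0 = 1 := mul_eq_one_comm.mp h01
    set k : GL (Fin 2 → Fin 3) F := tensGL ![a 0, 1] with hk
    have hg' : g * k ∈ H := mul_mem hg (hM (tensGL_mem _))
    have hconj : (g * k)⁻¹ * u * (g * k) = factorPerm σ := by
      rw [show (g * k)⁻¹ * u * (g * k) = k⁻¹ * (g⁻¹ * u * g) * k by group, hxa, mul_assoc k⁻¹,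
        inv_mul_eq_iff_eq_mul]
      rw [hk, mul_assoc (tensGL a), factorPerm_mul_tensGL, ← mul_assoc, tensGL_mul]
      congr 1
      refine congrArg tensGL (funext fun l => ?_)
      fin_cases l
      · simp [hσs, hσ]
      · simpa [hσs, hσ] using h10
    -- an element of order seven commuting with the swap
    obtain ⟨e⟩ := exists_iso hF
    let A0 : GL (Fin 3) F :=
      ⟨e.mapMatrix sevenMat, e.mapMatrix (sevenMat ^ 6), by rw [← map_mul, sevenMat_pow.1, map_one],
        by rw [← map_mul, sevenMat_pow.2, map_one]⟩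
    have hA07 : A0 ^ 7 = 1 := Units.ext (by
      show (e.mapMatrix sevenMat) ^ 7 = 1
      rw [← map_pow, pow_succ', sevenMat_pow.1, map_one])
    set d : GL (Fin 2 → Fin 3) F := tensGL fun _ => A0 with hd
    have hds : d * factorPerm σ = factorPerm σ * d := by rw [hd, factorPerm_mul_tensGL]
    have hd7 : d ^ 7 = 1 := by
      show (tensHom 3 2 F fun _ => A0) ^ 7 = 1
      rw [← map_pow, show ((fun _ => A0) : Fin 2 → GL (Fin 3) F) ^ 7 = 1 from funext fun _ => hA07, map_one]
    set g' := g * k with hg'def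
    obtain ⟨el, hel⟩ : ∃ el, el = g' * d * g'⁻¹ := ⟨_, rfl⟩
    have helH : el ∈ H := by rw [hel]; exact mul_mem (mul_mem hg' (hM (tensGL_mem _))) (inv_mem hg')
    have helu : el⁻¹ * u * el = u := by
      have : u = g' * factorPerm σ * g'⁻¹ := by rw [← hconj]; group
      rw [hel, this]
      calc _ = g' * (d⁻¹ * (factorPerm σ * d)) * g'⁻¹ := by group
        _ = _ := by rw [← hds, inv_mul_cancel_left]
    have helM : el ∈ Geo.tensorWreathStandard 3 2 F := by
      by_contra h
      exact hcase el helH h u hu (helu.symm ▸ hu)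
    have hel7 : el ^ 7 = 1 := by rw [hel, conj_pow, hd7, mul_one, mul_inv_cancel]
    obtain ⟨c', τ, hcτ⟩ := exists_wreath_elem helM
    obtain ⟨b, hb⟩ : ∃ b : Fin 2 → GL (Fin 3) F, el = tensGL b := by
      refine ⟨(c' * fun l => c' (τ.symm l)) ^ 4, ?_⟩
      show el = tensHom 3 2 F _
      rw [map_pow]
      have h2 : el * el = tensHom 3 2 F (c' * fun l => c' (τ.symm l)) := by
        show el * el = tensGL _
        rw [hcτ, mul_assoc (tensGL c'), ← mul_assoc (factorPerm τ), factorPerm_mul_tensGL, mul_assoc,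
          factorPerm_mul, perm_sq τ, factorPerm_one, mul_one, tensGL_mul]
      rw [← h2, ← pow_two, ← pow_mul, show 2 * 4 = 7 + 1 from rfl, pow_succ, hel7, one_mul]
    have hb7 : ∀ l, (b l : Matrix (Fin 3) (Fin 3) F) ^ 7 = 1 := by
      intro l
      have h1 : tensGL (b ^ 7) = (1 : GL (Fin 2 → Fin 3) F) := by
        rw [← hel7, hb]; exact map_pow (tensHom 3 2 F) b 7
      obtain ⟨r, hr0, hr⟩ := tens_eq_one_imp (congrArg Units.val h1) l
      simpa [eq_one_of_ne_zero hF hr0] using hr
    have hcomm : el * u = u * el := by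
      conv_lhs => rw [← helu]
      group
    have hbA : (b i : Matrix (Fin 3) (Fin 3) F) * A = A * b i := by
      have h1 := congrArg Units.val hcomm
      rw [Units.val_mul, Units.val_mul, huA, hb] at h1
      change tens _ * (1 + slot i A) = (1 + slot i A) * tens _ at h1
      rw [mul_add, add_mul, one_mul, mul_one, add_right_inj, tens_mul_slot, slot_mul_tens] at h1
      have := tens_update_inj (i := i) h1 (fun l hl => by rw [Function.update_of_ne hl, Function.update_of_ne hl])
        (fun l hl => by rw [Function.update_of_ne hl]; exact ne_zero_of_gl (b l))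
      simpa using this
    have hbi : (b i : Matrix (Fin 3) (Fin 3) F) = 1 := by
      refine (seven hF (hb7 i)).1 ?_
      obtain ⟨w, hw⟩ : ∃ w, A *ᵥ w ≠ 0 := by
        by_contra hc'
        push Not at hc'
        have : A = 0 := Matrix.ext fun p q => by
          simpa [Matrix.mulVec_single_one] using congrFun (hc' (Pi.single q 1)) p
        rw [this, Matrix.rank_zero] at hA1
        exact zero_ne_one hA1
      refine ⟨A *ᵥ w, hw, ?_⟩
      have hmem : ∀ z, A *ᵥ z ∈ LinearMap.range A.mulVecLin := fun z => ⟨z, rfl⟩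
      obtain ⟨r, hr⟩ := (finrank_eq_one_iff_of_nonzero' (K := F) (⟨_, hmem w⟩ : LinearMap.range A.mulVecLin)
        (fun h => hw (congrArg Subtype.val h))).mp hA1 ⟨_, hmem ((b i : Matrix (Fin 3) (Fin 3) F) *ᵥ w)⟩
      have hr' : r • (A *ᵥ w) = A *ᵥ ((b i : Matrix (Fin 3) (Fin 3) F) *ᵥ w) := congrArg Subtype.val hr
      rw [Matrix.mulVec_mulVec, hbA, ← Matrix.mulVec_mulVec, ← hr']
      rcases elem_two hF r with rfl | rfl
      · refine absurd ?_ hw
        rw [zero_smul, Matrix.mulVec_mulVec, ← hbA, ← Matrix.mulVec_mulVec] at hr'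
        exact mulVec_injective (b i) (hr'.symm.trans (Matrix.mulVec_zero _).symm)
      · rw [one_smul]
    obtain ⟨j, hij⟩ : ∃ j : Fin 2, ∀ l, l ≠ j → l = i := ⟨i + 1, other_slot i⟩
    have hslot : el.val = slot j (b j : Matrix (Fin 3) (Fin 3) F) := by
      rw [hb]
      show tens _ = tens _
      congr 1
      funext l
      by_cases hl : l = j
      · subst hl; rw [Function.update_self]
      · rw [Function.update_of_ne hl, Pi.one_apply, hij l hl, hbi]
    have hD : ∀ n : ℕ, d.val ^ n = tens fun _ : Fin 2 => e.mapMatrix (sevenMat ^ n) := fun n => by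
      induction n with
      | zero => rw [pow_zero, pow_zero, map_one, ← tens_one]; rfl
      | succ n ih =>
        rw [pow_succ, ih, pow_succ, hd]
        show tens _ * tens _ = tens _
        rw [tens_mul]
        congr 1
        funext l
        show _ * e.mapMatrix sevenMat = _
        rw [← map_mul]
    have hpull : ∀ (p q : ℕ), (b j : Matrix (Fin 3) (Fin 3) F) ^ p + (b j : Matrix (Fin 3) (Fin 3) F) ^ q + 1 = 0 →
        d.val ^ p + d.val ^ q + 1 = 0 := by
      intro p q hpq
      have hpows : ∀ n : ℕ, slot j ((b j : Matrix (Fin 3) (Fin 3) F) ^ n) = el.val ^ n := fun n => by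
        induction n with
        | zero => rw [pow_zero, pow_zero, slot_one']
        | succ n ih => rw [pow_succ, slot_mul', ih, ← hslot, pow_succ]
      have h1 := congrArg (slot j) hpq
      rw [slot_add', slot_add', slot_one', slot_zero', hpows, hpows, hel, Units.val_mul, Units.val_mul,
        Units.conj_pow, Units.conj_pow, ← add_mul, ← mul_add,
        show (1 : Matrix (Fin 2 → Fin 3) (Fin 2 → Fin 3) F) = g'.val * 1 * (g'⁻¹ : GL (Fin 2 → Fin 3) F).val by
          rw [mul_one, Units.mul_inv], ← add_mul, ← mul_add] at h1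
      exact (Units.mul_right_eq_zero g').mp ((Units.mul_left_eq_zero g'⁻¹).mp h1)
    obtain ⟨e310, e300, e200, e110, e100⟩ := sevenMat_entries
    rcases (seven hF (hb7 j)).2 with h | h | h
    · have h1 : d = 1 := by
        have h2 : el = 1 := Units.ext (by rw [hslot, h, slot_one', Units.val_one])
        rw [hel, mul_inv_eq_one, mul_eq_left] at h2
        exact h2
      have h4 : (d : Matrix (Fin 2 → Fin 3) (Fin 2 → Fin 3) F) = 1 := by rw [h1, Units.val_one]
      have h2 := congrFun (congrFun h4 ![1, 1]) ![0, 0]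
      have h3 : d.val = tens fun _ : Fin 2 => e.mapMatrix sevenMat := rfl
      rw [h3] at h2
      simp [tens_apply, RingEquiv.mapMatrix_apply, e110] at h2
    · have h2 := congrFun (congrFun (hpull 3 1 (by rwa [pow_one])) ![1, 0]) ![0, 0]
      rw [hD, hD] at h2
      simp [tens_apply, RingEquiv.mapMatrix_apply, e310, e300, e100] at h2
    · have h2 := congrFun (congrFun (hpull 3 2 h) ![1, 0]) ![0, 0]
      rw [hD, hD] at h2
      simp [tens_apply, RingEquiv.mapMatrix_apply, e310, e300, e200] at h2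

/-! ### Parity -/

theorem pure_wreath_iff [Finite F] {m : GL (Fin 2 → Fin 3) F} (hm : m ∈ Geo.tensorWreathStandard 3 2 F)
    (v : (Fin 2 → Fin 3) → F) : Pure (m.val *ᵥ v) ↔ Pure v :=
  ⟨fun h => by simpa [inv_mulVec_mulVec] using pure_wreath (inv_mem hm) h, pure_wreath hm⟩

theorem pure_iff (hF : Nat.card F = 2) (v : (Fin 2 → Fin 3) → F) :
    Pure v ↔ toM v ≠ 0 ∧ ∀ i j k l, toM v i j * toM v k l = toM v i l * toM v k j := by
  constructor
  · rintro ⟨x, y, hx, hy, rfl⟩
    refine ⟨fun h => ten_ne_zero hx hy (toM_injective (h.trans (by ext; rfl))), fun i j k l => ?_⟩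
    show x i * y j * (x k * y l) = x i * y l * (x k * y j)
    ring
  · rintro ⟨h0, h⟩
    obtain ⟨i₀, hi⟩ := Function.ne_iff.mp h0
    obtain ⟨j₀, hj⟩ := Function.ne_iff.mp hi
    have hone : toM v i₀ j₀ = 1 := (elem_two hF _).resolve_left hj
    refine ⟨fun i => toM v i j₀, fun j => toM v i₀ j, fun he => hj (congrFun he i₀), fun he => hj (congrFun he j₀),
      toM_injective (Matrix.ext fun i j => ?_)⟩
    show toM v i j = toM v i j₀ * toM v i₀ j
    rw [← h i j i₀ j₀, hone, mul_one]

theorem det_pure {v : (Fin 2 → Fin 3) → F} (hv : Pure v) : (toM v).det = 0 := by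
  obtain ⟨x, y, -, -, rfl⟩ := hv
  rw [Matrix.det_fin_three]
  simp only [toM, Matrix.of_apply, ten_apply]
  ring

theorem pure_ne_zero {v : (Fin 2 → Fin 3) → F} (hv : Pure v) : v ≠ 0 := by
  obtain ⟨x, y, hx, hy, rfl⟩ := hv
  exact ten_ne_zero hx hy

/-- Every singular vector is fixed by a root. -/
theorem exists_root [Finite F] (hF : Nat.card F = 2) {v : (Fin 2 → Fin 3) → F} (hv : (toM v).det = 0) :
    ∃ u ∈ Geo.tensorWreathStandard 3 2 F, IsSlotRoot u ∧ u.val *ᵥ v = v := by
  obtain ⟨φ, hφ0, hφ⟩ := Matrix.exists_vecMul_eq_zero_iff.mpr hv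
  obtain ⟨w, hw0, hw⟩ := Matrix.exists_mulVec_eq_zero_iff.mpr
    (Matrix.det_eq_zero_of_row_eq_zero (A := (Matrix.of ![φ, 0, 0] : Matrix (Fin 3) (Fin 3) F)) 1
      fun j => rfl)
  have hφw : φ ⬝ᵥ w = 0 := congrFun hw 0
  set N := vecMulVec w φ with hN
  have hNN : N * N = 0 := by
    rw [hN, Matrix.vecMulVec_mul_vecMulVec, hφw, zero_smul]
    ext; simp [vecMulVec]
  have hN0 : N ≠ 0 := by
    obtain ⟨p, hp⟩ := Function.ne_iff.mp hw0
    obtain ⟨q, hq⟩ := Function.ne_iff.mp hφ0
    exact fun h => mul_ne_zero hp hq (congrFun (congrFun h p) q)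
  have h1 : (1 + N) * (1 + N) = 1 := by
    rw [add_mul, one_mul, mul_add, mul_one, hNN, add_zero, add_assoc, mat_add_self hF, add_zero]
  let tN : GL (Fin 3) F := ⟨1 + N, 1 + N, h1, h1⟩
  refine ⟨tensGL ![tN, 1], tensGL_mem _, ⟨0, N, ⟨?_, hNN⟩, ?_⟩, ?_⟩
  · refine le_antisymm (Matrix.rank_vecMulVec_le w φ)
      (Nat.pos_of_ne_zero fun h => hN0 (Matrix.ext fun i j => ?_))
    have hb := Submodule.finrank_eq_zero.mp h
    rw [LinearMap.range_eq_bot] at hb
    simpa [Matrix.mulVec_single_one] using congrFun (LinearMap.congr_fun hb (Pi.single j 1)) i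
  · rw [← slot_one' (F := F) (d := 3) (0 : Fin 2), ← slot_add']
    show tens _ = tens _
    congr 1
    funext l
    fin_cases l <;> rfl
  · refine toM_injective ?_
    rw [toM_tensGL]
    show (1 + N) * toM v * (1 : Matrix (Fin 3) (Fin 3) F)ᵀ = toM v
    rw [Matrix.transpose_one, mul_one, add_mul, one_mul, hN, Matrix.vecMulVec_mul, hφ]
    ext; simp [vecMulVec]

section Parity

variable [Finite F] {H : Subgroup (GL (Fin 2 → Fin 3) F)}

open Classical in
/-- The indicator of pure vectors at a coset representative. -/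
noncomputable def ind (h : GL (Fin 2 → Fin 3) F) (v : (Fin 2 → Fin 3) → F) : ZMod 2 :=
  if Pure ((h⁻¹ : GL (Fin 2 → Fin 3) F).val *ᵥ v) then 1 else 0

theorem ind_eq {h h' : GL (Fin 2 → Fin 3) F} (hh : h⁻¹ * h' ∈ Geo.tensorWreathStandard 3 2 F)
    (v : (Fin 2 → Fin 3) → F) : ind h v = ind h' v := by
  classical
  refine if_congr ?_ rfl rfl
  rw [← pure_wreath_iff (inv_mem hh), Matrix.mulVec_mulVec, ← Units.val_mul,
    show (h⁻¹ * h')⁻¹ * h⁻¹ = h'⁻¹ by group]

theorem ind_mul (k h : GL (Fin 2 → Fin 3) F) (v : (Fin 2 → Fin 3) → F) :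
    ind (k * h) (k.val *ᵥ v) = ind h v := by
  classical
  refine if_congr ?_ rfl rfl
  rw [Matrix.mulVec_mulVec, ← Units.val_mul, show (k * h)⁻¹ * k = h⁻¹ by group]

/-- The parity of the number of cosets at which a vector becomes pure. -/
noncomputable def par (H : Subgroup (GL (Fin 2 → Fin 3) F)) (v : (Fin 2 → Fin 3) → F) : ZMod 2 :=
  ∑ᶠ x : H ⧸ (Geo.tensorWreathStandard 3 2 F).subgroupOf H, ind (x.out : GL (Fin 2 → Fin 3) F) v

theorem ind_out (h : H) (v : (Fin 2 → Fin 3) → F) :
    ind ((QuotientGroup.mk h : H ⧸ (Geo.tensorWreathStandard 3 2 F).subgroupOf H).out : GL (Fin 2 → Fin 3) F) v =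
      ind (h : GL (Fin 2 → Fin 3) F) v := by
  obtain ⟨m, hm⟩ := QuotientGroup.mk_out_eq_mul ((Geo.tensorWreathStandard 3 2 F).subgroupOf H) h
  rw [hm]
  refine (ind_eq ?_ v).symm
  have := m.2
  rw [Subgroup.mem_subgroupOf] at this
  simpa using this

theorem par_smul (k : H) (v : (Fin 2 → Fin 3) → F) :
    par H ((k : GL (Fin 2 → Fin 3) F).val *ᵥ v) = par H v := by
  unfold par
  rw [← finsum_comp_equiv (MulAction.toPerm k)]
  refine finsum_congr fun x => ?_
  induction x using QuotientGroup.induction_on with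
  | _ h =>
    rw [MulAction.toPerm_apply, MulAction.Quotient.smul_mk, ind_out, ind_out, smul_eq_mul, Subgroup.coe_mul, ind_mul]

theorem par_eq (hF : Nat.card F = 2) (hM : Geo.tensorWreathStandard 3 2 F ≤ H) (hcase : NoRootFusion H)
    {v : (Fin 2 → Fin 3) → F} (hv : (toM v).det = 0) : par H v = ind 1 v := by
  classical
  letI : Fintype (H ⧸ (Geo.tensorWreathStandard 3 2 F).subgroupOf H) := Fintype.ofFinite _
  obtain ⟨u, huM, hu, huv⟩ := exists_root hF hv
  let uH : H := ⟨u, hM huM⟩
  have huu := root_sq hF hu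
  unfold par
  rw [finsum_eq_sum_of_fintype, ← Finset.add_sum_erase _ _ (Finset.mem_univ (QuotientGroup.mk (1 : H)))]
  rw [ind_out]
  conv_rhs => rw [← add_zero (ind 1 v)]
  congr 1
  refine Finset.sum_involution (fun x _ => uH • x) (fun x _ => ?_) (fun x hx _ => ?_) (fun x hx => ?_)
    (fun x _ => ?_)
  · induction x using QuotientGroup.induction_on with
    | _ h =>
      rw [MulAction.Quotient.smul_mk, ind_out, ind_out, smul_eq_mul, Subgroup.coe_mul]
      show ind (h : GL (Fin 2 → Fin 3) F) v + ind (u * (h : GL (Fin 2 → Fin 3) F)) v = 0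
      conv_lhs => arg 2; rw [← huv]
      rw [ind_mul, CharTwo.add_self_eq_zero]
  · induction x using QuotientGroup.induction_on with
    | _ h =>
      intro he
      rw [MulAction.Quotient.smul_mk, QuotientGroup.eq, Subgroup.mem_subgroupOf] at he
      have h1 : (h : GL (Fin 2 → Fin 3) F)⁻¹ * u * h ∈ Geo.tensorWreathStandard 3 2 F := by
        have := inv_mem he
        simpa [smul_eq_mul, uH, mul_assoc] using this
      have h2 := mem_of_conj_mem hF hM hcase h.2 hu h1
      refine Finset.ne_of_mem_erase hx (QuotientGroup.eq.mpr ?_)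
      rw [Subgroup.mem_subgroupOf]
      simpa using h2
  · refine Finset.mem_erase.mpr ⟨fun he => Finset.ne_of_mem_erase hx ?_, Finset.mem_univ _⟩
    rw [← inv_smul_smul uH x, he, MulAction.Quotient.smul_mk, QuotientGroup.eq, Subgroup.mem_subgroupOf]
    simpa [uH] using huM
  · rw [smul_smul, show uH * uH = 1 from Subtype.ext huu, one_smul]

/-- Among singular vectors, purity is invariant. -/
theorem pure_of_singular (hF : Nat.card F = 2) (hM : Geo.tensorWreathStandard 3 2 F ≤ H) (hcase : NoRootFusion H)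
    {g : GL (Fin 2 → Fin 3) F} (hg : g ∈ H) {v : (Fin 2 → Fin 3) → F} (hv : Pure v)
    (hd : (toM (g.val *ᵥ v)).det = 0) : Pure (g.val *ᵥ v) := by
  classical
  have h1 := par_smul ⟨g, hg⟩ v
  rw [par_eq hF hM hcase (det_pure hv), par_eq hF hM hcase hd] at h1
  by_contra hn
  simp [ind, hv, hn] at h1

end Parity

/-! ### Counting -/

/-- A pure or invertible vector. -/
def Good (v : (Fin 2 → Fin 3) → F) : Prop := Pure v ∨ (toM v).det ≠ 0

theorem exists_first_col {x : Fin 3 → F} (hx : x ≠ 0) :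
    ∃ a : GL (Fin 3) F, (a : Matrix (Fin 3) (Fin 3) F) *ᵥ Pi.single 0 1 = x := by
  have key : ∀ B : Matrix (Fin 3) (Fin 3) F, B.det ≠ 0 → (∀ i, B i 0 = x i) →
      ∃ a : GL (Fin 3) F, (a : Matrix (Fin 3) (Fin 3) F) *ᵥ Pi.single 0 1 = x := fun B hB hcol =>
    ⟨Matrix.GeneralLinearGroup.mkOfDetNeZero B hB, by
      show B *ᵥ Pi.single 0 1 = x
      rw [Matrix.mulVec_single_one]; exact funext hcol⟩
  by_cases h0 : x 0 = 0
  · by_cases h1 : x 1 = 0
    · have h2 : x 2 ≠ 0 := fun h2 => hx (funext fun i => by fin_cases i <;> assumption)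
      exact key !![x 0, 1, 0; x 1, 0, 1; x 2, 0, 0] (by simpa [Matrix.det_fin_three] using h2)
        (fun i => by fin_cases i <;> rfl)
    · exact key !![x 0, 1, 0; x 1, 0, 0; x 2, 0, 1] (by simpa [Matrix.det_fin_three] using h1)
        (fun i => by fin_cases i <;> rfl)
  · exact key !![x 0, 0, 0; x 1, 1, 0; x 2, 0, 1] (by simpa [Matrix.det_fin_three] using h0)
      (fun i => by fin_cases i <;> rfl)

/-- The vector of the identity matrix. -/
def idVec : (Fin 2 → Fin 3) → F := fun z => (1 : Matrix (Fin 3) (Fin 3) F) (z 0) (z 1)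

theorem toM_idVec : toM (idVec : (Fin 2 → Fin 3) → F) = 1 := by ext i j; rfl

/-- A map exchanging the two sorts of good vectors does not exist. -/
theorem no_exchange [Finite F] (hF : Nat.card F = 2) {H : Subgroup (GL (Fin 2 → Fin 3) F)}
    (hM : Geo.tensorWreathStandard 3 2 F ≤ H) (hcase : NoRootFusion H)
    {g : GL (Fin 2 → Fin 3) F} (hg : g ∈ H) {v : (Fin 2 → Fin 3) → F} (hv : Pure v) :
    (toM (g.val *ᵥ v)).det = 0 := by
  classical
  by_contra hd
  set p : (Fin 2 → Fin 3) → F := ten (Pi.single 0 1) (Pi.single 0 1) with hp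
  have hpure : ∀ z, Pure z → ∃ m ∈ Geo.tensorWreathStandard 3 2 F, m.val *ᵥ p = z := by
    rintro z ⟨x, y, hx, hy, rfl⟩
    obtain ⟨a, ha⟩ := exists_first_col hx
    obtain ⟨b, hb⟩ := exists_first_col hy
    exact ⟨tensGL ![a, b], tensGL_mem _, by rw [hp, ← ha, ← hb]; exact tens_ten _ _ _⟩
  have hinv : ∀ z, (toM z).det ≠ 0 → ∃ m ∈ Geo.tensorWreathStandard 3 2 F, m.val *ᵥ idVec = z := by
    intro z hz
    refine ⟨tensGL ![Matrix.GeneralLinearGroup.mkOfDetNeZero _ hz, 1], tensGL_mem _, toM_injective ?_⟩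
    rw [toM_tensGL, toM_idVec, mul_one]
    show toM z * (1 : Matrix (Fin 3) (Fin 3) F)ᵀ = toM z
    rw [Matrix.transpose_one, mul_one]
  obtain ⟨m₁, hm₁, hm₁e⟩ := hpure v hv
  obtain ⟨m₂, hm₂, hm₂e⟩ := hinv _ hd
  set k := m₂⁻¹ * g * m₁ with hk
  have hkH : k ∈ H := mul_mem (mul_mem (hM (inv_mem hm₂)) hg) (hM hm₁)
  have hkp : k.val *ᵥ p = idVec := by
    rw [hk, Units.val_mul, Units.val_mul, ← Matrix.mulVec_mulVec, ← Matrix.mulVec_mulVec, hm₁e, ← hm₂e,
      inv_mulVec_mulVec]
  -- the good vectors form one orbit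
  have horb : ∀ z, Good z → ∃ l ∈ H, l.val *ᵥ p = z := by
    rintro z (hz | hz)
    · obtain ⟨m, hm, hme⟩ := hpure z hz
      exact ⟨m, hM hm, hme⟩
    · obtain ⟨m, hm, hme⟩ := hinv z hz
      exact ⟨m * k, mul_mem (hM hm) hkH, by rw [Units.val_mul, ← Matrix.mulVec_mulVec, hkp, hme]⟩
  have hgood : ∀ l ∈ H, ∀ z, Good z → Good (l.val *ᵥ z) := by
    intro l hl z hz
    obtain ⟨l', hl', rfl⟩ := horb z hz
    rw [Matrix.mulVec_mulVec, ← Units.val_mul]
    by_cases h0 : (toM ((l * l').val *ᵥ p)).det = 0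
    · exact Or.inl (pure_of_singular hF hM hcase (mul_mem hl hl') (basis_pure 0 0) h0)
    · exact Or.inr h0
  -- the number of good translates is invariant
  let T : ((Fin 2 → Fin 3) → F) → Type _ := fun z => {b // Good b ∧ Good (z + b)}
  have hcard : Nat.card (T p) = Nat.card (T idVec) := by
    refine Nat.card_congr
      { toFun := fun b => ⟨k.val *ᵥ b.1, hgood k hkH _ b.2.1, by
          rw [← hkp, ← Matrix.mulVec_add]; exact hgood k hkH _ b.2.2⟩
        invFun := fun b => ⟨(k⁻¹ : GL (Fin 2 → Fin 3) F).val *ᵥ b.1, hgood _ (inv_mem hkH) _ b.2.1, by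
          have := hgood _ (inv_mem hkH) _ b.2.2
          have hk' : (k⁻¹ : GL (Fin 2 → Fin 3) F).val *ᵥ idVec = p :=
            (congrArg _ hkp.symm).trans (inv_mulVec_mulVec k p)
          rwa [Matrix.mulVec_add, hk'] at this⟩
        left_inv := fun b => Subtype.ext (inv_mulVec_mulVec k b.1)
        right_inv := fun b => Subtype.ext (mulVec_inv_mulVec k b.1) }
  -- transport to explicit matrices
  obtain ⟨e⟩ := exists_iso hF
  have hOp : ∀ (R : Matrix (Fin 3) (Fin 3) (ZMod 2)) (z : (Fin 2 → Fin 3) → F),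
      toM z = e.mapMatrix R → (Good z ↔ Op R) := by
    intro R z hz
    have hdet : (toM z).det = e (det3 R) := by
      rw [hz, Matrix.det_fin_three]
      simp [det3, RingEquiv.mapMatrix_apply]
    refine or_congr ?_ (by rw [hdet]; exact (map_ne_zero_iff _ e.injective))
    rw [pure_iff hF, hz]
    refine and_congr (map_ne_zero_iff _ e.mapMatrix.injective) ?_
    simp [RingEquiv.mapMatrix_apply, ← map_mul]
  have htrans : ∀ (z : (Fin 2 → Fin 3) → F) (R : Matrix (Fin 3) (Fin 3) (ZMod 2)), toM z = e.mapMatrix R →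
      Nat.card (T z) = (Finset.univ.filter fun c => Op (dec c) ∧ Op (R + dec c)).card := by
    intro z R hz
    rw [← Fintype.card_subtype, ← Nat.card_eq_fintype_card]
    let f : Fin 512 → ((Fin 2 → Fin 3) → F) := fun c w => e.mapMatrix (dec c) (w 0) (w 1)
    have hf : ∀ c, toM (f c) = e.mapMatrix (dec c) := fun c => by ext i j; rfl
    have hfb : Function.Bijective f := by
      refine ⟨fun c c' h => dec_bijective.1 (e.mapMatrix.injective (by rw [← hf, ← hf, h])), fun b => ?_⟩
      obtain ⟨R', hR'⟩ := e.mapMatrix.surjective (toM b)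
      obtain ⟨c, rfl⟩ := dec_bijective.2 R'
      exact ⟨c, toM_injective ((hf c).trans hR')⟩
    refine (Nat.card_congr ((Equiv.ofBijective f hfb).subtypeEquiv fun c => ?_)).symm
    refine (and_congr (hOp _ _ (hf c)) (hOp _ _ ?_)).symm
    show toM (z + f c) = _
    rw [map_add, ← hf, ← hz]
    ext i j; rfl
  have h84 := htrans p (e00 (ZMod 2)) (by
    ext i j
    show ten _ _ ![i, j] = e (e00 (ZMod 2) i j)
    fin_cases i <;> fin_cases j <;> simp [ten_apply, e00])
  have h90 := htrans idVec 1 (by rw [toM_idVec, map_one])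
  rw [count_corner] at h84
  rw [count_one] at h90
  omega

end Cfsg.Agent.WreathMax.Small

namespace Cfsg.Agent.WreathMax

/-- An overgroup of the wreath group of degree nine over two elements without fusion of roots is the group itself. -/
theorem small_case {F : Type*} [Field F] [Finite F] (hF : Nat.card F = 2)
    (H : Subgroup (GL (Fin 2 → Fin 3) F)) (hM : Geo.tensorWreathStandard 3 2 F ≤ H) (hcase : NoRootFusion H) :
    H ≤ Geo.tensorWreathStandard 3 2 F :=
  fun _ hg => Small.mem_wreath_of_pure hF fun _ hv =>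
    Small.pure_of_singular hF hM hcase hg hv (Small.no_exchange hF hM hcase hg hv)

end Cfsg.Agent.WreathMax
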