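import Cfsg.Agent.WreathMax.Exceptional
import Cfsg.Agent.WreathMax.SmallCase

/-!
Maximality of tensor wreath stabilisers in the special linear group (helper1).
-/

set_option autoImplicit false
set_option linter.unusedSectionVars false

namespace Cfsg.Agent.WreathMax

open Matrix Cfsg.Agent.MaxSub Cfsg.Agent.MaxSub.Asch Cfsg.Agent.FG75.SpinTensor
open scoped Kronecker

variable {F : Type*} [Field F] [Fintype F] {m t : ℕ}

theorem noFusionHyp (hm : 3 ≤ m) : NoFusionHyp m F := by
  intro t ht H hM hcase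
  by_cases hex : Nat.card F = 2 ∧ m = 3
  · obtain ⟨hF, rfl⟩ := hex
    have two : (2 : F) = 0 := by
      rw [Nat.card_eq_fintype_card] at hF
      have h := Nat.cast_card_eq_zero F
      rw [hF] at h
      exact_mod_cast h
    rcases Nat.lt_or_ge t 3 with h | h
    · obtain rfl : t = 2 := by omega
      refine small_case hF H (fun w hw => hM w hw ?_) hcase
      haveI : Subsingleton Fˣ := by
        rw [← Finite.card_le_one_iff_subsingleton, Nat.card_units, hF]
      exact Subsingleton.elim _ _
    · exact le_wreath_exceptional two h hM hcase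
  · exact le_wreath_of_noFusion hm (by omega) hex hM hcase

theorem specialLinear_le (hm : 3 ≤ m) (ht : 1 ≤ t) {H : Subgroup (GL (Fin t → Fin m) F)} (hM : ContainsM H)
    (hH : ¬ H ≤ Geo.tensorWreathStandard m t F) : Geo.specialLinear (Fin t → Fin m) F ≤ H :=
  specialLinear_le_of_hyp hm (noFusionHyp hm) t ht H hM hH

theorem exists_el_not_mem (hm : 3 ≤ m) (ht : 2 ≤ t) :
    ∃ g ∈ Geo.specialLinear (Fin t → Fin m) F, g ∉ Geo.tensorWreathStandard m t F := by
  classical
  let z₀ : Fin t → Fin m := fun _ => ⟨0, by omega⟩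
  let z₁ : Fin t → Fin m := fun _ => ⟨1, by omega⟩
  have hz : z₀ ≠ z₁ := fun h => by simpa [z₀, z₁, Fin.ext_iff] using congrFun h ⟨0, by omega⟩
  refine ⟨Frame.el z₀ z₁ 1, det_tv _ _, fun hW => ?_⟩
  have hval : (Frame.el z₀ z₁ (1 : F)).val - 1 = vecMulVec (Pi.single z₀ 1) (Pi.single z₁ 1) := by
    rw [Frame.el, tv_coe (Frame.el_ortho hz 1), add_sub_cancel_left]
  have h2 : ((Frame.el z₀ z₁ (1 : F)).val - 1) * ((Frame.el z₀ z₁ (1 : F)).val - 1) = 0 := by
    rw [hval, vecMulVec_mul_vecMulVec, Frame.el_ortho hz 1, zero_smul, vecMulVec_zero]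
  have hr : ((Frame.el z₀ z₁ (1 : F)).val - 1).rank ≤ 1 := hval ▸ rank_vecMulVec_le _ _
  have hpos : 1 < m ^ (t - 1) := Nat.one_lt_pow (by omega) (by omega)
  rcases root_class hm (by omega) hW h2 (hr.trans hpos.le) with h | ⟨i, A, hA, h⟩ | ⟨two, hm3, gs, k, l, hkl, h⟩
  · rw [h, Units.val_one, sub_self] at hval
    have h' := congrFun (congrFun hval z₀) z₁
    simp [vecMulVec_apply] at h'
  · rw [h, add_sub_cancel_left, rank_slot, hA.1, mul_one] at hr
    omega
  · -- the diagonal entries are one, so every diagonal entry of every factor is non-zero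
    have hdiag : ∀ x : Fin t → Fin m, (Frame.el z₀ z₁ (1 : F)).val x x = 1 := fun x => by
      rw [Frame.el, tv_coe (Frame.el_ortho hz 1)]
      by_cases hx : x = z₀
      · subst hx; simp [vecMulVec_apply, hz]
      · simp [vecMulVec_apply, hx]
    let a : Fin m := ⟨0, by omega⟩
    let b : Fin m := ⟨1, by omega⟩
    have hab : a ≠ b := by simp [a, b, Fin.ext_iff]
    have hne : ∀ i (u v : Fin m), (i = k ∨ i = l) → (gs i : Matrix (Fin m) (Fin m) F) u v ≠ 0 := by
      intro i u v hi
      rcases hi with hi | hi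
      · rw [hi]
        have h1 := hdiag (Function.update (fun _ => v) k u)
        rw [h, wreath_apply] at h1
        have h3 := (Finset.prod_ne_zero_iff.mp (h1 ▸ one_ne_zero)) k (Finset.mem_univ _)
        rwa [Function.update_self, Equiv.symm_swap, Equiv.swap_apply_left, Function.update_of_ne (Ne.symm hkl)] at h3
      · rw [hi]
        have h1 := hdiag (Function.update (fun _ => v) l u)
        rw [h, wreath_apply] at h1
        have h3 := (Finset.prod_ne_zero_iff.mp (h1 ▸ one_ne_zero)) l (Finset.mem_univ _)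
        rwa [Function.update_self, Equiv.symm_swap, Equiv.swap_apply_right, Function.update_of_ne hkl] at h3
    -- an entry off the diagonal
    let x : Fin t → Fin m := fun _ => a
    let y : Fin t → Fin m := Function.update x k b
    have hxy : x ≠ y := fun e => hab (by simpa [x, y] using congrFun e k)
    have hzero : (Frame.el z₀ z₁ (1 : F)).val x y = 0 := by
      rw [Frame.el, tv_coe (Frame.el_ortho hz 1)]
      have hyz : y ≠ z₁ := fun e => hab (by
        haveI : Nontrivial (Fin t) := Fin.nontrivial_iff_two_le.mpr ht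
        obtain ⟨j, hj⟩ := exists_ne k
        have h := congrFun e j
        simp [y, x, z₁, hj, a] at h)
      simp [vecMulVec_apply, hxy, hyz]
    rw [h, wreath_apply, Finset.prod_eq_zero_iff] at hzero
    obtain ⟨i, -, hi⟩ := hzero
    by_cases hik : i = k ∨ i = l
    · exact hne i _ _ hik hi
    · push Not at hik
      rw [Equiv.symm_swap, Equiv.swap_apply_of_ne_of_ne hik.1 hik.2] at hi
      have h1 := hdiag x
      rw [h, wreath_apply] at h1
      have h3 := (Finset.prod_ne_zero_iff.mp (h1 ▸ one_ne_zero)) i (Finset.mem_univ _)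
      rw [Equiv.symm_swap, Equiv.swap_apply_of_ne_of_ne hik.1 hik.2] at h3
      simp [y, hik.1] at hi
      exact h3 hi

theorem tensorWreath_maximal {n : ℕ} (hm : 3 ≤ m) (ht : 2 ≤ t) (e : Fin n ≃ (Fin t → Fin m)) (P : GL (Fin n) F) :
    Geo.IsMaximalIn (Geo.specialLinear (Fin n) F)
      (Geo.tensorWreathSubgroup m t e P ⊓ Geo.specialLinear (Fin n) F) := by
  let φ : GL (Fin t → Fin m) F ≃* GL (Fin n) F := (Geo.glReindex e.symm).trans (MulAut.conj P)
  have hφ : ∀ g, φ g ∈ Geo.tensorWreathSubgroup m t e P ↔ g ∈ Geo.tensorWreathStandard m t F := by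
    intro g
    constructor
    · rintro ⟨_, ⟨w, hw, rfl⟩, h⟩
      have : φ w = φ g := h
      exact φ.injective this ▸ hw
    · exact fun h => ⟨_, ⟨g, h, rfl⟩, rfl⟩
  have hdet : ∀ g, φ g ∈ Geo.specialLinear (Fin n) F ↔ g ∈ Geo.specialLinear (Fin t → Fin m) F := by
    intro g
    show Matrix.GeneralLinearGroup.det (P * Geo.glReindex e.symm g * P⁻¹) = 1 ↔ Matrix.GeneralLinearGroup.det g = 1
    rw [det_eq_one_iff, Units.ext_iff, Units.ext_iff, Matrix.GeneralLinearGroup.val_det_apply,
      Matrix.GeneralLinearGroup.val_det_apply]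
    show (Matrix.reindexAlgEquiv F F e.symm g.val).det = _ ↔ _
    rw [Matrix.det_reindexAlgEquiv]
  refine ⟨lt_of_le_of_ne inf_le_right fun hEq => ?_, fun M hle hMK => ?_⟩
  · obtain ⟨g, hg, hgW⟩ := exists_el_not_mem (F := F) hm ht
    have : φ g ∈ Geo.tensorWreathSubgroup m t e P ⊓ Geo.specialLinear (Fin n) F := hEq.ge ((hdet g).mpr hg)
    exact hgW ((hφ g).mp this.1)
  · let H := M.comap φ.toMonoidHom
    have hHM : ContainsM H := fun w hw hd => hle ⟨(hφ w).mpr hw, (hdet w).mpr hd⟩
    by_cases hH : H ≤ Geo.tensorWreathStandard m t F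
    · refine Or.inl (le_antisymm (fun g hg => ⟨?_, hMK hg⟩) hle)
      have h1 : φ.symm g ∈ H := show φ (φ.symm g) ∈ M by rw [φ.apply_symm_apply]; exact hg
      have := (hφ _).mpr (hH h1)
      rwa [φ.apply_symm_apply] at this
    · refine Or.inr (le_antisymm hMK fun g hg => ?_)
      have h1 : φ.symm g ∈ Geo.specialLinear (Fin t → Fin m) F := (hdet _).mp (by rw [φ.apply_symm_apply]; exact hg)
      have h2 : φ (φ.symm g) ∈ M := specialLinear_le hm (by omega) hHM hH h1
      rwa [φ.apply_symm_apply] at h2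

end Cfsg.Agent.WreathMax
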