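import Cfsg.Agent.WreathMax.Basic
import Cfsg.Agent.MaxSub.Asch.PowerGram
import Cfsg.Agent.MaxSub.Alt

/-!
Transport of a standard tensor power model to a given decomposition, and maximality from the model (helper56).

`exists_transfer` needs only a basis `col` in which the small form has the Gram matrix `G`; `isMaximalIn_of_transfer`
reduces maximality in an arbitrary subgroup `K` to the corresponding statement in the model.
-/

set_option autoImplicit false
set_option linter.unusedSectionVars false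

namespace Cfsg.Agent.WreathMax

open Matrix Cfsg.Agent.MaxSub Cfsg.Agent.MaxSub.Asch Cfsg.Agent.FG75.SpinTensor

variable {F : Type*} [Field F] {k t : ℕ} {ι : Type} [Fintype ι] [DecidableEq ι]

/-- A form that is additive and semilinear is given by its Gram matrix. -/
theorem eq_gram (σ : F →+* F) {f₁ : (Fin k → F) → (Fin k → F) → F}
    (h₁ : ∀ x y v, f₁ (x + y) v = f₁ x v + f₁ y v) (h₂ : ∀ (c : F) x v, f₁ (c • x) v = c * f₁ x v)
    (h₃ : ∀ v x y, f₁ v (x + y) = f₁ v x + f₁ v y) (h₄ : ∀ (c : F) v x, f₁ v (c • x) = σ c * f₁ v x)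
    (u v : Fin k → F) : f₁ u v = u ⬝ᵥ (Geo.gramMatrix f₁ *ᵥ (σ ∘ v)) := by
  let L : (Fin k → F) →ₛₗ[σ] (Fin k → F) →ₗ[F] F :=
    LinearMap.mk₂'ₛₗ σ (RingHom.id F) (fun x y => f₁ y x)
      (fun _ _ _ => h₃ _ _ _) (fun _ _ _ => h₄ _ _ _) (fun _ _ _ => h₁ _ _ _) (fun _ _ _ => h₂ _ _ _)
  show L v u = _
  conv_lhs => rw [pi_eq_sum_univ' u, pi_eq_sum_univ' v]
  simp only [map_sum, map_smulₛₗ, LinearMap.sum_apply, LinearMap.smul_apply, RingHom.id_apply, smul_eq_mul,
    dotProduct, Matrix.mulVec, Finset.mul_sum, Function.comp_apply]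
  exact Finset.sum_congr rfl fun a _ => Finset.sum_congr rfl fun b _ => by
    simp only [show ∀ x y, L x y = f₁ y x from fun _ _ => rfl, Geo.gramMatrix]
    ring

/-- The data transporting the standard model to the given decomposition. -/
structure Transfer (f : (ι → F) → (ι → F) → F) (σ : F → F) (G : Matrix (Fin k) (Fin k) F) (e : ι ≃ (Fin t → Fin k))
    (P : GL ι F) where
  /-- The isomorphism of the linear groups. -/
  Φ : GL (Fin t → Fin k) F ≃* GL ι F
  /-- The isomorphism of the spaces. -/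
  L : ((Fin t → Fin k) → F) ≃ₗ[F] (ι → F)
  /-- The constant of the similarity. -/
  c : F
  c_ne : c ≠ 0
  map_mulVec : ∀ (Y : GL (Fin t → Fin k) F) v,
    (Φ Y : Matrix ι ι F) *ᵥ L v = L ((Y : Matrix (Fin t → Fin k) (Fin t → Fin k) F) *ᵥ v)
  mem_wreath : ∀ Y, Φ Y ∈ Geo.tensorWreathSubgroup k t e P ↔ Y ∈ Geo.tensorWreathStandard k t F
  det_eq : ∀ Y, Matrix.GeneralLinearGroup.det (Φ Y) = Matrix.GeneralLinearGroup.det Y
  form : ∀ x y, f (L x) (L y) = c * (x ⬝ᵥ (tens (fun _ : Fin t => G) *ᵥ (σ ∘ y)))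

/-- A basis with Gram matrix `G` gives a transfer. -/
theorem exists_transfer (σ : F →+* F) {f : (ι → F) → (ι → F) → F} {f₁ : (Fin k → F) → (Fin k → F) → F}
    {e : ι ≃ (Fin t → Fin k)} {P : GL ι F} (hT : Geo.IsTensorPowerFormStructure σ f f₁ e P)
    (hΓ : ∀ u v, f₁ u v = u ⬝ᵥ (Geo.gramMatrix f₁ *ᵥ (σ ∘ v)))
    {G : Matrix (Fin k) (Fin k) F} (hG : G.det ≠ 0) (col : Fin k → Fin k → F)
    (hcol : ∀ a b, f₁ (col a) (col b) = G a b) :
    Nonempty (Transfer f σ G e P) := by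
  classical
  obtain ⟨c₀, hc₀, hT⟩ := hT
  set Γ := Geo.gramMatrix f₁ with hΓdef
  set R : Matrix (Fin k) (Fin k) F := Matrix.of fun a i => col i a with hR
  have hRG : Rᵀ * Γ * R.map σ = G := by
    refine Matrix.ext fun i j => ?_
    rw [← hcol, hΓ, mul_assoc]
    simp only [Matrix.mul_apply, Matrix.mulVec, dotProduct, hR, Matrix.transpose_apply, Matrix.of_apply,
      Matrix.map_apply, Function.comp_apply]
  have hRdet : R.det ≠ 0 := fun h0 => hG (by
    rw [← hRG, Matrix.det_mul, Matrix.det_mul, Matrix.det_transpose, h0, zero_mul, zero_mul])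
  let r : GL (Fin k) F := Matrix.GeneralLinearGroup.mkOfDetNeZero R hRdet
  let T : GL (Fin t → Fin k) F := tensGL fun _ => r
  let Φ : GL (Fin t → Fin k) F ≃* GL ι F :=
    (MulAut.conj T).trans ((Geo.glReindex e.symm).trans (MulAut.conj P))
  let L : ((Fin t → Fin k) → F) →ₗ[F] (ι → F) :=
    { toFun := fun v => (P : Matrix ι ι F) *ᵥ (((T : Matrix (Fin t → Fin k) (Fin t → Fin k) F) *ᵥ v) ∘ e)
      map_add' := fun x y => by
        show P.val *ᵥ ((T.val *ᵥ (x + y)) ∘ e) = P.val *ᵥ ((T.val *ᵥ x) ∘ e) + P.val *ᵥ ((T.val *ᵥ y) ∘ e)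
        rw [← Matrix.mulVec_add P.val, Matrix.mulVec_add T.val]
        rfl
      map_smul' := fun a x => by
        show P.val *ᵥ ((T.val *ᵥ (a • x)) ∘ e) = a • (P.val *ᵥ ((T.val *ᵥ x) ∘ e))
        rw [← Matrix.mulVec_smul P.val, Matrix.mulVec_smul T.val]
        rfl }
  have hLv : ∀ v, L v = (P : Matrix ι ι F) *ᵥ (((T : Matrix (Fin t → Fin k) (Fin t → Fin k) F) *ᵥ v) ∘ e) :=
    fun v => rfl
  have hL : ∀ (Y : GL (Fin t → Fin k) F) v,
      (Φ Y : Matrix ι ι F) *ᵥ L v = L ((Y : Matrix (Fin t → Fin k) (Fin t → Fin k) F) *ᵥ v) := by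
    intro Y v
    simp only [hLv, Φ, MulEquiv.trans_apply, MulAut.conj_apply, Units.val_mul]
    rw [Matrix.mulVec_mulVec, mul_assoc, mul_assoc, Units.inv_mul, mul_one, ← Matrix.mulVec_mulVec]
    congr 1
    show (Matrix.reindex e.symm e.symm (T.val * Y.val * (T⁻¹ : GL (Fin t → Fin k) F).val)) *ᵥ _ = _
    rw [Matrix.reindex_apply, Matrix.submatrix_mulVec_equiv]
    simp only [Equiv.symm_symm, Function.comp_assoc, Equiv.self_comp_symm, Function.comp_id]
    rw [Matrix.mulVec_mulVec, mul_assoc _ _ T.val, Units.inv_mul, mul_one, Matrix.mulVec_mulVec]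
  have hLbij : Function.Bijective L := by
    refine Function.bijective_iff_has_inverse.mpr
      ⟨fun w => (T⁻¹ : GL (Fin t → Fin k) F).val *ᵥ (((P⁻¹ : GL ι F).val *ᵥ w) ∘ e.symm), fun v => ?_, fun w => ?_⟩
    · simp only [hLv, Matrix.mulVec_mulVec, Units.inv_mul, Matrix.one_mulVec, Function.comp_assoc,
        Equiv.self_comp_symm, Function.comp_id]
    · simp only [hLv, Matrix.mulVec_mulVec, Units.mul_inv, Matrix.one_mulVec, Function.comp_assoc,
        Equiv.symm_comp_self, Function.comp_id]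
  refine ⟨⟨Φ, LinearEquiv.ofBijective L hLbij, c₀, hc₀, hL, fun Y => ?_, fun Y => ?_, fun x y => ?_⟩⟩
  · have hTm : T ∈ Geo.tensorWreathStandard k t F := tensGL_mem _
    constructor
    · rintro ⟨_, ⟨w, hw, rfl⟩, h⟩
      have h' : Φ (T⁻¹ * w * T) = Φ Y := Eq.trans (by simp [Φ, mul_assoc]) h
      exact Φ.injective h' ▸ mul_mem (mul_mem (inv_mem hTm) hw) hTm
    · exact fun h => ⟨_, ⟨T * Y * T⁻¹, mul_mem (mul_mem hTm h) (inv_mem hTm), rfl⟩, rfl⟩
  · show Matrix.GeneralLinearGroup.det (P * Geo.glReindex e.symm (T * Y * T⁻¹) * P⁻¹) = _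
    have hre : ∀ Z : GL (Fin t → Fin k) F,
        Matrix.GeneralLinearGroup.det (Geo.glReindex e.symm Z) = Matrix.GeneralLinearGroup.det Z := fun Z =>
      Units.ext (Matrix.det_reindexAlgEquiv F F e.symm Z.val)
    rw [map_mul, map_mul, map_inv, mul_right_comm, mul_inv_cancel, one_mul, hre, map_mul, map_mul, map_inv,
      mul_right_comm, mul_inv_cancel, one_mul]
  · show f (L x) (L y) = _
    rw [hLv, hLv, hT]
    congr 1
    have hsum : ∀ X Y : (Fin t → Fin k) → F,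
        (∑ a, ∑ b, X a * (∏ i, Γ (a i) (b i)) * σ (Y b)) =
          X ⬝ᵥ (tens (fun _ : Fin t => Γ) *ᵥ (σ ∘ Y)) := fun X Y => by
      simp [dotProduct, Matrix.mulVec, Finset.mul_sum, tens_apply, mul_assoc]
    have hmap : σ ∘ (T.val *ᵥ y) = (T.val.map σ) *ᵥ (σ ∘ y) :=
      funext fun a => RingHom.map_mulVec σ T.val y a
    rw [hsum, hmap, Matrix.mulVec_mulVec, ← Matrix.vecMul_transpose, ← Matrix.dotProduct_mulVec,
      Matrix.mulVec_mulVec, ← mul_assoc]
    congr 2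
    show (tens fun _ : Fin t => R)ᵀ * tens (fun _ => Γ) * (tens (fun _ => R)).map σ = _
    rw [tens_transpose, tens_map, tens_mul, tens_mul]
    congr 1
    funext _
    exact hRG

variable {f : (ι → F) → (ι → F) → F} {σ : F → F} {G : Matrix (Fin k) (Fin k) F} {e : ι ≃ (Fin t → Fin k)}
  {P : GL ι F}

/-- Isometries of `f` are the isometries of the model. -/
theorem Transfer.mem_isom (T : Transfer f σ G e P) (Y : GL (Fin t → Fin k) F) :
    T.Φ Y ∈ isom f ↔ Y ∈ isom fun x y => x ⬝ᵥ (tens (fun _ : Fin t => G) *ᵥ (σ ∘ y)) := by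
  rw [MaxSub.mem_isom, MaxSub.mem_isom]
  constructor
  · intro h x y
    have h1 := h (T.L x) (T.L y)
    rw [T.map_mulVec, T.map_mulVec, T.form, T.form] at h1
    exact mul_left_cancel₀ T.c_ne h1
  · intro h u v
    obtain ⟨x, rfl⟩ := T.L.surjective u
    obtain ⟨y, rfl⟩ := T.L.surjective v
    rw [T.map_mulVec, T.map_mulVec, T.form, T.form, h]

/-- Maximality of the stabiliser in `K` from the model. -/
theorem Transfer.isMaximalIn (T : Transfer f σ G e P) (K : Subgroup (GL ι F))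
    (hproper : ¬ K.comap T.Φ.toMonoidHom ≤ Geo.tensorWreathStandard k t F)
    (hcore : ∀ H ≤ K.comap T.Φ.toMonoidHom,
      (∀ w ∈ Geo.tensorWreathStandard k t F, w ∈ K.comap T.Φ.toMonoidHom → w ∈ H) →
      ¬ H ≤ Geo.tensorWreathStandard k t F → K.comap T.Φ.toMonoidHom ≤ H) :
    Geo.IsMaximalIn K (Geo.tensorWreathSubgroup k t e P ⊓ K) := by
  refine ⟨lt_of_le_of_ne inf_le_right fun hEq => hproper fun Y hY => ?_, fun M hle hMK => ?_⟩
  · exact (T.mem_wreath Y).mp (hEq.ge hY).1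
  by_cases hH : M.comap T.Φ.toMonoidHom ≤ Geo.tensorWreathStandard k t F
  · refine Or.inl (le_antisymm (fun g hg => ⟨?_, hMK hg⟩) hle)
    obtain ⟨Y, rfl⟩ := T.Φ.surjective g
    exact (T.mem_wreath Y).mpr (hH hg)
  · refine Or.inr (le_antisymm hMK fun g hg => ?_)
    obtain ⟨Y, rfl⟩ := T.Φ.surjective g
    exact hcore _ (fun Z hZ => hMK hZ) (fun w hw hw' => hle ⟨(T.mem_wreath w).mpr hw, hw'⟩) hH hg

end Cfsg.Agent.WreathMax
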