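import Cfsg.Agent.WreathMax.Block
import Cfsg.Agent.TensorMax.Linear

/-!
Overgroups of the tensor wreath stabiliser in the special linear group (helper1).
-/

set_option autoImplicit false
set_option linter.unusedSectionVars false

namespace Cfsg.Agent.WreathMax

open Matrix Cfsg.Agent.MaxSub Cfsg.Agent.MaxSub.Asch Cfsg.Agent.FG75.SpinTensor
open scoped Kronecker

variable {F : Type*} [Field F] [Fintype F] {m t : ℕ}

/-- The statement that overgroups without fusion are trivial. -/
def NoFusionHyp (m : ℕ) (F : Type*) [Field F] [Fintype F] : Prop :=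
  ∀ t, 2 ≤ t → ∀ H : Subgroup (GL (Fin t → Fin m) F), ContainsM H → NoRootFusion H →
    H ≤ Geo.tensorWreathStandard m t F

theorem exists_conj_single {A : Matrix (Fin m) (Fin m) F} (hA : IsRootNil A) {o w : Fin m} (how : o ≠ w) :
    ∃ P : GL (Fin m) F, P.val * Matrix.single o w 1 * (P⁻¹).val = A := by
  classical
  obtain ⟨v, φ, hv, hφ, hφv, rfl⟩ := hA.exists_vecMulVec
  haveI : Nontrivial (Fin m) := ⟨o, w, how⟩
  obtain ⟨P₁, -, hP₁⟩ := TensorMax.exists_det_one_map (F := F) (ι := Fin m)
    (by rw [Fintype.card_fin]; exact Fin.nontrivial_iff_two_le.mp inferInstance)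
    (show (Pi.single o 1 : Fin m → F) ≠ 0 by simp) hv
  set ψ := φ ᵥ* P₁.val with hψ
  have hψo : ψ o = 0 := by
    have : ψ ⬝ᵥ Pi.single o 1 = 0 := by rw [hψ, ← dotProduct_mulVec, hP₁, hφv]
    simpa using this
  obtain ⟨k, hk⟩ : ∃ k, ψ k ≠ 0 := by
    by_contra hc
    push Not at hc
    refine hφ ?_
    have := congrArg (· ᵥ* (P₁⁻¹).val) (show ψ = 0 from funext hc)
    simpa [hψ, vecMul_vecMul] using this
  have hko : k ≠ o := fun h => hk (h ▸ hψo)
  set σ : Equiv.Perm (Fin m) := Equiv.swap k w
  set ψ' : Fin m → F := fun j => ψ (σ j) with hψ'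
  have hσo : σ o = o := Equiv.swap_apply_of_ne_of_ne (Ne.symm hko) how
  have hψ'w : ψ' w = ψ k := by simp [hψ', σ]
  set β : Fin m → F := (ψ k)⁻¹ • (Pi.single w 1 - ψ') with hβ
  have hβo : β o = 0 := by simp [hβ, hψ', hσo, hψo, how]
  let Q : Matrix (Fin m) (Fin m) F := 1 + vecMulVec (Pi.single w 1) β
  have hQdet : IsUnit Q.det := by
    show IsUnit (1 + vecMulVec (Pi.single w (1 : F)) β).det
    rw [vecMulVec_eq Unit, det_one_add_replicateCol_mul_replicateRow, dotProduct_single_one]
    simp only [hβ, Pi.smul_apply, Pi.sub_apply, Pi.single_eq_same, hψ'w, smul_eq_mul, mul_sub, mul_one,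
      inv_mul_cancel₀ hk, add_sub_cancel]
    exact (inv_ne_zero hk).isUnit
  obtain ⟨QU, hQU⟩ := (Matrix.isUnit_iff_isUnit_det Q).mpr hQdet
  let P0 : Matrix (Fin m) (Fin m) F := Matrix.of fun i j => if i = σ j then 1 else 0
  have hP0 : P0 * P0 = 1 := by
    ext i j
    simp [P0, Matrix.mul_apply, Matrix.one_apply, σ]
  let PU : GL (Fin m) F := ⟨P0, P0, hP0, hP0⟩
  refine ⟨P₁ * PU * QU, ?_⟩
  have hs : (Matrix.single o w 1 : Matrix (Fin m) (Fin m) F) = vecMulVec (Pi.single o 1) (Pi.single w 1) := by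
    ext i j
    by_cases h1 : o = i <;> by_cases h2 : w = j <;> simp [Matrix.single_apply, vecMulVec_apply, h1, h2, eq_comm]
  have h1 : (P₁ * PU * QU).val *ᵥ Pi.single o 1 = v := by
    rw [Units.val_mul, Units.val_mul, ← mulVec_mulVec, ← mulVec_mulVec, hQU]
    have e1 : Q *ᵥ Pi.single o 1 = Pi.single o 1 := by
      show (1 + vecMulVec (Pi.single w (1 : F)) β) *ᵥ Pi.single o 1 = _
      rw [add_mulVec, one_mulVec, vecMulVec_mulVec, dotProduct_single_one, hβo]
      simp
    have e2 : PU.val *ᵥ Pi.single o 1 = Pi.single o 1 := by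
      show P0 *ᵥ Pi.single o 1 = _
      funext i
      rw [Matrix.mulVec_single_one]
      simp [P0, hσo, Pi.single_apply]
    rw [e1, e2, hP₁]
  have h2 : φ ᵥ* (P₁ * PU * QU).val = Pi.single w 1 := by
    rw [Units.val_mul, Units.val_mul, ← vecMul_vecMul, ← vecMul_vecMul, ← hψ, hQU]
    have e : ψ ᵥ* PU.val = ψ' := by
      show ψ ᵥ* P0 = ψ'
      funext j
      simp [P0, Matrix.vecMul, dotProduct, hψ']
    rw [e]
    show ψ' ᵥ* (1 + vecMulVec (Pi.single w (1 : F)) β) = _
    rw [vecMul_add, vecMul_one, vecMul_vecMulVec, dotProduct_single_one, hψ'w, hβ, smul_inv_smul₀ hk, add_sub_cancel]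
  rw [hs, mul_vecMulVec, h1, ← h2, vecMulVec_mul, vecMul_vecMul, Units.mul_inv, vecMul_one]

theorem IsSlotRoot.exists_conj {u : GL (Fin (t + 1) → Fin m) F} (hu : IsSlotRoot u) {o w : Fin m} (how : o ≠ w) :
    ∃ x ∈ Geo.tensorWreathStandard m (t + 1) F,
      conjHom x (kz (Matrix.single o w (1 : F)) 1) = u.val - 1 := by
  obtain ⟨i, A, hA, hu⟩ := hu
  obtain ⟨P, hP⟩ := exists_conj_single hA how
  refine ⟨tensGL (fun _ => P) * factorPerm (Equiv.swap 0 i), mul_mem (tensGL_mem _) (factorPerm_mem _), ?_⟩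
  rw [← slot_zero_eq_kz, slot_conj_wreath, Equiv.swap_apply_left, hP, hu, add_sub_cancel_left]

theorem det_eq_one_iff {ι : Type} [Fintype ι] [DecidableEq ι] (x g : GL ι F) :
    Matrix.GeneralLinearGroup.det (x * g * x⁻¹) = Matrix.GeneralLinearGroup.det g := by
  simp [mul_comm (Matrix.GeneralLinearGroup.det x)]

theorem det_swap_sq {ι : Type} [Fintype ι] [DecidableEq ι] (a b : GL ι F) (ha : a * a = 1) (hb : b * b = 1) :
    Matrix.GeneralLinearGroup.det (a * b * a * b) = 1 := by
  have h1 := congrArg Matrix.GeneralLinearGroup.det ha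
  have h2 := congrArg Matrix.GeneralLinearGroup.det hb
  rw [map_mul, map_one] at h1 h2
  rw [map_mul, map_mul, map_mul, show ∀ p q : Fˣ, p * q * p * q = (p * p) * (q * q) from fun p q => by
    simp only [mul_assoc, mul_left_comm p q], h1, h2, one_mul]

/-- All slots belong to the algebra once one does. -/
theorem slots_mem {H : Subgroup (GL (Fin (t + 1) → Fin m) F)} (hM : ContainsM H) (hm : 3 ≤ m) {i : Fin t}
    (hi : ∀ M, slot i M ∈ eAlg hM hm) (k : Fin t) (M : Matrix (Fin m) (Fin m) F) : slot k M ∈ eAlg hM hm := by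
  classical
  by_cases hki : k = i
  · subst hki; exact hi M
  have hne : ∀ c d : Fin m, c ≠ d → slot k (Matrix.single c d (1 : F)) ∈ eAlg hM hm := by
    intro c d hcd
    have h0 := hi (Matrix.single c d 1) c d hcd
    obtain ⟨g, hg, hgv⟩ := h0
    set a : GL (Fin (t + 1) → Fin m) F := factorPerm (Equiv.swap 0 i.succ) with ha
    set b : GL (Fin (t + 1) → Fin m) F := factorPerm (Equiv.swap i.succ k.succ) with hb
    have haa : a * a = 1 := by rw [ha, factorPerm_mul, Equiv.swap_mul_self, factorPerm_one]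
    have hbb : b * b = 1 := by rw [hb, factorPerm_mul, Equiv.swap_mul_self, factorPerm_one]
    have hxW : a * b * a * b ∈ Geo.tensorWreathStandard m (t + 1) F :=
      mul_mem (mul_mem (mul_mem (factorPerm_mem _) (factorPerm_mem _)) (factorPerm_mem _)) (factorPerm_mem _)
    have hx := hM _ hxW (det_swap_sq a b haa hbb)
    refine mem_eAlg_of_inT hM hm hcd ⟨(a * b * a * b) * g * (a * b * a * b)⁻¹, mul_mem (mul_mem hx hg) (inv_mem hx), ?_⟩
    rw [Units.val_mul, Units.val_mul, hgv, conj_one_add, ← conjHom_apply]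
    have e1 : kz (Matrix.single c d (1 : F)) (slot i (Matrix.single c d 1)) =
        slot 0 (Matrix.single c d 1) * slot i.succ (Matrix.single c d 1) := by
      rw [slot_zero_eq_kz, slot_succ_eq_kz, kz_mul, mul_one, one_mul]
    have e2 : kz (Matrix.single c d (1 : F)) (slot k (Matrix.single c d 1)) =
        slot 0 (Matrix.single c d 1) * slot k.succ (Matrix.single c d 1) := by
      rw [slot_zero_eq_kz, slot_succ_eq_kz, kz_mul, mul_one, one_mul]
    have hperm : ∀ (σ : Equiv.Perm (Fin (t + 1))) (j : Fin (t + 1)) (A : Matrix (Fin m) (Fin m) F),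
        conjHom (factorPerm σ : GL (Fin (t + 1) → Fin m) F) (slot j A) = slot (σ j) A := fun σ j A => by
      rw [conjHom_apply, factorPerm_mul_slot, mul_assoc, Units.mul_inv, mul_one]
    congr 1
    rw [e1, e2, map_mul]
    simp only [conjHom_mul', ha, hb, hperm]
    have hk0 : (k.succ : Fin (t + 1)) ≠ 0 := Fin.succ_ne_zero k
    have hi0 : (i.succ : Fin (t + 1)) ≠ 0 := Fin.succ_ne_zero i
    have hik : (i.succ : Fin (t + 1)) ≠ k.succ := fun h => hki (Fin.succ_injective _ h).symm
    have f1 : Equiv.swap 0 i.succ (Equiv.swap i.succ k.succ (Equiv.swap 0 i.succ (Equiv.swap i.succ k.succ 0))) = k.succ := by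
      rw [Equiv.swap_apply_of_ne_of_ne hi0.symm hk0.symm, Equiv.swap_apply_left, Equiv.swap_apply_left,
        Equiv.swap_apply_of_ne_of_ne hk0 hik.symm]
    have f2 : Equiv.swap 0 i.succ (Equiv.swap i.succ k.succ (Equiv.swap 0 i.succ (Equiv.swap i.succ k.succ i.succ))) = 0 := by
      rw [Equiv.swap_apply_left, Equiv.swap_apply_of_ne_of_ne hk0 hik.symm, Equiv.swap_apply_right, Equiv.swap_apply_right]
    rw [f1, f2, slot_comm hk0]
  have hall : ∀ c d, slot k (Matrix.single c d (1 : F)) ∈ eAlg hM hm := by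
    intro c d
    by_cases hcd : c = d
    · subst hcd
      haveI : Nontrivial (Fin m) := Fin.nontrivial_iff_two_le.mpr (by omega)
      obtain ⟨e, he⟩ := exists_ne c
      rw [show Matrix.single c c (1 : F) = Matrix.single c e 1 * Matrix.single e c 1 by
        rw [Matrix.single_mul_single_same, mul_one], slot_mul']
      exact mul_mem (hne c e he.symm) (hne e c he)
    · exact hne c d hcd
  rw [Matrix.matrix_eq_sum_single M, slot_sum']
  refine sum_mem fun c _ => ?_
  rw [slot_sum']
  refine sum_mem fun d _ => ?_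
  rw [show Matrix.single c d (M c d) = M c d • Matrix.single c d (1 : F) by simp [Matrix.smul_single], slot_smul']
  exact Subalgebra.smul_mem _ (hall c d) _

/-- An algebra larger than the scalars gives all transvections. -/
theorem specialLinear_le_of_eAlg {H : Subgroup (GL (Fin (t + 1) → Fin m) F)} (hM : ContainsM H) (hm : 3 ≤ m)
    {X : Matrix (Fin t → Fin m) (Fin t → Fin m) F} (hX : X ∈ eAlg hM hm) (hX0 : ∀ c : F, X ≠ c • 1) :
    Geo.specialLinear (Fin (t + 1) → Fin m) F ≤ H := by
  classical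
  obtain ⟨i, hi⟩ := exists_slot_subset hm (eAlg_stable hM hm) hX hX0
  have htop : eAlg hM hm = ⊤ := eq_top_of_slots fun k M => slots_mem hM hm hi k M
  have hcross : ∀ x y : Fin (t + 1) → Fin m, x 0 ≠ y 0 → ∀ c : F, Frame.el x y c ∈ H := by
    intro x y hxy c
    obtain ⟨g, hg, hgv⟩ := (htop ▸ Algebra.mem_top : Matrix.single (Fin.tail x) (Fin.tail y) c ∈ eAlg hM hm) _ _ hxy
    have e : Frame.el x y c = g := by
      refine Units.ext ?_
      rw [hgv, Frame.el, tv_coe (Frame.el_ortho (fun h => hxy (by rw [h])) c)]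
      congr 1
      ext u v
      rw [vecMulVec_apply, kz_apply, Matrix.single_apply, Matrix.single_apply]
      by_cases h1 : u = x
      · subst h1
        by_cases h2 : v = y
        · subst h2; simp
        · rw [Pi.single_eq_of_ne h2, mul_zero]
          by_cases h3 : v 0 = y 0
          · rw [if_neg (c := Fin.tail u = Fin.tail u ∧ Fin.tail y = Fin.tail v), mul_zero]
            rintro ⟨-, h⟩
            exact h2 (by rw [← Fin.cons_self_tail v, ← Fin.cons_self_tail y, h3, h])
          · rw [if_neg (c := u 0 = u 0 ∧ y 0 = v 0) (fun h => h3 h.2.symm), zero_mul]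
      · rw [Pi.single_eq_of_ne h1, zero_mul]
        by_cases h3 : x 0 = u 0
        · rw [if_neg (c := Fin.tail x = Fin.tail u ∧ Fin.tail y = Fin.tail v), mul_zero]
          rintro ⟨h, -⟩
          exact h1 (by rw [← Fin.cons_self_tail u, ← Fin.cons_self_tail x, h3, h])
        · rw [if_neg (c := x 0 = u 0 ∧ y 0 = v 0) (fun h => h3 h.1), zero_mul]
    rw [e]; exact hg
  refine Frame.specialLinear_le_of_el_mem fun x y hxy c => ?_
  by_cases h0 : x 0 = y 0
  · haveI : Nontrivial (Fin m) := Fin.nontrivial_iff_two_le.mpr (by omega)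
    obtain ⟨e, he⟩ := exists_ne (x 0)
    let q : Fin (t + 1) → Fin m := Function.update x 0 e
    have hq : q 0 = e := by simp [q]
    refine TensorMax.el_trans (q := q) (fun h => he (by rw [← hq, ← h])) (fun h => he ?_) hxy
      (hcross x q (by rw [hq]; exact Ne.symm he)) (hcross q y (by rw [hq, ← h0]; exact he)) c
    rw [← hq, h, h0]
  · exact hcross x y h0 c

/-- Every overgroup of the stabiliser not inside it contains the special linear group. -/
theorem specialLinear_le_of_hyp (hm : 3 ≤ m) (hB : NoFusionHyp m F) :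
    ∀ t, 1 ≤ t → ∀ H : Subgroup (GL (Fin t → Fin m) F), ContainsM H →
      ¬ H ≤ Geo.tensorWreathStandard m t F → Geo.specialLinear (Fin t → Fin m) F ≤ H := by
  intro t
  induction t with
  | zero => intro h; omega
  | succ t ih =>
    intro _ H hM hH
    rcases Nat.eq_zero_or_pos t with rfl | ht
    · exact absurd (fun g _ => mem_wreath_one g) hH
    obtain ⟨g, hg, hgW, u, hu, hv⟩ : ∃ g ∈ H, g ∉ Geo.tensorWreathStandard m (t + 1) F ∧
        ∃ u, IsSlotRoot u ∧ IsSlotRoot (g⁻¹ * u * g) := by
      by_contra hc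
      push Not at hc
      exact hH (hB (t + 1) (by omega) H hM fun g hg hgW u hu => hc g hg hgW u hu)
    let o : Fin m := ⟨0, by omega⟩
    let w : Fin m := ⟨1, by omega⟩
    have how : o ≠ w := by simp [o, w, Fin.ext_iff]
    obtain ⟨x, hx, hxu⟩ := hu.exists_conj how
    obtain ⟨y, hy, hyv⟩ := hv.exists_conj how
    let H' : Subgroup (GL (Fin (t + 1) → Fin m) F) := H.map (MulAut.conj x⁻¹).toMonoidHom
    have hmap : ∀ k, k ∈ H → x⁻¹ * k * x ∈ H' := fun k hk => ⟨k, hk, by simp⟩
    have hM' : ContainsM H' := fun k hk hd => by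
      have := hmap _ (hM (x * k * x⁻¹) (mul_mem (mul_mem hx hk) (inv_mem hx)) (by rw [det_eq_one_iff, hd]))
      simpa [mul_assoc] using this
    set s := x⁻¹ * g * y with hs
    set N := kz (Matrix.single o w (1 : F)) (1 : Matrix (Fin t → Fin m) (Fin t → Fin m) F)
    have hcom : s.val * N = N * s.val := by
      have h1 : conjHom g (conjHom y N) = conjHom x N := by
        rw [hxu, hyv, map_sub, map_one, conjHom_apply, ← Units.val_mul, ← Units.val_mul]
        congr 2
        group
      have h2 : conjHom s N = N := by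
        rw [hs, conjHom_mul', conjHom_mul', h1, ← conjHom_mul', inv_mul_cancel]
        simp [conjHom_apply]
      rw [conjHom_apply] at h2
      conv_rhs => rw [← h2]
      rw [mul_assoc, Units.inv_mul, mul_one]
    have hsM : ∀ r, IsSlotRoot r → s * r * s⁻¹ ∈ H' := fun r hr => by
      obtain ⟨h1, h2⟩ := (hr.conj hy).mem
      have := hmap _ (mul_mem (mul_mem hg (hM _ h1 h2)) (inv_mem hg))
      simpa [hs, mul_assoc] using this
    refine conj_specialLinear_le x⁻¹ ?_
    show Geo.specialLinear _ F ≤ H'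
    rcases block_dichotomy hM' hm how hcom hsM with ⟨X, hX, hX0⟩ | ⟨k, S, hkS⟩
    · exact specialLinear_le_of_eAlg hM' hm hX hX0
    -- the element respects the first slot
    have hsW : s ∉ Geo.tensorWreathStandard m (t + 1) F := fun h => hgW (by
      have := mul_mem (mul_mem hx h) (inv_mem hy)
      simpa [hs, mul_assoc] using this)
    have hS : S ∉ Geo.tensorWreathStandard m t F := fun h => hsW (hkS ▸ kzU_mem k h)
    have ht2 : 2 ≤ t := by
      by_contra h
      obtain rfl : t = 1 := by omega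
      exact hS (mem_wreath_one S)
    let ι : GL (Fin t → Fin m) F →* GL (Fin (t + 1) → Fin m) F :=
      MonoidHom.mk' (fun B => kzU 1 B) fun B C => by rw [kzU_mul, one_mul]
    let HR : Subgroup (GL (Fin t → Fin m) F) := H'.comap ι
    have hMR : ContainsM HR := fun B hB hd => hM' _ (kzU_mem 1 hB) (kzU_det (map_one _) hd)
    have hroot : ∀ r, IsSlotRoot r → S * r * S⁻¹ ∈ HR := by
      intro r hr
      obtain ⟨i, A, hA, hr⟩ := hr
      obtain ⟨u', -, -, hu'⟩ := hA.exists_slotRoot i.succ
      have h1 := hsM u' ⟨_, _, hA, hu'⟩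
      have e : s * u' * s⁻¹ = kzU 1 (S * r * S⁻¹) := by
        have e1 : u' = kzU 1 r := Units.ext (by
          rw [hu', slot_succ_eq_kz, kzU_coe, hr, kz_add_right, Units.val_one, kz_one])
        have e2 : (kzU k S)⁻¹ = kzU k⁻¹ S⁻¹ := rfl
        rw [e1, hkS, e2, kzU_mul, kzU_mul, mul_one, mul_inv_cancel]
      show kzU 1 (S * r * S⁻¹) ∈ H'
      rw [← e]
      exact h1
    have hRW : ¬ HR ≤ Geo.tensorWreathStandard m t F := by
      intro hle
      refine hS (mem_wreath_of_roots hm (by omega) S fun i a b hab => ?_)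
      obtain ⟨c, -, hc⟩ := Finset.exists_mem_notMem_of_card_lt_card (s := ({a, b} : Finset (Fin m)))
        (t := Finset.univ) (lt_of_le_of_lt Finset.card_le_two (by rw [Finset.card_univ, Fintype.card_fin]; omega))
      simp only [Finset.mem_insert, Finset.mem_singleton, not_or] at hc
      obtain ⟨r, -, -, hr⟩ := (isRootNil_single (F := F) hab one_ne_zero).exists_slotRoot (t := t) i
      have hrroot : IsSlotRoot r := ⟨i, _, isRootNil_single hab one_ne_zero, hr⟩
      have hW := hle (hroot r hrroot)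
      have h2 := sq_zero_conj (g := S⁻¹) hrroot
      rw [inv_inv] at h2
      rcases root_class hm (by omega) hW h2.1 h2.2.le with h | ⟨j, B, hB, h⟩ | ⟨-, -, gs, p, q, hpq, h⟩
      · exfalso
        have := h2.2
        rw [h, Units.val_one, sub_self, Matrix.rank_zero] at this
        exact (pow_pos (show 0 < m by omega) (t - 1)).ne this
      · refine ⟨j, B, ?_⟩
        rw [Units.val_mul, Units.val_mul, hr, conj_one_add] at h
        rw [conjHom_apply]
        exact add_left_cancel h
      · exfalso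
        obtain ⟨r₁, -, -, hr₁⟩ := (isRootNil_single (F := F) (Ne.symm hc.1) one_ne_zero).exists_slotRoot (t := t) i
        obtain ⟨r₂, -, -, hr₂⟩ := (isRootNil_single (F := F) hc.2 one_ne_zero).exists_slotRoot (t := t) i
        have hW₁ := hle (hroot r₁ ⟨i, _, isRootNil_single (Ne.symm hc.1) one_ne_zero, hr₁⟩)
        have hW₂ := hle (hroot r₂ ⟨i, _, isRootNil_single hc.2 one_ne_zero, hr₂⟩)
        obtain ⟨g₁, σ₁, hg₁⟩ := exists_wreath_elem hW₁
        obtain ⟨g₂, σ₂, hg₂⟩ := exists_wreath_elem hW₂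
        have hcomm : r * (r₂ * r₁) = r₁ * r₂ := by
          refine Units.ext ?_
          simp only [Units.val_mul, hr, hr₁, hr₂, ← slot_one_add, ← slot_mul']
          congr 1
          have e1 : Matrix.single a b (1 : F) * Matrix.single c b 1 = 0 := Matrix.single_mul_single_of_ne (h := Ne.symm hc.2) ..
          have e2 : Matrix.single a b (1 : F) * Matrix.single a c 1 = 0 := Matrix.single_mul_single_of_ne (h := Ne.symm hab) ..
          have e3 : Matrix.single c b (1 : F) * Matrix.single a c 1 = 0 := Matrix.single_mul_single_of_ne (h := Ne.symm hab) ..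
          have e4 : Matrix.single a c (1 : F) * Matrix.single c b 1 = Matrix.single a b 1 := by
            rw [Matrix.single_mul_single_same, mul_one]
          simp only [mul_add, add_mul, one_mul, mul_one, e1, e2, e3, e4, mul_zero, add_zero]
          abel
        have hprod : (tensGL gs * factorPerm (Equiv.swap p q) : GL (Fin t → Fin m) F) *
            ((tensGL g₂ * factorPerm σ₂) * (tensGL g₁ * factorPerm σ₁)) =
            (tensGL g₁ * factorPerm σ₁) * (tensGL g₂ * factorPerm σ₂) := by
          rw [← h, ← hg₁, ← hg₂]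
          have := congrArg (fun X => S * X * S⁻¹) hcomm
          simpa [mul_assoc] using this
        rw [wreath_mul, wreath_mul, wreath_mul] at hprod
        have hsgn := congrArg Equiv.Perm.sign (perm_unique (show 2 ≤ m by omega) hprod)
        rw [map_mul, map_mul, map_mul, Equiv.Perm.sign_swap hpq, mul_comm (Equiv.Perm.sign σ₂)] at hsgn
        exact absurd (mul_eq_right.mp hsgn) (by decide)
    have hSL := ih (by omega) HR hMR hRW
    let z₀ : Fin t → Fin m := fun _ => o
    let z₁ : Fin t → Fin m := fun _ => w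
    have hz : z₀ ≠ z₁ := fun h => how (congrFun h ⟨0, ht⟩)
    have hel : Frame.el z₀ z₁ (1 : F) ∈ HR := hSL (det_tv _ _)
    -- move it onto the first slot
    let i₀ : Fin t := ⟨0, ht⟩
    let i₁ : Fin t := ⟨1, by omega⟩
    have hi : i₀ ≠ i₁ := by simp [i₀, i₁, Fin.ext_iff]
    set a : GL (Fin (t + 1) → Fin m) F := factorPerm (Equiv.swap 0 i₀.succ) with ha
    set b : GL (Fin (t + 1) → Fin m) F := factorPerm (Equiv.swap i₀.succ i₁.succ) with hb
    have haa : a * a = 1 := by rw [ha, factorPerm_mul, Equiv.swap_mul_self, factorPerm_one]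
    have hbb : b * b = 1 := by rw [hb, factorPerm_mul, Equiv.swap_mul_self, factorPerm_one]
    have hxW : a * b * a * b ∈ Geo.tensorWreathStandard m (t + 1) F :=
      mul_mem (mul_mem (mul_mem (factorPerm_mem _) (factorPerm_mem _)) (factorPerm_mem _)) (factorPerm_mem _)
    have hx' := hM' _ hxW (det_swap_sq a b haa hbb)
    set σ : Equiv.Perm (Fin (t + 1)) :=
      Equiv.swap 0 i₀.succ * Equiv.swap i₀.succ i₁.succ * Equiv.swap 0 i₀.succ * Equiv.swap i₀.succ i₁.succ with hσ
    have hσP : a * b * a * b = factorPerm σ := by rw [ha, hb, factorPerm_mul, factorPerm_mul, factorPerm_mul]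
    set Y : Fin (t + 1) → Matrix (Fin m) (Fin m) F := Fin.cons 1 fun _ => Matrix.single o w (1 : F) with hY
    have hσ0 : σ i₀.succ = 0 := by
      have hne : (i₁.succ : Fin (t + 1)) ≠ i₀.succ := fun e => hi (Fin.succ_injective _ e).symm
      simp only [hσ, Equiv.Perm.mul_apply, Equiv.swap_apply_left]
      rw [Equiv.swap_apply_of_ne_of_ne (Fin.succ_ne_zero _) hne, Equiv.swap_apply_right, Equiv.swap_apply_right]
    have hval : (a * b * a * b * ι (Frame.el z₀ z₁ (1 : F)) * (a * b * a * b)⁻¹).val =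
        1 + kz (Matrix.single o w 1) (tens fun j : Fin t => Y (σ.symm j.succ)) := by
      have h1 : (ι (Frame.el z₀ z₁ (1 : F))).val = 1 + tens Y := by
        show kz _ _ = _
        have h2 : (Frame.el z₀ z₁ (1 : F)).val = 1 + tens fun _ : Fin t => Matrix.single o w (1 : F) := by
          rw [Frame.el, tv_coe (Frame.el_ortho hz 1)]
          congr 1
          ext u v
          rw [vecMulVec_apply, ← single_eq_tens z₀ z₁, Matrix.single_apply]
          by_cases h1 : z₀ = u <;> by_cases h2 : z₁ = v <;> simp [h1, h2, Pi.single_apply, eq_comm]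
        rw [h2, kz_add_right, Units.val_one, kz_one, tens_eq_kz Y]
        simp [hY]
      have e : tens (fun j => Y (σ.symm j)) = kz (Matrix.single o w 1) (tens fun j : Fin t => Y (σ.symm j.succ)) := by
        rw [tens_eq_kz]
        rw [(Equiv.symm_apply_eq σ).mpr hσ0.symm]
        rfl
      rw [Units.val_mul, Units.val_mul, h1, conj_one_add, hσP, factorPerm_mul_tens, mul_assoc, Units.mul_inv, mul_one, e]
    refine specialLinear_le_of_eAlg hM' hm
      (mem_eAlg_of_inT hM' hm how ⟨_, mul_mem (mul_mem hx' hel) (inv_mem hx'), hval⟩) fun c hc => ?_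
    -- not a scalar
    have h01 : σ i₁.succ ≠ 0 := fun e => hi (Fin.succ_injective _ (σ.injective (hσ0.trans e.symm)))
    obtain ⟨j, hj⟩ := Fin.exists_succ_eq.mpr h01
    set Z : Fin t → Matrix (Fin m) (Fin m) F := fun j => Y (σ.symm j.succ)
    have hZj : Z j = Matrix.single o w 1 := by
      show Y (σ.symm j.succ) = _
      rw [hj, Equiv.symm_apply_apply, hY]; rfl
    have hsq : tens Z * tens Z = 0 := by
      rw [tens_mul]
      exact tens_eq_zero (l := j) (by rw [Pi.mul_apply, hZj, Matrix.single_mul_single_of_ne (h := Ne.symm how)])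
    have hc0 : c = 0 := by
      have h := congrFun (congrFun hsq z₀) z₀
      rw [hc] at h
      simpa using h
    rw [hc0, zero_smul] at hc
    have hex : ∀ l, ∃ p q, Z l p q ≠ 0 := by
      intro l
      obtain h | ⟨l', h⟩ := Fin.eq_zero_or_eq_succ (σ.symm l.succ)
      · exact ⟨o, o, by show Y (σ.symm l.succ) o o ≠ 0; rw [h, hY]; simp⟩
      · exact ⟨o, w, by show Y (σ.symm l.succ) o w ≠ 0; rw [h, hY]; simp⟩
    choose p q hpq using hex
    have h := congrFun (congrFun hc p) q
    rw [tens_apply, Matrix.zero_apply] at h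
    exact Finset.prod_ne_zero_iff.mpr (fun l _ => hpq l) h

end Cfsg.Agent.WreathMax
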