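import Cfsg.Agent.WreathMax.Basic

/-!
A matrix conjugating the transvections of slots into slots lies in the stabiliser (helper1).
-/

set_option autoImplicit false
set_option linter.unusedSectionVars false

namespace Cfsg.Agent.WreathMax

open Matrix Cfsg.Agent.MaxSub.Asch Cfsg.Agent.FG75.SpinTensor
open scoped Kronecker

variable {F : Type*} [Field F] {m t : ℕ}

/-- The action in one slot as a homomorphism of algebras. -/
def slotHom (i : Fin t) : Matrix (Fin m) (Fin m) F →ₐ[F] Matrix (Fin t → Fin m) (Fin t → Fin m) F :=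
  AlgHom.ofLinearMap
    { toFun := slot i
      map_add' := slot_add' i
      map_smul' := slot_smul' i }
    (slot_one' i) (slot_mul' i)

theorem slotHom_apply (i : Fin t) (A : Matrix (Fin m) (Fin m) F) : slotHom i A = slot i A := rfl

theorem slot_eq_smul_one {i : Fin t} (hm : 0 < m) {A : Matrix (Fin m) (Fin m) F} {c : F}
    (h : slot i A = c • 1) : A = c • 1 := slot_injective hm i (h.trans (slot_smul_one i c).symm)

theorem single_not_scalar {a b : Fin m} (hab : a ≠ b) (c : F) : Matrix.single a b (1 : F) ≠ c • 1 := by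
  intro h
  have := congrFun (congrFun h a) b
  simp [hab] at this

/-- A matrix conjugating every unit of every slot into a slot lies in the stabiliser. -/
theorem mem_wreath_of_roots (hm : 3 ≤ m) (ht : 1 ≤ t) (g : GL (Fin t → Fin m) F)
    (h : ∀ i (a b : Fin m), a ≠ b → ∃ j B, conjHom g (slot i (Matrix.single a b 1)) = slot j B) :
    g ∈ Geo.tensorWreathStandard m t F := by
  classical
  haveI : Nonempty (Fin m) := ⟨⟨0, by omega⟩⟩
  choose σ₀ B hB using h
  have hinj : Function.Injective (conjHom g) := fun X Y e => by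
    have := congrArg (conjHom g⁻¹) e
    simpa [conjHom_apply, mul_assoc] using this
  have hstep : ∀ i (a b c : Fin m) (hab : a ≠ b) (hbc : b ≠ c), σ₀ i a b hab = σ₀ i b c hbc := by
    intro i a b c hab hbc
    by_contra hne
    have hcom : Commute (conjHom g (slot i (Matrix.single a b 1))) (conjHom g (slot i (Matrix.single b c 1))) := by
      rw [hB i a b hab, hB i b c hbc]; exact slot_comm hne _ _
    have h1 : slot i (Matrix.single a b (1 : F)) * slot i (Matrix.single b c 1) =
        slot i (Matrix.single b c 1) * slot i (Matrix.single a b 1) :=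
      hinj (by rw [map_mul, map_mul]; exact hcom.eq)
    rw [← slot_mul', ← slot_mul'] at h1
    have h2 := congrFun (congrFun (slot_injective (by omega) i h1) a) c
    simp [Matrix.mul_apply, Matrix.single_apply, hab.symm] at h2
  have hall : ∀ i (a b a' b' : Fin m) (hab : a ≠ b) (hab' : a' ≠ b'), σ₀ i a b hab = σ₀ i a' b' hab' := by
    intro i a b a' b' hab hab'
    by_cases hba : b = a'
    · subst hba; exact hstep i a b b' hab hab'
    · rw [hstep i a b a' hab hba, hstep i b a' b' hba hab']
  let p : Fin m := ⟨0, by omega⟩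
  let q : Fin m := ⟨1, by omega⟩
  have hpq : p ≠ q := by simp [p, q, Fin.ext_iff]
  let σ : Fin t → Fin t := fun i => σ₀ i p q hpq
  have hoff : ∀ i a b, a ≠ b → conjHom g (slot i (Matrix.single a b 1)) ∈ (slotHom (σ i)).range := by
    intro i a b hab
    rw [hB i a b hab, hall i a b p q hab hpq]
    exact ⟨_, rfl⟩
  have hrange : ∀ i M, conjHom g (slot i M) ∈ (slotHom (σ i)).range := by
    intro i M
    let S : Subalgebra F (Matrix (Fin m) (Fin m) F) :=
      ((slotHom (σ i)).range).comap ((conjHom g).comp (slotHom i))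
    have hS : ∀ a b, Matrix.single a b (1 : F) ∈ S := by
      intro a b
      by_cases hab : a = b
      · subst hab
        haveI : Nontrivial (Fin m) := Fin.nontrivial_iff_two_le.mpr (by omega)
        obtain ⟨c, hc⟩ := exists_ne a
        have := S.mul_mem (show Matrix.single a c (1 : F) ∈ S from hoff i a c hc.symm)
          (show Matrix.single c a (1 : F) ∈ S from hoff i c a hc)
        rwa [Matrix.single_mul_single_same, mul_one] at this
      · exact hoff i a b hab
    show M ∈ S
    rw [Matrix.matrix_eq_sum_single M]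
    refine sum_mem fun a _ => sum_mem fun b _ => ?_
    have := S.smul_mem (hS a b) (M a b)
    rwa [Matrix.smul_single, smul_eq_mul, mul_one] at this
  have ha : ∀ i, ∃ a : GL (Fin m) F, ∀ M, conjHom g (slot i M) =
      slot (σ i) ((a : Matrix (Fin m) (Fin m) F) * M * ((a⁻¹ : GL (Fin m) F) : Matrix (Fin m) (Fin m) F)) := by
    intro i
    let φe := AlgEquiv.ofInjective (slotHom (σ i)) (slot_injective (F := F) (show 0 < m by omega) (σ i))
    let ψ : Matrix (Fin m) (Fin m) F →ₐ[F] Matrix (Fin m) (Fin m) F :=
      φe.symm.toAlgHom.comp (AlgHom.codRestrict ((conjHom g).comp (slotHom i)) (slotHom (σ i)).range (hrange i))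
    obtain ⟨a, ha⟩ := exists_conj ψ
    refine ⟨a, fun M => ?_⟩
    rw [← ha]
    exact (congrArg Subtype.val (φe.apply_symm_apply ⟨conjHom g (slot i M), hrange i M⟩)).symm
  choose a ha using ha
  have hσ : Function.Injective σ := by
    intro i k hik
    by_contra hne
    obtain ⟨c, hc⟩ : ∃ c : F, conjHom g (slot k (Matrix.single p q 1)) = c • 1 := by
      rw [ha k, ← hik]
      set X := ((a k : Matrix (Fin m) (Fin m) F) * Matrix.single p q 1 * ((a k)⁻¹ : GL (Fin m) F).val)
      obtain ⟨c, hc⟩ := Matrix.mem_range_scalar_of_commute_single (M := X) fun u v _ => by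
        have hX := congrArg (conjHom g) (slot_comm hne
          (((a i)⁻¹ : GL (Fin m) F).val * Matrix.single u v 1 * (a i : Matrix (Fin m) (Fin m) F))
          (Matrix.single p q (1 : F)))
        rw [map_mul, map_mul, ha i, ha k, ← hik, ← slot_mul', ← slot_mul'] at hX
        simp only [mul_assoc, Units.mul_inv, mul_one, Units.mul_inv_cancel_left] at hX
        have h2 := slot_injective (by omega) (σ i) hX
        show _ = _
        simpa [X, mul_assoc] using h2
      exact ⟨c, by rw [← hc, Matrix.scalar_apply, ← Matrix.smul_one_eq_diagonal, slot_smul_one]⟩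
    refine single_not_scalar hpq c (slot_eq_smul_one (i := k) (by omega) (hinj ?_))
    rw [hc, map_smul, map_one]
  let σe : Equiv.Perm (Fin t) := Equiv.ofBijective σ (Finite.injective_iff_bijective.mp hσ)
  let b : Fin t → GL (Fin m) F := fun j => a (σe.symm j)
  let W : GL (Fin t → Fin m) F := tensGL b * factorPerm σe
  have hW : ∀ i M, conjHom W (slot i M) = conjHom g (slot i M) := by
    intro i M
    rw [ha, conjHom_apply, _root_.mul_inv_rev, Units.val_mul, Units.val_mul, mul_assoc (tensGL b).val,
      factorPerm_mul_slot, ← mul_assoc, ← mul_assoc, mul_assoc _ (factorPerm σe).val, Units.mul_inv, mul_one]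
    show tens (fun l => (b l : Matrix (Fin m) (Fin m) F)) * slot (σe i) M *
      tens (fun l => (((b l)⁻¹ : GL (Fin m) F) : Matrix (Fin m) (Fin m) F)) = slot (σ i) _
    rw [slot, tens_mul, tens_mul, slot]
    congr 1
    have hσi : σe i = σ i := rfl
    funext j
    rcases eq_or_ne j (σ i) with rfl | hj
    · simp [b, ← hσi, mul_assoc]
    · simp [Function.update_of_ne hj, hσi]
  obtain ⟨c, hc⟩ := slot_centraliser (T := ((W⁻¹ * g : GL (Fin t → Fin m) F) : Matrix _ _ F)) fun i M => by
    have h1 := hW i M
    rw [conjHom_apply, conjHom_apply] at h1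
    have h2 := congrArg (fun X => ((W⁻¹ : GL (Fin t → Fin m) F) : Matrix _ _ F) * X * (g : Matrix _ _ F)) h1
    simp only [mul_assoc, Units.inv_mul, mul_one, Units.inv_mul_cancel_left] at h2
    show ((W⁻¹ * g : GL (Fin t → Fin m) F) : Matrix _ _ F) * slot i M =
      slot i M * ((W⁻¹ * g : GL (Fin t → Fin m) F) : Matrix _ _ F)
    simp only [Units.val_mul, mul_assoc]
    exact h2.symm
  have hc0 : c ≠ 0 := by
    rintro rfl
    rw [zero_smul] at hc
    exact (W⁻¹ * g).ne_zero hc
  let z : GL (Fin m) F := Units.map (algebraMap F (Matrix (Fin m) (Fin m) F) : F →* Matrix (Fin m) (Fin m) F) (Units.mk0 c hc0)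
  have hz : W⁻¹ * g = slotU ⟨0, by omega⟩ z := by
    refine Units.ext ?_
    rw [hc, slotU_coe, show (z : Matrix (Fin m) (Fin m) F) = c • 1 from Algebra.algebraMap_eq_smul_one c,
      slot_smul_one]
  rw [show g = W * slotU ⟨0, by omega⟩ z from by rw [← hz, mul_inv_cancel_left]]
  exact mul_mem (mul_mem (tensGL_mem _) (factorPerm_mem _)) (slotU_mem _ _)

/-- A matrix conjugating every transvection of a slot into the span of the slots lies in the stabiliser. -/
theorem mem_wreath_of_span (hm : 3 ≤ m) (ht : 1 ≤ t) (g : GL (Fin t → Fin m) F)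
    (h : ∀ i (a b : Fin m), a ≠ b →
      ∃ A : Fin t → Matrix (Fin m) (Fin m) F, conjHom g (slot i (Matrix.single a b 1)) = ∑ j, slot j (A j)) :
    g ∈ Geo.tensorWreathStandard m t F := by
  refine mem_wreath_of_roots hm ht g fun i a b hab => ?_
  obtain ⟨A, hA⟩ := h i a b hab
  obtain ⟨j, B, hB⟩ := sum_slot_eq_slot hm ht A (by
    rw [← hA, conjHom_apply]
    have h1 := ClMax99.TensorRank.rank_conj g (slot i (Matrix.single a b (1 : F))) 0
    rw [zero_smul, sub_zero, sub_zero] at h1
    rw [h1, rank_slot, (isRootNil_single hab one_ne_zero).1, mul_one])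
  exact ⟨j, B, hA.trans hB⟩

end Cfsg.Agent.WreathMax
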