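import Cfsg.Agent.WreathMax.Average

/-!
Overgroups of the tensor wreath stabiliser without fusion of transvections of slots (helper1).
-/

set_option autoImplicit false
set_option linter.unusedSectionVars false

namespace Cfsg.Agent.WreathMax

open Matrix Cfsg.Agent.MaxSub Cfsg.Agent.MaxSub.Asch Cfsg.Agent.FG75.SpinTensor
open scoped Kronecker

variable {F : Type*} [Field F] [Fintype F] {m t : ℕ}

/-- The determinant one part of the stabiliser lies in `H`. -/
def ContainsM (H : Subgroup (GL (Fin t → Fin m) F)) : Prop :=
  ∀ w ∈ Geo.tensorWreathStandard m t F, Matrix.GeneralLinearGroup.det w = 1 → w ∈ H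

theorem sq_zero_conj {g u : GL (Fin t → Fin m) F} (hu : IsSlotRoot u) :
    ((g⁻¹ * u * g : GL (Fin t → Fin m) F).val - 1) * ((g⁻¹ * u * g : GL (Fin t → Fin m) F).val - 1) = 0 ∧
      ((g⁻¹ * u * g : GL (Fin t → Fin m) F).val - 1).rank = m ^ (t - 1) := by
  obtain ⟨i, A, hA, hu⟩ := hu
  have e : (g⁻¹ * u * g : GL (Fin t → Fin m) F).val - 1 = conjHom g⁻¹ (slot i A) := by
    rw [Units.val_mul, Units.val_mul, hu, conjHom_apply, inv_inv, mul_add, add_mul, mul_one, Units.inv_mul,
      add_sub_cancel_left]
  constructor
  · rw [e, ← map_mul, ← slot_mul', hA.2, slot_zero', map_zero]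
  · rw [e, conjHom_apply, inv_inv]
    have h1 := ClMax99.TensorRank.rank_conj g⁻¹ (slot i A) 0
    rw [zero_smul, sub_zero, sub_zero, inv_inv] at h1
    rw [h1, rank_slot, hA.1, mul_one]

/-- Two different elements of a transvection group are not both conjugated to swaps. -/
theorem fusion_dichotomy (hm : 3 ≤ m) (ht : 1 ≤ t) {H : Subgroup (GL (Fin t → Fin m) F)} (hcase : NoRootFusion H)
    {g u : GL (Fin t → Fin m) F} (hg : g ∈ H) (hgW : g ∉ Geo.tensorWreathStandard m t F) (hu : IsSlotRoot u)
    (hW : g⁻¹ * u * g ∈ Geo.tensorWreathStandard m t F) :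
    (2 : F) = 0 ∧ m = 3 ∧ ∃ gs k l, k ≠ l ∧ g⁻¹ * u * g = tensGL gs * factorPerm (Equiv.swap k l) := by
  obtain ⟨h2, hr⟩ := sq_zero_conj (g := g) hu
  rcases root_class hm ht hW h2 hr.le with h | h | h
  · exfalso
    rw [h, Units.val_one, sub_self, Matrix.rank_zero] at hr
    exact (pow_pos (show 0 < m by omega) (t - 1)).ne hr
  · exact absurd h (hcase g hg hgW u hu)
  · exact h

/-- Without fusion of transvections of slots there is no proper overgroup, apart from the field with two
elements and factors of dimension three. -/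
theorem le_wreath_of_noFusion (hm : 3 ≤ m) (ht : 1 ≤ t) (hex : ¬ (Nat.card F = 2 ∧ m = 3))
    {H : Subgroup (GL (Fin t → Fin m) F)} (hM : ContainsM H) (hcase : NoRootFusion H) :
    H ≤ Geo.tensorWreathStandard m t F := by
  classical
  obtain ⟨p, hp⟩ := CharP.exists F
  haveI := hp
  haveI : Fact p.Prime := ⟨CharP.char_is_prime F p⟩
  letI : Algebra (ZMod p) F := ZMod.algebra F p
  -- the transvection group of the slot `i` with centre `k`
  have hfix : ∀ (i : Fin t) (k : Fin m) (X : Matrix (Fin t → Fin m) (Fin t → Fin m) F),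
      (∀ ψ : Fin m → F, ψ k = 0 → slot i (vecMulVec (Pi.single k 1) ψ) * X = 0 ∧
        X * slot i (vecMulVec (Pi.single k 1) ψ) = 0) → avg H X = Phi X := by
    intro i k X hX
    let V : Submodule (ZMod p) (Fin m → F) := LinearMap.ker (LinearMap.proj k)
    have hk : ∀ v : V, (v : Fin m → F) k = 0 := fun v => v.2
    have ho : ∀ v : V, (v : Fin m → F) ⬝ᵥ (Pi.single k 1 : Fin m → F) = 0 := fun v => by
      rw [dotProduct_single_one]; exact hk v
    let N : V →+ Matrix (Fin t → Fin m) (Fin t → Fin m) F :=
      AddMonoidHom.mk' (fun v => slot i (vecMulVec (Pi.single k 1) (v : Fin m → F))) fun v w => by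
        rw [Submodule.coe_add, vecMulVec_add, slot_add']
    let a₀ : V → GL (Fin t → Fin m) F := fun v => slotU i (tv (Pi.single k 1) (v : Fin m → F))
    have ha₀ : ∀ v, (a₀ v).val = 1 + N v := fun v => by
      show (slotU i _).val = 1 + slot i _
      rw [slotU_coe, tv_coe (ho v), slot_one_add]
    have hH : ∀ v, a₀ v ∈ H := fun v => hM _ (slotU_mem _ _) (det_slotU (det_tv _ _))
    let a : Multiplicative V →* H := MonoidHom.mk' (fun v => ⟨a₀ v.toAdd, hH _⟩) fun v w => by
      refine Subtype.ext (Units.ext ?_)
      show (a₀ (v.toAdd + w.toAdd)).val = (a₀ v.toAdd).val * (a₀ w.toAdd).val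
      rw [ha₀, ha₀, ha₀, map_add, add_mul, one_mul, mul_add, mul_one]
      have : N v.toAdd * N w.toAdd = 0 := by
        show slot i _ * slot i _ = 0
        rw [← slot_mul', vecMulVec_mul_vecMulVec, ho, zero_smul, vecMulVec_zero, slot_zero']
      rw [this]; abel
    have hroot : ∀ v : V, v ≠ 0 → IsSlotRoot (a₀ v) := fun v hv => by
      refine ⟨i, _, ⟨le_antisymm (rank_vecMulVec_le _ _) ?_, ?_⟩, ha₀ v⟩
      · rw [Nat.one_le_iff_ne_zero]
        intro h0
        rw [ClMax99.TensorRank.rank_eq, Submodule.finrank_eq_zero, LinearMap.range_eq_bot] at h0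
        have h1 : vecMulVec (Pi.single k 1) (v : Fin m → F) = 0 := Matrix.toLin'.injective (h0.trans (map_zero _).symm)
        refine hv (Subtype.ext (funext fun j => ?_))
        simpa [vecMulVec_apply] using congrFun (congrFun h1 k) j
      · rw [vecMulVec_mul_vecMulVec, ho, zero_smul, vecMulVec_zero]
    refine avg_eq_Phi_of_fixed H (p := p) N a ha₀ (fun v => slotU_mem _ _) (fun g hgW => ?_) (fun v => hX _ (hk v))
    set D : AddSubgroup V :=
      { carrier := {v | (g : GL (Fin t → Fin m) F)⁻¹ * a₀ v * (g : GL (Fin t → Fin m) F) ∈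
          Geo.tensorWreathStandard m t F}
        zero_mem' := by
          change (g : GL (Fin t → Fin m) F)⁻¹ * a₀ 0 * (g : GL (Fin t → Fin m) F) ∈ Geo.tensorWreathStandard m t F
          rw [show a₀ 0 = 1 from Units.ext (by rw [ha₀, map_zero, add_zero, Units.val_one])]
          simp
        add_mem' := fun {v w} hv hw => by
          change (g : GL (Fin t → Fin m) F)⁻¹ * a₀ (v + w) * (g : GL (Fin t → Fin m) F) ∈ Geo.tensorWreathStandard m t F
          have e : a₀ (v + w) = a₀ v * a₀ w := congrArg Subtype.val
            (map_mul a (Multiplicative.ofAdd v) (Multiplicative.ofAdd w))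
          rw [e]
          simpa [mul_assoc] using mul_mem (show (g : GL (Fin t → Fin m) F)⁻¹ * a₀ v * (g : GL (Fin t → Fin m) F) ∈ Geo.tensorWreathStandard m t F from hv) (show (g : GL (Fin t → Fin m) F)⁻¹ * a₀ w * (g : GL (Fin t → Fin m) F) ∈ Geo.tensorWreathStandard m t F from hw)
        neg_mem' := fun {v} hv => by
          change (g : GL (Fin t → Fin m) F)⁻¹ * a₀ (-v) * (g : GL (Fin t → Fin m) F) ∈ Geo.tensorWreathStandard m t F
          have e : a₀ (-v) = (a₀ v)⁻¹ := congrArg Subtype.val (map_inv a (Multiplicative.ofAdd v))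
          rw [e]
          simpa [mul_assoc] using inv_mem (show (g : GL (Fin t → Fin m) F)⁻¹ * a₀ v * (g : GL (Fin t → Fin m) F) ∈ Geo.tensorWreathStandard m t F from hv) } with hD
    let D' : Submodule (ZMod p) V := AddSubgroup.toZModSubmodule p D
    have hcardV : Nat.card V = Nat.card F ^ (m - 1) := by
      let e : V ≃ ({j // j ≠ k} → F) :=
        { toFun := fun v j => (v : Fin m → F) j
          invFun := fun f => ⟨fun j => if h : j = k then 0 else f ⟨j, h⟩, show dite (k = k) _ _ = 0 from dif_pos rfl⟩
          left_inv := fun v => Subtype.ext (funext fun j => by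
            by_cases h : j = k
            · subst h; simp [hk v]
            · simp [h])
          right_inv := fun f => funext fun j => by simp [j.2] }
      rw [Nat.card_congr e, Nat.card_fun, Nat.card_eq_fintype_card (α := {j // j ≠ k}), Fintype.card_subtype_compl,
        Fintype.card_fin, Fintype.card_subtype_eq]
    have hpV : p ^ Module.finrank (ZMod p) V = Nat.card F ^ (m - 1) := by
      rw [← hcardV, Module.natCard_eq_pow_finrank (K := ZMod p), Nat.card_zmod]
    obtain ⟨f, hf0, hf⟩ : ∃ f : ℕ, 1 ≤ f ∧ Nat.card F = p ^ f := by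
      obtain ⟨n, -, hn⟩ := FiniteField.card F p
      exact ⟨n, n.2, by rw [Nat.card_eq_fintype_card, hn]⟩
    have hdim : Module.finrank (ZMod p) V = f * (m - 1) := by
      rw [hf, ← pow_mul] at hpV
      exact Nat.pow_right_injective (Nat.Prime.two_le Fact.out) hpV
    have hsmall : D' = ⊥ ∨ (p = 2 ∧ m = 3 ∧ ∃ d, D' = Submodule.span (ZMod p) {d} ) := by
      by_cases hbot : D' = ⊥
      · exact Or.inl hbot
      obtain ⟨d, hd, hd0⟩ := (Submodule.ne_bot_iff D').mp hbot
      obtain ⟨two, hm3, gs, k₁, l₁, hkl, hgs⟩ := fusion_dichotomy hm ht hcase g.2 hgW (hroot d hd0) hd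
      have hp2 : p = 2 := ((CharP.cast_eq_zero_iff F p 2).mp (by exact_mod_cast two) |>
        (Nat.prime_dvd_prime_iff_eq Fact.out Nat.prime_two).mp)
      refine Or.inr ⟨hp2, hm3, d, le_antisymm (fun e he => ?_) ((Submodule.span_singleton_le_iff_mem _ _).mpr hd)⟩
      by_cases he0 : e = 0
      · rw [he0]; exact zero_mem _
      by_cases hde : d + e = 0
      · rw [eq_neg_of_add_eq_zero_right hde]; exact neg_mem (Submodule.mem_span_singleton_self d)
      exfalso
      obtain ⟨-, -, gs', k₂, l₂, hkl', hgs'⟩ := fusion_dichotomy hm ht hcase g.2 hgW (hroot e he0) he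
      obtain ⟨-, -, gs'', k₃, l₃, hkl'', hgs''⟩ :=
        fusion_dichotomy hm ht hcase g.2 hgW (hroot _ hde) (D.add_mem hd he)
      have e' : a₀ (d + e) = a₀ d * a₀ e := congrArg Subtype.val
        (map_mul a (Multiplicative.ofAdd d) (Multiplicative.ofAdd e))
      have hprod : (tensGL gs * factorPerm (Equiv.swap k₁ l₁) : GL (Fin t → Fin m) F) *
          (tensGL gs' * factorPerm (Equiv.swap k₂ l₂)) = tensGL gs'' * factorPerm (Equiv.swap k₃ l₃) := by
        rw [← hgs, ← hgs', ← hgs'', e']; group
      rw [wreath_mul] at hprod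
      have hs := congrArg Equiv.Perm.sign (perm_unique (show 2 ≤ m by omega) hprod)
      rw [Equiv.Perm.sign_mul, Equiv.Perm.sign_swap hkl, Equiv.Perm.sign_swap hkl', Equiv.Perm.sign_swap hkl''] at hs
      exact absurd hs (by decide)
    obtain ⟨L, hL⟩ := Submodule.exists_isCompl D'
    refine ⟨L, ?_, fun v hv hvW => ?_, fun v => ?_⟩
    · have hadd := Submodule.finrank_add_eq_of_isCompl hL
      rcases hsmall with h | ⟨hp2, hm3, d, hd⟩
      · rw [h, finrank_bot, zero_add] at hadd
        rw [hadd, hdim]
        by_cases hp2 : p = 2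
        · refine Or.inl ?_
          by_contra hlt
          refine hex ⟨?_, ?_⟩
          · rw [hf, hp2, show f = 1 by nlinarith [show 2 ≤ m - 1 by omega], pow_one]
          · have := Nat.le_mul_of_pos_left (m - 1) hf0; omega
        · exact Or.inr ⟨hp2, by nlinarith [show 2 ≤ m - 1 by omega]⟩
      · refine Or.inl ?_
        have h1 : Module.finrank (ZMod p) D' ≤ 1 := by
          rw [hd]
          simpa using finrank_span_le_card (R := ZMod p) ({d} : Set V)
        rw [hdim, show m - 1 = 2 by omega] at hadd
        have hf2 : 2 ≤ f := by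
          by_contra hf1
          exact hex ⟨by rw [hf, hp2, show f = 1 by omega, pow_one], hm3⟩
        omega
    · exact (Submodule.disjoint_def.mp hL.disjoint) v hvW hv
    · obtain ⟨d, hd, l, hl, hdl⟩ := Submodule.mem_sup.mp (show v ∈ D' ⊔ L from hL.sup_eq_top ▸ Submodule.mem_top)
      exact ⟨l, hl, by rw [← hdl, add_sub_cancel_right]; exact hd⟩
  -- units off the diagonal
  have hoff : ∀ x y : Fin t → Fin m, x ≠ y → avg H (Matrix.single x y (1 : F)) = Phi (Matrix.single x y 1) := by
    intro x y hxy
    obtain ⟨i, hi⟩ := Function.ne_iff.mp hxy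
    refine hfix i (x i) _ fun ψ hψ => ?_
    rw [single_eq_tens, slot_mul_tens, tens_mul_slot]
    refine ⟨tens_eq_zero (l := i) ?_, tens_eq_zero (l := i) ?_⟩ <;> rw [Function.update_self] <;> ext u v <;>
      rw [Matrix.mul_apply, Matrix.zero_apply] <;> refine Finset.sum_eq_zero fun w _ => ?_
    · by_cases h : x i = w
      · subst h; simp [vecMulVec_apply, hψ]
      · simp [Matrix.single_apply, h]
    · by_cases h : y i = w
      · subst h; simp [vecMulVec_apply, Ne.symm hi]
      · simp [Matrix.single_apply, h]
  let z := avg H - Phi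
  have hz0 : ∀ X : Matrix (Fin t → Fin m) (Fin t → Fin m) F, (∀ y, X y y = 0) → z X = 0 := by
    intro X hX
    rw [Matrix.matrix_eq_sum_single X, map_sum]
    refine Finset.sum_eq_zero fun x _ => ?_
    rw [map_sum]
    refine Finset.sum_eq_zero fun y _ => ?_
    by_cases hxy : x = y
    · subst hxy; rw [hX, Matrix.single_zero, map_zero]
    · rw [show Matrix.single x y (X x y) = X x y • Matrix.single x y (1 : F) by simp [Matrix.smul_single], map_smul,
        LinearMap.sub_apply, hoff x y hxy, sub_self, smul_zero]
  have hdiag : ∀ x : Fin t → Fin m, ∃ c : F, z (Matrix.single x x 1) = c • 1 := by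
    intro x
    refine slot_centraliser fun i M => ?_
    have hsingle : ∀ a b : Fin m, a ≠ b → Commute (z (Matrix.single x x 1)) (slot i (Matrix.single a b 1)) := by
      intro a b hab
      obtain ⟨u, huW, hud, hu⟩ := (isRootNil_single (F := F) hab one_ne_zero).exists_slotRoot (t := t) i
      have hequiv : z (conjHom u (Matrix.single x x 1)) = conjHom u (z (Matrix.single x x 1)) := by
        simp only [z, LinearMap.sub_apply, map_sub, avg_equivariant H (hM u huW hud), Phi_equivariant huW]
      set N := slot i (Matrix.single a b (1 : F)) with hN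
      have hNN : N * N = 0 := by rw [hN, ← slot_mul', (isRootNil_single hab one_ne_zero).2, slot_zero']
      have hinv : (u⁻¹).val = 1 - N := by
        refine (left_inv_eq_right_inv (Units.inv_mul u) ?_)
        rw [hu, add_mul, mul_sub, one_mul, mul_sub, mul_one, hNN]
        simp
      have hd : z (conjHom u (Matrix.single x x 1) - Matrix.single x x 1) = 0 := hz0 _ fun y => by
        have hN0 : ∀ y, N y y = 0 := fun y => by
          rw [hN, slot_entry_self _ (fun _ _ => rfl), Matrix.single_apply, if_neg]
          exact fun h => hab (h.1.trans h.2.symm)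
        rw [conjHom_apply, hu, hinv]
        have e : (1 + N) * Matrix.single x x 1 * (1 - N) - Matrix.single x x 1 =
            N * Matrix.single x x 1 - Matrix.single x x 1 * N - N * Matrix.single x x 1 * N := by noncomm_ring
        rw [e, Matrix.sub_apply, Matrix.sub_apply]
        have hNxy : N y x * N x y = 0 := by
          by_cases h : y = x
          · subst h; simp [hN0]
          · obtain ⟨j, hj⟩ := Function.ne_iff.mp h
            by_cases hji : j = i
            · subst hji
              rw [hN, slot_apply, slot_apply]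
              simp only [Matrix.single_apply]
              grind
            · rw [hN, slot_entry_eq_zero _ hji hj, zero_mul]
        by_cases h : y = x
        · subst h; simp [Matrix.mul_apply, Matrix.single_apply, hN0, Finset.sum_mul, ite_and]
        · simp [Matrix.mul_apply, Matrix.single_apply, Ne.symm h, hNxy, Finset.sum_mul, ite_and]
      rw [map_sub, sub_eq_zero, hequiv, conjHom_apply, hu, hinv] at hd
      have h2 := congrArg (fun T => T * (1 + N)) hd
      have e3 : (1 - N) * (1 + N) = 1 := by rw [sub_mul, mul_add, one_mul, mul_add, mul_one, hNN]; simp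
      simp only [mul_assoc, e3, mul_one] at h2
      rw [add_mul, one_mul, mul_add, mul_one] at h2
      show _ * _ = _ * _
      exact (add_left_cancel h2).symm
    have hS : ∀ a b, Matrix.single a b (1 : F) ∈ (Subalgebra.centralizer F {z (Matrix.single x x 1)}).comap (slotHom i) := by
      have hmem : ∀ a b, a ≠ b → slot i (Matrix.single a b (1 : F)) ∈ Subalgebra.centralizer F {z (Matrix.single x x 1)} :=
        fun a b hab => (Subalgebra.mem_centralizer_iff F).mpr fun g hg => by
          rw [Set.mem_singleton_iff.mp hg]; exact (hsingle a b hab).eq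
      intro a b
      by_cases hab : a = b
      · subst hab
        haveI : Nontrivial (Fin m) := Fin.nontrivial_iff_two_le.mpr (by omega)
        obtain ⟨c, hc⟩ := exists_ne a
        show slotHom i (Matrix.single a a 1) ∈ Subalgebra.centralizer F {z (Matrix.single x x 1)}
        rw [show Matrix.single a a (1 : F) = Matrix.single a c 1 * Matrix.single c a 1 by rw [Matrix.single_mul_single_same, mul_one], slotHom_apply, slot_mul']
        exact mul_mem (hmem a c hc.symm) (hmem c a hc)
      · exact hmem a b hab
    have hall : M ∈ (Subalgebra.centralizer F {z (Matrix.single x x 1)}).comap (slotHom i) := by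
      rw [Matrix.matrix_eq_sum_single M]
      refine sum_mem fun a _ => sum_mem fun b _ => ?_
      have := Subalgebra.smul_mem _ (hS a b) (M a b)
      rwa [Matrix.smul_single, smul_eq_mul, mul_one] at this
    exact (Subalgebra.mem_centralizer_iff F).mp hall _ (Set.mem_singleton _)
  have hspan : ∀ X, ∃ A : Fin t → Matrix (Fin m) (Fin m) F, avg H X = ∑ j, slot j (A j) := by
    intro X
    have hz : ∀ x y : Fin t → Fin m, z (Matrix.single x y (1 : F)) ∈ Submodule.span F {(1 : Matrix (Fin t → Fin m) (Fin t → Fin m) F)} := by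
      intro x y
      by_cases hxy : x = y
      · subst hxy
        obtain ⟨c, hc⟩ := hdiag x
        exact Submodule.mem_span_singleton.mpr ⟨c, hc.symm⟩
      · rw [LinearMap.sub_apply, hoff x y hxy, sub_self]; exact zero_mem _
    have hzX : z X ∈ Submodule.span F {(1 : Matrix (Fin t → Fin m) (Fin t → Fin m) F)} := by
      rw [Matrix.matrix_eq_sum_single X, map_sum]
      refine sum_mem fun x _ => ?_
      rw [map_sum]
      refine sum_mem fun y _ => ?_
      rw [show Matrix.single x y (X x y) = X x y • Matrix.single x y (1 : F) by simp [Matrix.smul_single], map_smul]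
      exact Submodule.smul_mem _ _ (hz x y)
    obtain ⟨c, hc⟩ := Submodule.mem_span_singleton.mp hzX
    let i₀ : Fin t := ⟨0, by omega⟩
    refine ⟨fun j => ptr j X + if j = i₀ then c • 1 else 0, ?_⟩
    have hsum : ∑ j, slot j (if j = i₀ then c • (1 : Matrix (Fin m) (Fin m) F) else 0) = c • 1 := by
      rw [Finset.sum_eq_single i₀ (fun j _ hj => by rw [if_neg hj, slot_zero']) (by simp), if_pos rfl, slot_smul_one]
    simp only [slot_add', Finset.sum_add_distrib, ← Phi_apply, hsum]
    rw [hc, show z X = avg H X - Phi X from LinearMap.sub_apply _ _ _, add_sub_cancel]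
  intro g hg
  refine mem_wreath_of_span hm ht g fun i a b hab => ?_
  obtain ⟨A, hA⟩ := hspan (conjHom g (Matrix.single (Function.update (fun _ => a) i a) (Function.update (fun _ => a) i b) 1))
  refine ⟨A, ?_⟩
  rw [← hA, avg_equivariant H hg, hoff _ _ (fun h => hab (by simpa using congrFun h i)), Phi_single_slot i hab]

end Cfsg.Agent.WreathMax
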