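import Cfsg.Agent.WreathMax.Phi

/-!
Subalgebras normalised by the transvections of the slots contain a slot (helper1).
-/

set_option autoImplicit false
set_option linter.unusedSectionVars false

namespace Cfsg.Agent.WreathMax

open Matrix Cfsg.Agent.MaxSub.Asch Cfsg.Agent.FG75.SpinTensor
open scoped Kronecker

variable {F : Type*} [Field F] {m t : ℕ}

/-- A unit of a slot. -/
abbrev su (i : Fin t) (a b : Fin m) : Matrix (Fin t → Fin m) (Fin t → Fin m) F := slot i (Matrix.single a b 1)

/-- Stability under conjugation by the transvections of slots. -/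
def RootStable (E : Submodule F (Matrix (Fin t → Fin m) (Fin t → Fin m) F)) : Prop :=
  ∀ (i : Fin t) (a b : Fin m), a ≠ b → ∀ X ∈ E, (1 + su i a b) * X * (1 - su i a b) ∈ E

theorem su_mul (i : Fin t) (a b c : Fin m) : su (F := F) i a b * su i b c = su i a c := by
  rw [su, su, ← slot_mul', Matrix.single_mul_single_same, mul_one]

theorem su_mul_ne (i : Fin t) {a b c d : Fin m} (h : b ≠ c) : su (F := F) i a b * su i c d = 0 := by
  rw [su, su, ← slot_mul', Matrix.single_mul_single_of_ne (h := h), slot_zero']

theorem sandwich_mem {E : Submodule F (Matrix (Fin t → Fin m) (Fin t → Fin m) F)} (hE : RootStable E)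
    (hm : 3 ≤ m) (i : Fin t) {a c : Fin m} (hac : a ≠ c) {X : Matrix (Fin t → Fin m) (Fin t → Fin m) F}
    (hX : X ∈ E) : su i a c * X * su i a c ∈ E := by
  obtain ⟨b, -, hb⟩ := Finset.exists_mem_notMem_of_card_lt_card (s := ({a, c} : Finset (Fin m)))
    (t := Finset.univ) (lt_of_le_of_lt Finset.card_le_two (by rw [Finset.card_univ, Fintype.card_fin]; omega))
  simp only [Finset.mem_insert, Finset.mem_singleton, not_or] at hb
  set N₁ := su (F := F) i a b
  set N₂ := su (F := F) i a c
  set N₃ := su (F := F) i b c
  have h1 := hE i a b (Ne.symm hb.1) X hX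
  have h2 := hE i a c hac X hX
  have h12 := hE i a b (Ne.symm hb.1) _ h2
  have e11 : N₁ * N₂ = 0 := su_mul_ne i hb.1
  have e21 : N₂ * N₁ = 0 := su_mul_ne i (Ne.symm hac)
  have eZ : (1 + N₁) * ((1 + N₂) * X * (1 - N₂)) * (1 - N₁) - (1 + N₁) * X * (1 - N₁) - (1 + N₂) * X * (1 - N₂) + X =
      -(N₁ * X * N₂ + N₂ * X * N₁) := by
    have e : (1 + N₁) * ((1 + N₂) * X * (1 - N₂)) * (1 - N₁) = (1 + N₁ + N₂) * X * (1 - N₁ - N₂) := by
      have ea : (1 + N₁) * (1 + N₂) = 1 + N₁ + N₂ := by rw [mul_add, mul_one, add_mul, one_mul, e11]; abel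
      have eb : (1 - N₂) * (1 - N₁) = 1 - N₁ - N₂ := by rw [mul_sub, mul_one, sub_mul, one_mul, e21]; abel
      rw [← mul_assoc, ← mul_assoc, ea, mul_assoc _ (1 - N₂), eb]
    rw [e]; noncomm_ring
  have hZ : -(N₁ * X * N₂ + N₂ * X * N₁) ∈ E := eZ ▸ E.add_mem (E.sub_mem (E.sub_mem h12 h1) h2) hX
  have h3 := hE i b c hb.2 _ hZ
  have e31 : N₃ * N₁ = 0 := su_mul_ne i (Ne.symm hac)
  have e32 : N₃ * N₂ = 0 := su_mul_ne i (Ne.symm hac)
  have e23 : N₂ * N₃ = 0 := su_mul_ne i (Ne.symm hb.2)
  have e13 : N₁ * N₃ = N₂ := su_mul i a b c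
  have eF : (1 + N₃) * (-(N₁ * X * N₂ + N₂ * X * N₁)) * (1 - N₃) - (-(N₁ * X * N₂ + N₂ * X * N₁)) = N₂ * X * N₂ := by
    have el : (1 + N₃) * (-(N₁ * X * N₂ + N₂ * X * N₁)) = -(N₁ * X * N₂ + N₂ * X * N₁) := by
      rw [add_mul, one_mul, mul_neg, mul_add, ← mul_assoc, ← mul_assoc, e31, ← mul_assoc, ← mul_assoc, e32]
      simp
    rw [el, mul_sub, mul_one, neg_mul, add_mul, mul_assoc _ N₂ N₃, e23, mul_assoc _ N₁ N₃, e13, mul_zero, zero_add]
    abel
  exact eF ▸ E.sub_mem h3 hZ

theorem bracket_mem {E : Submodule F (Matrix (Fin t → Fin m) (Fin t → Fin m) F)} (hE : RootStable E)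
    (hm : 3 ≤ m) (i : Fin t) {a b : Fin m} (hab : a ≠ b) {X : Matrix (Fin t → Fin m) (Fin t → Fin m) F}
    (hX : X ∈ E) : su i a b * X - X * su i a b ∈ E := by
  have h := E.add_mem (E.sub_mem (hE i a b hab X hX) hX) (sandwich_mem hE hm i hab hX)
  convert h using 1
  noncomm_ring

/-- The support condition in the slots of `T`. -/
def SuppIn (T : Finset (Fin t)) (p q : Fin t → Fin m) (Z : Matrix (Fin t → Fin m) (Fin t → Fin m) F) : Prop :=
  ∀ x y, Z x y ≠ 0 → ∀ j ∈ T, x j = p j ∧ y j = q j

theorem su_mul_apply (i : Fin t) (a b : Fin m) (Z : Matrix (Fin t → Fin m) (Fin t → Fin m) F) (x y : Fin t → Fin m) :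
    (su (F := F) i a b * Z) x y = if x i = a then Z (Function.update x i b) y else 0 := by
  dsimp only [su]
  rw [Matrix.mul_apply, Finset.sum_eq_single (Function.update x i b)]
  · rw [slot_entry_self _ (fun j hj => (Function.update_of_ne hj _ _).symm), Function.update_self, Matrix.single_apply]
    by_cases h : x i = a <;> simp [h, Ne.symm]
  · intro z _ hz
    by_cases hall : ∀ j, j ≠ i → x j = z j
    · rw [slot_entry_self _ hall, Matrix.single_apply, if_neg, zero_mul]
      rintro ⟨-, h⟩
      exact hz (funext fun j => by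
        rcases eq_or_ne j i with rfl | hj
        · simp [h]
        · rw [Function.update_of_ne hj, hall j hj])
    · push Not at hall
      obtain ⟨j, hj, hj'⟩ := hall
      rw [slot_entry_eq_zero _ hj hj', zero_mul]
  · simp

theorem mul_su_apply (i : Fin t) (a b : Fin m) (Z : Matrix (Fin t → Fin m) (Fin t → Fin m) F) (x y : Fin t → Fin m) :
    (Z * su (F := F) i a b) x y = if y i = b then Z x (Function.update y i a) else 0 := by
  dsimp only [su]
  rw [Matrix.mul_apply, Finset.sum_eq_single (Function.update y i a)]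
  · rw [slot_entry_self _ (fun j hj => Function.update_of_ne hj _ _), Function.update_self, Matrix.single_apply]
    by_cases h : y i = b <;> simp [h, Ne.symm]
  · intro z _ hz
    by_cases hall : ∀ j, j ≠ i → z j = y j
    · rw [slot_entry_self _ hall, Matrix.single_apply, if_neg, mul_zero]
      rintro ⟨h, -⟩
      exact hz (funext fun j => by
        rcases eq_or_ne j i with rfl | hj
        · simp [h]
        · rw [Function.update_of_ne hj, hall j hj])
    · push Not at hall
      obtain ⟨j, hj, hj'⟩ := hall
      rw [slot_entry_eq_zero _ hj hj', mul_zero]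
  · simp

theorem exists_supported (hm : 3 ≤ m) {E : Submodule F (Matrix (Fin t → Fin m) (Fin t → Fin m) F)} (hE : RootStable E)
    {X : Matrix (Fin t → Fin m) (Fin t → Fin m) F} (hX : X ∈ E) (hX0 : ∀ c : F, X ≠ c • 1) (s : Finset (Fin t)) :
    ∃ (T : Finset (Fin t)) (p q : Fin t → Fin m) (Z : Matrix (Fin t → Fin m) (Fin t → Fin m) F),
      T ⊆ s ∧ Z ∈ E ∧ (∀ c : F, Z ≠ c • 1) ∧ (∀ j, p j ≠ q j) ∧ SuppIn T p q Z ∧
        ∀ i ∈ s, i ∉ T → ∀ M, Commute Z (slot i M) := by
  classical
  haveI : Nontrivial (Fin m) := Fin.nontrivial_iff_two_le.mpr (by omega)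
  induction s using Finset.induction with
  | empty =>
    exact ⟨∅, fun _ => ⟨0, by omega⟩, fun _ => ⟨1, by omega⟩, X, subset_rfl, hX, hX0, fun _ => by simp [Fin.ext_iff],
      fun _ _ _ j hj => absurd hj (Finset.notMem_empty j), fun i hi => absurd hi (Finset.notMem_empty i)⟩
  | insert k s hk ih =>
    obtain ⟨T, p, q, Z, hT, hZE, hZ0, hpq, hsupp, hcomm⟩ := ih
    have hkT : k ∉ T := fun h => hk (hT h)
    by_cases hk' : ∀ M, Commute Z (slot k M)
    · refine ⟨T, p, q, Z, hT.trans (Finset.subset_insert _ _), hZE, hZ0, hpq, hsupp, fun i hi hiT => ?_⟩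
      rcases Finset.mem_insert.mp hi with rfl | hi
      · exact hk'
      · exact hcomm i hi hiT
    have hne : ∃ a b, a ≠ b ∧ ∃ Z', Z' ∈ E ∧ Z' ≠ 0 ∧ (∀ i ∈ s, i ∉ T → ∀ M, Commute Z' (slot i M)) ∧
        SuppIn T p q Z' ∧ ∀ x y, Z' x y ≠ 0 → x k = a ∧ y k = b := by
      have hupd : ∀ {x : Fin t → Fin m} {c : Fin m} {j : Fin t}, j ∈ T → Function.update x k c j = x j := fun hj =>
        Function.update_of_ne (fun h : _ = k => hkT (h ▸ hj)) _ _
      have hsu : ∀ (a b : Fin m), ∀ i ∈ s, i ∉ T → ∀ M : Matrix (Fin m) (Fin m) F, Commute (su (F := F) k a b) (slot i M) := fun a b i hi _ M =>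
        slot_comm (fun h => hk (by rw [h]; exact hi)) _ _
      by_cases hoff : ∃ x y, x k ≠ y k ∧ Z x y ≠ 0
      · obtain ⟨x, y, hxy, hZxy⟩ := hoff
        refine ⟨y k, x k, Ne.symm hxy, su k (y k) (x k) * Z * su k (y k) (x k), sandwich_mem hE hm k (Ne.symm hxy) hZE,
          fun h => hZxy ?_, fun i hi hiT M => ((hsu _ _ i hi hiT M).mul_left (hcomm i hi hiT M)).mul_left (hsu _ _ i hi hiT M),
          fun u v h j hj => ?_, fun u v h => ?_⟩
        · have h1 := congrFun (congrFun h (Function.update x k (y k))) (Function.update y k (x k))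
          simpa [mul_su_apply, su_mul_apply] using h1
        · rw [mul_su_apply, su_mul_apply] at h
          split_ifs at h with h1 h2
          · have h3 := hsupp _ _ h j hj
            rwa [hupd hj, hupd hj] at h3
          all_goals exact absurd rfl h
        · rw [mul_su_apply, su_mul_apply] at h
          split_ifs at h with h1 h2
          · exact ⟨h2, h1⟩
          all_goals exact absurd rfl h
      · push Not at hoff
        by_cases hbr : ∃ a b, a ≠ b ∧ su k a b * Z - Z * su k a b ≠ 0
        · obtain ⟨a, b, hab, hne⟩ := hbr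
          refine ⟨a, b, hab, _, bracket_mem hE hm k hab hZE, hne,
            fun i hi hiT M => ((hsu _ _ i hi hiT M).mul_left (hcomm i hi hiT M)).sub_left
              ((hcomm i hi hiT M).mul_left (hsu _ _ i hi hiT M)), fun u v h j hj => ?_, fun u v h => ?_⟩
          · rw [Matrix.sub_apply, su_mul_apply, mul_su_apply] at h
            by_cases h1 : (if u k = a then Z (Function.update u k b) v else 0) = 0
            · rw [h1, zero_sub, neg_ne_zero] at h
              split_ifs at h with h2
              · have h3 := hsupp _ _ h j hj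
                rwa [hupd hj] at h3
              · exact absurd rfl h
            · split_ifs at h1 with h2
              · have h3 := hsupp _ _ h1 j hj
                rwa [hupd hj] at h3
              · exact absurd rfl h1
          · rw [Matrix.sub_apply, su_mul_apply, mul_su_apply] at h
            by_cases h1 : (if u k = a then Z (Function.update u k b) v else 0) = 0
            · rw [h1, zero_sub, neg_ne_zero] at h
              split_ifs at h with h2
              · refine ⟨?_, h2⟩
                by_contra h3
                exact h (hoff _ _ (by rw [Function.update_self]; exact h3))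
              · exact absurd rfl h
            · split_ifs at h1 with h2
              · refine ⟨h2, ?_⟩
                by_contra h3
                exact h1 (hoff _ _ (by rw [Function.update_self]; exact Ne.symm h3))
              · exact absurd rfl h1
        · exfalso
          push Not at hbr
          have hmem : ∀ a b, Matrix.single a b (1 : F) ∈ (Subalgebra.centralizer F {Z}).comap (slotHom k) := by
            have h1 : ∀ a b, a ≠ b → slot k (Matrix.single a b (1 : F)) ∈ Subalgebra.centralizer F {Z} :=
              fun a b hab => (Subalgebra.mem_centralizer_iff F).mpr fun g hg => by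
                rw [Set.mem_singleton_iff.mp hg]; exact (sub_eq_zero.mp (hbr a b hab)).symm
            intro a b
            by_cases hab : a = b
            · subst hab
              obtain ⟨c, hc⟩ := exists_ne a
              show slotHom k (Matrix.single a a 1) ∈ Subalgebra.centralizer F {Z}
              rw [slotHom_apply, show slot k (Matrix.single a a (1 : F)) = su k a c * su k c a from (su_mul k a c a).symm]
              exact mul_mem (h1 a c hc.symm) (h1 c a hc)
            · exact h1 a b hab
          refine hk' fun M => ?_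
          have hall : M ∈ (Subalgebra.centralizer F {Z}).comap (slotHom k) := by
            rw [Matrix.matrix_eq_sum_single M]
            refine sum_mem fun a _ => sum_mem fun b _ => ?_
            have := Subalgebra.smul_mem _ (hmem a b) (M a b)
            rwa [Matrix.smul_single, smul_eq_mul, mul_one] at this
          exact (Subalgebra.mem_centralizer_iff F).mp hall _ (Set.mem_singleton _)
    obtain ⟨a, b, hab, Z', hZ'E, hZ'0, hZ'c, hZ'T, hZ'k⟩ := hne
    refine ⟨insert k T, Function.update p k a, Function.update q k b, Z', Finset.insert_subset_insert _ hT, hZ'E,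
      fun c hc => ?_, fun j => ?_, fun x y h j hj => ?_, fun i hi hiT => ?_⟩
    · by_cases hc0 : c = 0
      · exact hZ'0 (by rw [hc, hc0, zero_smul])
      · exact hab ((hZ'k (fun _ => a) (fun _ => a) (by rw [hc]; simpa using hc0)).2)
    · rcases eq_or_ne j k with rfl | hj
      · simpa using hab
      · simpa [hj] using hpq j
    · rcases Finset.mem_insert.mp hj with rfl | hjT
      · simpa using hZ'k x y h
      · have hjk : j ≠ k := fun e => hkT (e ▸ hjT)
        simpa [hjk] using hZ'T x y h j hjT
    · rcases Finset.mem_insert.mp hi with rfl | hi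
      · exact absurd (Finset.mem_insert_self _ _) hiT
      · exact hZ'c i hi fun h => hiT (Finset.mem_insert_of_mem h)

/-- The units on a set of slots. -/
def unitsOn (T : Finset (Fin t)) (c d : Fin t → Fin m) : Matrix (Fin t → Fin m) (Fin t → Fin m) F :=
  tens fun j => if j ∈ T then Matrix.single (c j) (d j) 1 else 1

theorem unitsOn_apply (T : Finset (Fin t)) (c d x y : Fin t → Fin m) :
    unitsOn (F := F) T c d x y = if (∀ j, if j ∈ T then c j = x j ∧ d j = y j else x j = y j) then 1 else 0 := by
  rw [unitsOn, tens_apply]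
  have h : ∀ j, (if j ∈ T then Matrix.single (c j) (d j) (1 : F) else 1) (x j) (y j) =
      if (if j ∈ T then c j = x j ∧ d j = y j else x j = y j) then 1 else 0 := fun j => by
    by_cases hj : j ∈ T <;> simp [hj, Matrix.single_apply, Matrix.one_apply]
  simp only [h, Finset.prod_boole, Finset.mem_univ, forall_const]

theorem unitsOn_congr (T : Finset (Fin t)) {c c' d d' : Fin t → Fin m} (hc : ∀ j ∈ T, c j = c' j)
    (hd : ∀ j ∈ T, d j = d' j) : unitsOn (F := F) T c d = unitsOn T c' d' := by
  unfold unitsOn
  congr 1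
  funext j
  by_cases hj : j ∈ T <;> simp [hj, hc, hd]

theorem exists_units (hm : 3 ≤ m) {E : Submodule F (Matrix (Fin t → Fin m) (Fin t → Fin m) F)} (hE : RootStable E)
    {X : Matrix (Fin t → Fin m) (Fin t → Fin m) F} (hX : X ∈ E) (hX0 : ∀ c : F, X ≠ c • 1) :
    ∃ (T : Finset (Fin t)) (p q : Fin t → Fin m), T.Nonempty ∧ (∀ j, p j ≠ q j) ∧ unitsOn T p q ∈ E := by
  classical
  obtain ⟨T, p, q, Z, -, hZE, hZ0, hpq, hsupp, hcomm⟩ := exists_supported hm hE hX hX0 Finset.univ
  refine ⟨T, p, q, ?_, hpq, ?_⟩
  · rw [Finset.nonempty_iff_ne_empty]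
    intro hT
    obtain ⟨c, hc⟩ := slot_centraliser fun i M => hcomm i (Finset.mem_univ _) (by simp [hT]) M
    exact hZ0 c hc
  have hd : ∀ x y k, k ∉ T → x k ≠ y k → Z x y = 0 := fun x y k hk hxy => by
    have h := congrFun (congrFun (hcomm k (Finset.mem_univ _) hk (Matrix.single (x k) (x k) 1)).eq x) y
    rw [mul_su_apply, su_mul_apply, if_pos rfl, Function.update_eq_self, if_neg (Ne.symm hxy)] at h
    exact h.symm
  have hshift : ∀ x k c, k ∉ T → ∀ y, x k = y k →
      Z (Function.update x k c) (Function.update y k c) = Z x y := fun x k c hk y hxy => by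
    have h := congrFun (congrFun (hcomm k (Finset.mem_univ _) hk (Matrix.single (x k) c 1)).eq x) (Function.update y k c)
    rw [mul_su_apply, su_mul_apply, if_pos rfl, if_pos (Function.update_self _ _ _), Function.update_idem, hxy,
      Function.update_eq_self] at h
    exact h.symm
  let a : Fin m := ⟨0, by omega⟩
  let xb : Fin t → Fin m := fun j => if j ∈ T then p j else a
  let yb : Fin t → Fin m := fun j => if j ∈ T then q j else a
  have hZeq : Z = Z xb yb • unitsOn T p q := by
    ext x y
    rw [Matrix.smul_apply, unitsOn_apply, smul_eq_mul]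
    split_ifs with h
    · rw [mul_one]
      have key : ∀ s : Finset (Fin t), (∀ k ∈ s, k ∉ T) →
          Z (s.piecewise (fun _ => a) x) (s.piecewise (fun _ => a) y) = Z x y := by
        intro s
        induction s using Finset.induction with
        | empty => simp
        | insert k s hks ih =>
          intro hs
          have hk : k ∉ T := hs k (Finset.mem_insert_self _ _)
          rw [Finset.piecewise_insert, Finset.piecewise_insert, hshift _ k a hk _ ?_,
            ih fun j hj => hs j (Finset.mem_insert_of_mem hj)]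
          rw [Finset.piecewise_eq_of_notMem _ _ _ hks, Finset.piecewise_eq_of_notMem _ _ _ hks]
          simpa [hk] using h k
      rw [← key (Finset.univ.filter (· ∉ T)) fun k hk => (Finset.mem_filter.mp hk).2]
      congr 1 <;> funext j <;> by_cases hj : j ∈ T <;> simp [Finset.piecewise, xb, yb, hj] <;>
        have hj' := h j <;> simp [hj] at hj' <;> simp [hj']
    · rw [mul_zero]
      by_contra hne
      refine h fun j => ?_
      by_cases hj : j ∈ T
      · rw [if_pos hj]; exact ⟨(hsupp x y hne j hj).1.symm, (hsupp x y hne j hj).2.symm⟩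
      · rw [if_neg hj]; by_contra hxy; exact hne (hd x y j hj hxy)
  have hc : Z xb yb ≠ 0 := fun h => hZ0 0 (by rw [hZeq, h, zero_smul, zero_smul])
  have hmem := E.smul_mem (Z xb yb)⁻¹ hZE
  have e : (Z xb yb)⁻¹ • Z = unitsOn T p q :=
    (congrArg ((Z xb yb)⁻¹ • ·) hZeq).trans (inv_smul_smul₀ hc _)
  exact e ▸ hmem

theorem unitsOn_update_row {T : Finset (Fin t)} {k : Fin t} (hk : k ∈ T) {c d : Fin t → Fin m} {a : Fin m}
    (had : a ≠ d k) :
    su (F := F) k a (c k) * unitsOn T c d - unitsOn T c d * su k a (c k) = unitsOn T (Function.update c k a) d := by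
  rw [su, unitsOn, slot_mul_tens, tens_mul_slot, if_pos hk, Matrix.single_mul_single_same, mul_one,
    Matrix.single_mul_single_of_ne (h := Ne.symm had)]
  rw [tens_eq_zero (l := k) (Function.update_self _ _ _), sub_zero, unitsOn]
  congr 1
  funext j
  rcases eq_or_ne j k with rfl | hj
  · simp [hk]
  · simp [hj]

theorem unitsOn_update_col {T : Finset (Fin t)} {k : Fin t} (hk : k ∈ T) {c d : Fin t → Fin m} {b : Fin m}
    (hbc : b ≠ c k) :
    su (F := F) k (d k) b * unitsOn T c d - unitsOn T c d * su k (d k) b = -unitsOn T c (Function.update d k b) := by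
  rw [su, unitsOn, slot_mul_tens, tens_mul_slot, if_pos hk, Matrix.single_mul_single_same, mul_one,
    Matrix.single_mul_single_of_ne (h := hbc)]
  rw [tens_eq_zero (l := k) (Function.update_self _ _ _), zero_sub, unitsOn]
  congr 2
  funext j
  rcases eq_or_ne j k with rfl | hj
  · simp [hk]
  · simp [hj]

theorem units_all (hm : 3 ≤ m) {E : Submodule F (Matrix (Fin t → Fin m) (Fin t → Fin m) F)} (hE : RootStable E)
    (T : Finset (Fin t)) {p q : Fin t → Fin m} (hpq : ∀ j, p j ≠ q j) (h : unitsOn T p q ∈ E)
    (c d : Fin t → Fin m) (hcd : ∀ j ∈ T, c j ≠ d j) : unitsOn T c d ∈ E := by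
  classical
  have hrow : ∀ {k : Fin t} {c d : Fin t → Fin m} {a : Fin m}, k ∈ T → a ≠ d k → unitsOn T c d ∈ E →
      unitsOn T (Function.update c k a) d ∈ E := fun {k c d a} hk ha hm' => by
    by_cases hac : a = c k
    · rw [hac, Function.update_eq_self]; exact hm'
    · rw [← unitsOn_update_row (F := F) hk ha]
      exact bracket_mem hE hm k hac hm'
  have hcol : ∀ {k : Fin t} {c d : Fin t → Fin m} {b : Fin m}, k ∈ T → b ≠ c k → unitsOn T c d ∈ E →
      unitsOn T c (Function.update d k b) ∈ E := fun {k c d b} hk hb hm' => by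
    by_cases hbd : b = d k
    · rw [hbd, Function.update_eq_self]; exact hm'
    · refine neg_mem_iff.mp ?_
      rw [← unitsOn_update_col (F := F) hk hb]
      exact bracket_mem hE hm k (Ne.symm hbd) hm'
  have hone : ∀ {k : Fin t} {c d : Fin t → Fin m} {a b : Fin m}, k ∈ T → a ≠ b → c k ≠ d k → unitsOn T c d ∈ E →
      unitsOn T (Function.update c k a) (Function.update d k b) ∈ E := fun {k c d a b} hk hab hcd hm' => by
    obtain ⟨e, -, he⟩ := Finset.exists_mem_notMem_of_card_lt_card (s := ({a, c k} : Finset (Fin m)))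
      (t := Finset.univ) (lt_of_le_of_lt Finset.card_le_two (by rw [Finset.card_univ, Fintype.card_fin]; omega))
    simp only [Finset.mem_insert, Finset.mem_singleton, not_or] at he
    have h1 := hcol hk he.2 hm'
    have h2 := hrow hk (a := a) (by simpa using Ne.symm he.1) h1
    have h3 := hcol hk (b := b) (by simpa using Ne.symm hab) h2
    rwa [Function.update_idem] at h3
  have key : ∀ s : Finset (Fin t), s ⊆ T → unitsOn T (s.piecewise c p) (s.piecewise d q) ∈ E := by
    intro s
    induction s using Finset.induction with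
    | empty => intro _; simpa using h
    | insert k s hks ih =>
      intro hs
      have hk : k ∈ T := hs (Finset.mem_insert_self _ _)
      rw [Finset.piecewise_insert, Finset.piecewise_insert]
      refine hone hk (hcd k hk) ?_ (ih fun j hj => hs (Finset.mem_insert_of_mem hj))
      rw [Finset.piecewise_eq_of_notMem _ _ _ hks, Finset.piecewise_eq_of_notMem _ _ _ hks]
      exact hpq k
  rw [unitsOn_congr T (c' := T.piecewise c p) (d' := T.piecewise d q)]
  · exact key T subset_rfl
  · intro j hj; simp [hj]
  · intro j hj; simp [hj]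

theorem unitsOn_mul (T : Finset (Fin t)) (c d e : Fin t → Fin m) :
    unitsOn (F := F) T c d * unitsOn T d e = unitsOn T c e := by
  rw [unitsOn, unitsOn, tens_mul, unitsOn]
  congr 1
  funext j
  by_cases hj : j ∈ T <;> simp [hj]

theorem sum_unitsOn_diag (T : Finset (Fin t)) {k : Fin t} (hk : k ∈ T) (c d : Fin t → Fin m) :
    ∑ u : Fin m, unitsOn (F := F) T (Function.update c k u) (Function.update d k u) = unitsOn (T.erase k) c d := by
  classical
  ext x y
  simp only [Matrix.sum_apply, unitsOn, tens_apply]
  simp only [Fintype.prod_eq_mul_prod_compl k, if_pos hk, Function.update_self,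
    if_neg (Finset.notMem_erase k T)]
  have hrest : ∀ u, ∏ j ∈ ({k} : Finset (Fin t))ᶜ,
      (if j ∈ T then Matrix.single (Function.update c k u j) (Function.update d k u j) (1 : F) else 1) (x j) (y j) =
      ∏ j ∈ ({k} : Finset (Fin t))ᶜ, (if j ∈ T.erase k then Matrix.single (c j) (d j) (1 : F) else 1) (x j) (y j) :=
    fun u => Finset.prod_congr rfl fun j hj => by
      have hjk : j ≠ k := by simpa using hj
      simp [hjk]
  simp only [hrest, ← Finset.sum_mul, ← Matrix.sum_apply]
  rw [Matrix.sum_single_one]

/-- A subalgebra normalised by the transvections of the slots and larger than the scalars contains a slot. -/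
theorem exists_slot_subset (hm : 3 ≤ m) {E : Subalgebra F (Matrix (Fin t → Fin m) (Fin t → Fin m) F)}
    (hE : RootStable (Subalgebra.toSubmodule E)) {X : Matrix (Fin t → Fin m) (Fin t → Fin m) F} (hX : X ∈ E) (hX0 : ∀ c : F, X ≠ c • 1) :
    ∃ i, ∀ M, slot i M ∈ E := by
  classical
  haveI : Nontrivial (Fin m) := Fin.nontrivial_iff_two_le.mpr (by omega)
  obtain ⟨T₀, p, q, hT₀, hpq, hmem⟩ := exists_units hm hE (E := Subalgebra.toSubmodule E) hX hX0
  have key : ∀ T : Finset (Fin t), T.Nonempty → (∀ c d : Fin t → Fin m, (∀ j ∈ T, c j ≠ d j) → unitsOn T c d ∈ E) →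
      ∃ i, ∀ M, slot i M ∈ E := by
    intro T
    induction T using Finset.strongInductionOn with
    | _ T ih =>
      intro hT hall
      obtain ⟨k, hk⟩ := hT
      have hall' : ∀ c d : Fin t → Fin m, unitsOn T c d ∈ E := by
        intro c d
        choose e he using fun j : Fin t => Finset.exists_mem_notMem_of_card_lt_card (s := ({c j, d j} : Finset (Fin m)))
          (t := Finset.univ) (lt_of_le_of_lt Finset.card_le_two (by rw [Finset.card_univ, Fintype.card_fin]; omega))
        simp only [Finset.mem_insert, Finset.mem_singleton, not_or] at he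
        rw [← unitsOn_mul T c e d]
        exact mul_mem (hall c e fun j _ => Ne.symm (he j).2.1) (hall e d fun j _ => (he j).2.2)
      by_cases h1 : (T.erase k).Nonempty
      · refine ih _ (Finset.erase_ssubset hk) h1 fun c d _ => ?_
        rw [← sum_unitsOn_diag T hk c d]
        exact sum_mem fun u _ => hall' _ _
      · refine ⟨k, fun M => ?_⟩
        have hT1 : ∀ j, j ∈ T → j = k := fun j hj => by
          by_contra h; exact h1 ⟨j, Finset.mem_erase.mpr ⟨h, hj⟩⟩
        have hs : ∀ a b, slot k (Matrix.single a b (1 : F)) ∈ E := fun a b => by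
          have h2 : unitsOn (F := F) T (fun _ => a) (fun _ => b) = slot k (Matrix.single a b 1) := by
            rw [unitsOn, slot]
            congr 1
            funext j
            rcases eq_or_ne j k with rfl | hj
            · simp [hk]
            · rw [if_neg (fun h => hj (hT1 j h)), Function.update_of_ne hj, Pi.one_apply]
          exact h2 ▸ hall' _ _
        rw [Matrix.matrix_eq_sum_single M, slot_sum']
        refine sum_mem fun a _ => ?_
        rw [slot_sum']
        refine sum_mem fun b _ => ?_
        rw [show Matrix.single a b (M a b) = M a b • Matrix.single a b (1 : F) by simp [Matrix.smul_single], slot_smul']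
        exact E.smul_mem (hs a b) _
  exact key T₀ hT₀ fun c d hcd => units_all hm hE T₀ hpq hmem c d hcd

end Cfsg.Agent.WreathMax
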