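import Cfsg.Agent.WreathMax.NoFusion
import Cfsg.Agent.WreathMax.Invariant

/-!
The first slot against the others (helper1).
-/

set_option autoImplicit false
set_option linter.unusedSectionVars false

namespace Cfsg.Agent.WreathMax

open Matrix Cfsg.Agent.MaxSub Cfsg.Agent.MaxSub.Asch Cfsg.Agent.FG75.SpinTensor
open scoped Kronecker

variable {F : Type*} [Field F] {m t : ℕ}

local notation "Mat" t' => Matrix (Fin t' → Fin m) (Fin t' → Fin m) F

/-- `A ⊗ B` with `A` in the first slot. -/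
def kz (A : Matrix (Fin m) (Fin m) F) (B : Matrix (Fin t → Fin m) (Fin t → Fin m) F) :
    Matrix (Fin (t + 1) → Fin m) (Fin (t + 1) → Fin m) F :=
  Matrix.of fun x y => A (x 0) (y 0) * B (Fin.tail x) (Fin.tail y)

theorem kz_apply (A : Matrix (Fin m) (Fin m) F) (B : Matrix (Fin t → Fin m) (Fin t → Fin m) F)
    (x y : Fin (t + 1) → Fin m) : kz A B x y = A (x 0) (y 0) * B (Fin.tail x) (Fin.tail y) := rfl

theorem sum_cons {M : Type*} [AddCommMonoid M] (f : (Fin (t + 1) → Fin m) → M) :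
    ∑ z, f z = ∑ a : Fin m, ∑ w : Fin t → Fin m, f (Fin.cons a w) := by
  rw [← (Fin.consEquiv fun _ : Fin (t + 1) => Fin m).sum_comp, Fintype.sum_prod_type]
  rfl

theorem kz_mul (A C : Matrix (Fin m) (Fin m) F) (B D : Matrix (Fin t → Fin m) (Fin t → Fin m) F) :
    kz A B * kz C D = kz (A * C) (B * D) := by
  ext x y
  simp only [Matrix.mul_apply, kz_apply, sum_cons, Fin.cons_zero, Fin.tail_cons, Finset.sum_mul, Finset.mul_sum]
  rw [Finset.sum_comm]
  exact Finset.sum_congr rfl fun a _ => Finset.sum_congr rfl fun w _ => by ring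

theorem kz_one : kz (1 : Matrix (Fin m) (Fin m) F) (1 : Matrix (Fin t → Fin m) (Fin t → Fin m) F) = 1 := by
  ext x y
  rw [kz_apply, Matrix.one_apply, Matrix.one_apply, Matrix.one_apply]
  by_cases h : x = y
  · subst h; simp
  · by_cases h0 : x 0 = y 0
    · rw [if_neg h, if_neg (c := Fin.tail x = Fin.tail y), mul_zero]
      intro ht
      exact h (by rw [← Fin.cons_self_tail x, ← Fin.cons_self_tail y, h0, ht])
    · simp [h0, h]

theorem kz_zero_left (B : Matrix (Fin t → Fin m) (Fin t → Fin m) F) : kz (0 : Matrix (Fin m) (Fin m) F) B = 0 := by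
  ext x y; simp [kz_apply]

theorem kz_zero_right (A : Matrix (Fin m) (Fin m) F) : kz A (0 : Matrix (Fin t → Fin m) (Fin t → Fin m) F) = 0 := by
  ext x y; simp [kz_apply]

theorem kz_add_left (A C : Matrix (Fin m) (Fin m) F) (B : Matrix (Fin t → Fin m) (Fin t → Fin m) F) :
    kz (A + C) B = kz A B + kz C B := by
  ext x y; simp [kz_apply, add_mul]

theorem kz_add_right (A : Matrix (Fin m) (Fin m) F) (B D : Matrix (Fin t → Fin m) (Fin t → Fin m) F) :
    kz A (B + D) = kz A B + kz A D := by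
  ext x y; simp [kz_apply, mul_add]

theorem kz_smul_right (A : Matrix (Fin m) (Fin m) F) (c : F) (B : Matrix (Fin t → Fin m) (Fin t → Fin m) F) :
    kz A (c • B) = c • kz A B := by
  ext x y; simp [kz_apply, mul_left_comm]

theorem kz_smul_left (A : Matrix (Fin m) (Fin m) F) (c : F) (B : Matrix (Fin t → Fin m) (Fin t → Fin m) F) :
    kz (c • A) B = c • kz A B := by
  ext x y; simp [kz_apply, mul_assoc]

theorem kz_neg_right (A : Matrix (Fin m) (Fin m) F) (B : Matrix (Fin t → Fin m) (Fin t → Fin m) F) :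
    kz A (-B) = -kz A B := by
  ext x y; simp [kz_apply]

theorem tens_eq_kz (b : Fin (t + 1) → Matrix (Fin m) (Fin m) F) : tens b = kz (b 0) (tens fun j => b j.succ) := by
  ext x y
  rw [kz_apply, tens_apply, tens_apply, Fin.prod_univ_succ]
  rfl

theorem slot_zero_eq_kz (A : Matrix (Fin m) (Fin m) F) : slot (0 : Fin (t + 1)) A = kz A 1 := by
  rw [slot, tens_eq_kz, Function.update_self]
  congr 1
  rw [← tens_one]
  congr 1

theorem slot_succ_eq_kz (i : Fin t) (A : Matrix (Fin m) (Fin m) F) : slot i.succ A = kz 1 (slot i A) := by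
  rw [slot, tens_eq_kz, Function.update_of_ne (Fin.succ_ne_zero i).symm]
  congr 1
  rw [slot]
  congr 1
  funext j
  rcases eq_or_ne j i with rfl | hj
  · simp
  · rw [Function.update_of_ne hj, Function.update_of_ne (fun h => hj (Fin.succ_injective _ h))]
    rfl

/-- The `(a, b)` block with respect to the first slot. -/
def zblk (X : Matrix (Fin (t + 1) → Fin m) (Fin (t + 1) → Fin m) F) (a b : Fin m) :
    Matrix (Fin t → Fin m) (Fin t → Fin m) F :=
  Matrix.of fun z w => X (Fin.cons a z) (Fin.cons b w)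

theorem zblk_ext {X Y : Matrix (Fin (t + 1) → Fin m) (Fin (t + 1) → Fin m) F}
    (h : ∀ a b, zblk X a b = zblk Y a b) : X = Y := by
  ext x y
  have h1 := congrFun (congrFun (h (x 0) (y 0)) (Fin.tail x)) (Fin.tail y)
  simpa [zblk] using h1

theorem zblk_mul (X Y : Matrix (Fin (t + 1) → Fin m) (Fin (t + 1) → Fin m) F) (a b : Fin m) :
    zblk (X * Y) a b = ∑ c, zblk X a c * zblk Y c b := by
  ext z w
  simp only [zblk, Matrix.of_apply, Matrix.mul_apply, Matrix.sum_apply, sum_cons]

theorem zblk_kz (A : Matrix (Fin m) (Fin m) F) (B : Matrix (Fin t → Fin m) (Fin t → Fin m) F) (a b : Fin m) :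
    zblk (kz A B) a b = A a b • B := by
  ext z w; simp [zblk, kz_apply]

theorem zblk_add (X Y : Matrix (Fin (t + 1) → Fin m) (Fin (t + 1) → Fin m) F) (a b : Fin m) :
    zblk (X + Y) a b = zblk X a b + zblk Y a b := rfl

theorem zblk_sub (X Y : Matrix (Fin (t + 1) → Fin m) (Fin (t + 1) → Fin m) F) (a b : Fin m) :
    zblk (X - Y) a b = zblk X a b - zblk Y a b := rfl

theorem zblk_neg (X : Matrix (Fin (t + 1) → Fin m) (Fin (t + 1) → Fin m) F) (a b : Fin m) :
    zblk (-X) a b = -zblk X a b := rfl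

theorem zblk_one (a b : Fin m) :
    zblk (1 : Matrix (Fin (t + 1) → Fin m) (Fin (t + 1) → Fin m) F) a b = if a = b then 1 else 0 := by
  rw [← kz_one, zblk_kz]
  by_cases h : a = b <;> simp [h, Matrix.one_apply]

theorem zblk_sum {κ : Type*} (s : Finset κ) (X : κ → Matrix (Fin (t + 1) → Fin m) (Fin (t + 1) → Fin m) F)
    (a b : Fin m) : zblk (∑ k ∈ s, X k) a b = ∑ k ∈ s, zblk (X k) a b := by
  ext z w; simp [zblk, Matrix.sum_apply]

theorem det_kz (A : Matrix (Fin m) (Fin m) F) (B : Matrix (Fin t → Fin m) (Fin t → Fin m) F) :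
    (kz A B).det = A.det ^ (m ^ t) * B.det ^ m := by
  have e : Matrix.reindex (Fin.consEquiv fun _ : Fin (t + 1) => Fin m).symm
      (Fin.consEquiv fun _ : Fin (t + 1) => Fin m).symm (kz A B) = A ⊗ₖ B := by
    ext ⟨a, z⟩ ⟨b, w⟩
    simp [kz_apply, Fin.consEquiv]
  rw [← Matrix.det_reindex_self (Fin.consEquiv fun _ : Fin (t + 1) => Fin m).symm, e, Matrix.det_kronecker,
    Fintype.card_fun, Fintype.card_fin, Fintype.card_fin]

/-- The invertible `A ⊗ B`. -/
def kzU (A : GL (Fin m) F) (B : GL (Fin t → Fin m) F) : GL (Fin (t + 1) → Fin m) F where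
  val := kz (A : Matrix (Fin m) (Fin m) F) (B : Matrix (Fin t → Fin m) (Fin t → Fin m) F)
  inv := kz ((A⁻¹ : GL (Fin m) F) : Matrix (Fin m) (Fin m) F) ((B⁻¹ : GL (Fin t → Fin m) F) : Matrix (Fin t → Fin m) (Fin t → Fin m) F)
  val_inv := by rw [kz_mul, Units.mul_inv, Units.mul_inv, kz_one]
  inv_val := by rw [kz_mul, Units.inv_mul, Units.inv_mul, kz_one]

theorem kzU_coe (A : GL (Fin m) F) (B : GL (Fin t → Fin m) F) :
    (kzU A B).val = kz (A : Matrix (Fin m) (Fin m) F) (B : Matrix (Fin t → Fin m) (Fin t → Fin m) F) := rfl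

theorem kzU_mul (A C : GL (Fin m) F) (B D : GL (Fin t → Fin m) F) :
    kzU A B * kzU C D = kzU (A * C) (B * D) :=
  Units.ext (by rw [Units.val_mul, kzU_coe, kzU_coe, kzU_coe, kz_mul, Units.val_mul, Units.val_mul])

theorem kzU_mem [Finite F] (A : GL (Fin m) F) {B : GL (Fin t → Fin m) F}
    (hB : B ∈ Geo.tensorWreathStandard m t F) : kzU A B ∈ Geo.tensorWreathStandard m (t + 1) F := by
  obtain ⟨gs, σ, rfl⟩ := exists_wreath_elem hB
  have e : kzU A (tensGL gs * factorPerm σ) =
      tensGL (Fin.cons A gs) * factorPerm (Equiv.Perm.decomposeFin.symm (0, σ)) := by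
    refine Units.ext ?_
    ext x y
    rw [kzU_coe, kz_apply, wreath_apply, wreath_apply, Fin.prod_univ_succ]
    have h0 : (Equiv.Perm.decomposeFin.symm ((0 : Fin (t + 1)), σ)).symm 0 = 0 := by
      rw [Equiv.symm_apply_eq, Equiv.Perm.decomposeFin_symm_apply_zero]
    have hs : ∀ i, (Equiv.Perm.decomposeFin.symm ((0 : Fin (t + 1)), σ)).symm i.succ = (σ.symm i).succ := fun i => by
      rw [Equiv.symm_apply_eq, Equiv.Perm.decomposeFin_symm_apply_succ]; simp
    simp only [h0, hs, Fin.cons_zero, Fin.cons_succ]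
    rfl
  rw [e]
  exact mul_mem (tensGL_mem _) (factorPerm_mem _)

theorem kzU_det {A : GL (Fin m) F} {B : GL (Fin t → Fin m) F} (hA : Matrix.GeneralLinearGroup.det A = 1)
    (hB : Matrix.GeneralLinearGroup.det B = 1) : Matrix.GeneralLinearGroup.det (kzU A B) = 1 := by
  refine Units.ext ?_
  have h1 := congrArg Units.val hA
  have h2 := congrArg Units.val hB
  simp only [Matrix.GeneralLinearGroup.val_det_apply, Units.val_one] at h1 h2
  rw [Matrix.GeneralLinearGroup.val_det_apply, kzU_coe, det_kz, h1, h2, one_pow, one_pow, mul_one, Units.val_one]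

theorem mem_wreath_one (g : GL (Fin 1 → Fin m) F) : g ∈ Geo.tensorWreathStandard m 1 F := by
  let e : Matrix (Fin m) (Fin m) F ≃ₐ[F] Matrix (Fin 1 → Fin m) (Fin 1 → Fin m) F :=
    Matrix.reindexAlgEquiv F F (Equiv.funUnique (Fin 1) (Fin m)).symm
  have he : ∀ A, e A = slot 0 A := fun A => by
    ext x y
    rw [slot_entry_self _ (fun j hj => absurd (Subsingleton.elim j 0) hj)]
    simp [e]
  let A : GL (Fin m) F := Units.map (e.symm : Matrix (Fin 1 → Fin m) (Fin 1 → Fin m) F →* Matrix (Fin m) (Fin m) F) g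
  have hg : g = slotU 0 A := Units.ext (by
    rw [slotU_coe, ← he]
    exact (e.apply_symm_apply g.val).symm)
  rw [hg]; exact slotU_mem _ _

end Cfsg.Agent.WreathMax
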