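import Cfsg.Agent.WreathMax.Basic

/-!
Elements of the stabiliser with small quadratic displacement (helper1).
-/

set_option autoImplicit false
set_option linter.unusedSectionVars false

namespace Cfsg.Agent.WreathMax

open Matrix Cfsg.Agent.MaxSub.Asch Cfsg.Agent.FG75.SpinTensor
open scoped Kronecker

variable {F : Type*} [Field F] {m t : ℕ}

theorem wreath_apply (gs : Fin t → GL (Fin m) F) (σ : Equiv.Perm (Fin t)) (z y : Fin t → Fin m) :
    (tensGL gs * factorPerm σ : GL (Fin t → Fin m) F).1 z y =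
      ∏ i, (gs i : Matrix (Fin m) (Fin m) F) (z i) (y (σ.symm i)) := by
  rw [Units.val_mul, Matrix.mul_apply, Finset.sum_eq_single (y ∘ σ.symm)]
  · rw [show (factorPerm σ : GL (Fin t → Fin m) F).val (y ∘ σ.symm) y = 1 from if_pos (by simp [Function.comp_assoc]),
      mul_one]
    show tens _ z _ = _
    rw [tens_apply]
    rfl
  · intro x _ hx
    rw [show (factorPerm σ : GL (Fin t → Fin m) F).val x y = 0 from
      if_neg (fun h => hx (by simp [h, Function.comp_assoc])), mul_zero]
  · simp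

theorem wreath_mul (a b : Fin t → GL (Fin m) F) (σ τ : Equiv.Perm (Fin t)) :
    (tensGL a * factorPerm σ : GL (Fin t → Fin m) F) * (tensGL b * factorPerm τ) =
      tensGL (a * fun i => b (σ.symm i)) * factorPerm (σ * τ) := by
  rw [← tensGL_mul, ← factorPerm_mul, mul_assoc (tensGL a), ← mul_assoc (factorPerm σ), factorPerm_mul_tensGL]
  group

theorem perm_eq_one_of_eq_tens (hm : 2 ≤ m) {gs : Fin t → GL (Fin m) F} {ρ : Equiv.Perm (Fin t)}
    (h : (tensGL gs : GL (Fin t → Fin m) F) = factorPerm ρ) : ρ = 1 := by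
  classical
  have he : ∀ x y, ∏ i, (gs i : Matrix (Fin m) (Fin m) F) (x i) (y i) = if y = x ∘ ρ then 1 else 0 :=
    fun x y => by
      have h' : (tensGL gs : GL (Fin t → Fin m) F).val x y = (factorPerm ρ : GL (Fin t → Fin m) F).val x y := by rw [h]
      exact h'
  have hd : ∀ i z, (gs i : Matrix (Fin m) (Fin m) F) z z ≠ 0 := fun i z => by
    have h1 := he (fun _ => z) (fun _ => z)
    rw [if_pos (by funext j; rfl)] at h1
    exact (Finset.prod_ne_zero_iff.mp (h1 ▸ one_ne_zero)) i (Finset.mem_univ i)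
  refine Equiv.ext fun i => ?_
  by_contra hne
  let x : Fin t → Fin m := fun j => if j = i then ⟨0, by omega⟩ else ⟨1, by omega⟩
  have h1 := he x x
  rw [if_neg (fun e => by
    have := congrFun e i
    simp [x, show ρ i ≠ i from hne] at this)] at h1
  exact Finset.prod_ne_zero_iff.mpr (fun j _ => hd j (x j)) h1

/-- The permutation of an element of the stabiliser is unique. -/
theorem perm_unique (hm : 2 ≤ m) {a b : Fin t → GL (Fin m) F} {σ τ : Equiv.Perm (Fin t)}
    (h : (tensGL a : GL (Fin t → Fin m) F) * factorPerm σ = tensGL b * factorPerm τ) : σ = τ := by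
  have h1 : (tensGL (b⁻¹ * a) : GL (Fin t → Fin m) F) = (factorPerm (τ * σ⁻¹) : GL (Fin t → Fin m) F) := by
    have hi : (tensGL b⁻¹ : GL (Fin t → Fin m) F) = (tensGL b)⁻¹ := map_inv (tensHom m t F) b
    have hj : (factorPerm σ⁻¹ : GL (Fin t → Fin m) F) = (factorPerm σ)⁻¹ := eq_inv_of_mul_eq_one_left
      (by rw [factorPerm_mul, inv_mul_cancel, factorPerm_one])
    rw [← tensGL_mul, ← factorPerm_mul, hi, hj, eq_mul_inv_iff_mul_eq, mul_assoc, h, inv_mul_cancel_left]
  have := perm_eq_one_of_eq_tens hm h1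
  exact (mul_inv_eq_one.mp this).symm

theorem card_le_rank_of_block {ι : Type} [Fintype ι] [DecidableEq ι] (G : Matrix ι ι F) (Y : Finset ι)
    (h : ∀ a ∈ Y, ∀ b ∈ Y, G a b = 0) : Y.card ≤ (G - 1).rank := by
  have h1 : (G - 1).submatrix (fun a : Y => (a : ι)) (fun a : Y => (a : ι)) = (-1 : Matrix Y Y F) := by
    ext a b
    simp [h a a.2 b b.2, Matrix.one_apply, Subtype.coe_inj]
  have h2 := Matrix.rank_submatrix_le (G - 1) (fun a : Y => (a : ι)) (fun a : Y => (a : ι))
  rw [h1, Matrix.rank_of_isUnit (-1 : Matrix Y Y F) (isUnit_one.neg), Fintype.card_coe] at h2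
  exact h2

theorem two_mul_card_lt (k l : Fin t) (hkl : k ≠ l) (P : (Fin t → Fin m) → Prop) [DecidablePred P]
    (hP : ∀ y, P (y ∘ Equiv.swap k l) ↔ P y) :
    2 * (Finset.univ.filter fun y : Fin t → Fin m => P y ∧ y k < y l).card +
      (Finset.univ.filter fun y : Fin t → Fin m => P y ∧ y k = y l).card = (Finset.univ.filter P).card := by
  classical
  have h1 : (Finset.univ.filter fun y : Fin t → Fin m => P y ∧ y k < y l).card =
      (Finset.univ.filter fun y : Fin t → Fin m => P y ∧ y l < y k).card := by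
    refine Finset.card_equiv (Equiv.arrowCongr (Equiv.swap k l) (Equiv.refl _)) fun y => ?_
    have e : (Equiv.arrowCongr (Equiv.swap k l) (Equiv.refl (Fin m))) y = y ∘ Equiv.swap k l := by
      funext j; simp
    simp only [Finset.mem_filter, Finset.mem_univ, true_and, e]
    rw [hP]
    simp
  rw [two_mul]
  nth_rewrite 2 [h1]
  rw [← Finset.card_union_of_disjoint, ← Finset.card_union_of_disjoint]
  · congr 1
    ext y
    simp only [Finset.mem_union, Finset.mem_filter, Finset.mem_univ, true_and]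
    constructor
    · tauto
    · intro hy
      rcases lt_trichotomy (y k) (y l) with h | h | h <;> tauto
  · rw [Finset.disjoint_left]
    simp only [Finset.mem_union, Finset.mem_filter, Finset.mem_univ, true_and]
    intro y hy hy'
    rcases hy with h | h <;> exact absurd hy'.2 (ne_of_lt h.2 <| · |> fun e => by first | exact e | exact e.symm)
  · rw [Finset.disjoint_left]
    simp only [Finset.mem_filter, Finset.mem_univ, true_and]
    intro y hy hy'
    exact lt_asymm hy.2 hy'.2

theorem card_diag (k l : Fin t) (hkl : k ≠ l) :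
    (Finset.univ.filter fun y : Fin t → Fin m => y k = y l).card = m ^ (t - 1) := by
  classical
  rw [← card_rest l m, ← Finset.card_univ]
  refine Finset.card_nbij' (fun y j => y j) (fun z j => if h : j = l then z ⟨k, hkl⟩ else z ⟨j, h⟩)
    (fun y _ => Finset.mem_univ _) (fun z _ => by simp [hkl]) (fun y hy => ?_) (fun z _ => ?_)
  · funext j
    by_cases h : j = l
    · subst h; simpa using hy
    · simp [h]
  · funext j; simp [j.2]

theorem card_diag_two (k l k' l' : Fin t) (hkl : k ≠ l) (hkl' : k' ≠ l') (h1 : k ≠ k') (h2 : k ≠ l')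
    (h3 : l ≠ k') (h4 : l ≠ l') :
    (Finset.univ.filter fun y : Fin t → Fin m => y k = y l ∧ y k' = y l').card = m ^ (t - 2) := by
  classical
  have hc : Fintype.card ({j : Fin t // j ≠ l ∧ j ≠ l'} → Fin m) = m ^ (t - 2) := by
    rw [Fintype.card_fun, Fintype.card_fin, Fintype.card_subtype]
    congr 1
    rw [show (Finset.univ.filter fun j : Fin t => j ≠ l ∧ j ≠ l') = ({l, l'} : Finset (Fin t))ᶜ by
      ext j; simp, Finset.card_compl, Fintype.card_fin, Finset.card_pair h4]
  rw [← hc, ← Finset.card_univ]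
  refine Finset.card_nbij' (fun y j => y j)
    (fun z j => if h : j = l then z ⟨k, hkl, h2⟩ else if h' : j = l' then z ⟨k', Ne.symm h3, hkl'⟩ else z ⟨j, h, h'⟩)
    (fun y _ => Finset.mem_univ _) (fun z _ => by simp [hkl, h2, Ne.symm h3, hkl', Ne.symm h4]) (fun y hy => ?_) (fun z _ => ?_)
  · funext j
    simp only [Finset.coe_filter, Finset.mem_univ, true_and, Set.mem_setOf_eq] at hy
    by_cases h : j = l
    · subst h; simpa using hy.1
    · by_cases h' : j = l'
      · subst h'; simpa [h] using hy.2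
      · simp [h, h']
  · funext j; simp [j.2.1, j.2.2]

theorem sub_one_sq {ι : Type} [Fintype ι] [DecidableEq ι] {X : Matrix ι ι F} (h : (X - 1) * (X - 1) = 0) :
    X * X = X + X - 1 := by
  have e : X * X - (X + X - 1) = (X - 1) * (X - 1) := by noncomm_ring
  exact sub_eq_zero.mp (e.trans h)

/-- Odd characteristic: a permutation of order above two is impossible. -/
theorem sigma_sq_eq_one (hm : 2 ≤ m) (two : (2 : F) ≠ 0) {gs : Fin t → GL (Fin m) F} {σ : Equiv.Perm (Fin t)}
    (h2 : ((tensGL gs * factorPerm σ : GL (Fin t → Fin m) F).val - 1) *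
      ((tensGL gs * factorPerm σ : GL (Fin t → Fin m) F).val - 1) = 0) : σ * σ = 1 := by
  classical
  refine Equiv.ext fun k₀ => ?_
  by_contra hne
  set X := tensGL gs * factorPerm σ with hX
  set k₁ := σ k₀
  set k₂ := σ k₁
  have h20 : k₂ ≠ k₀ := hne
  have h10 : k₁ ≠ k₀ := fun e => h20 (show σ k₁ = k₀ by rw [e]; exact e)
  have h21 : k₂ ≠ k₁ := fun e => h10 (σ.injective e)
  let u : Fin m := ⟨0, by omega⟩
  haveI : Nontrivial (Fin m) := Fin.nontrivial_iff_two_le.mpr hm
  obtain ⟨a₂, ha₂⟩ : ∃ a, (gs k₂ : Matrix (Fin m) (Fin m) F) a u ≠ 0 :=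
    Cfsg.Agent.MaxSub.Frame.col_ne_zero (gs k₂) u
  obtain ⟨c₂, hc₂⟩ := exists_ne a₂
  obtain ⟨a₁, ha₁⟩ := exists_ne u
  obtain ⟨c₀, hc₀⟩ : ∃ c, (gs k₁ : Matrix (Fin m) (Fin m) F) a₁ c ≠ 0 := by
    by_contra hc
    push Not at hc
    have := congrFun (congrFun (Units.mul_inv (gs k₁)) a₁) a₁
    rw [Matrix.mul_apply] at this
    simp [hc] at this
  let y : Fin t → Fin m := fun j => if j = k₀ then c₀ else if j = k₂ then c₂ else u
  have hy1 : y k₁ = u := by simp [y, h10, Ne.symm h21]
  have hy2 : y k₂ = c₂ := by simp [y, h20]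
  have hy0 : y k₀ = c₀ := by simp [y]
  have hb : ∀ j, ∃ b, (gs j : Matrix (Fin m) (Fin m) F) b (y (σ.symm j)) ≠ 0 := fun j =>
    Cfsg.Agent.MaxSub.Frame.col_ne_zero (gs j) _
  choose b hb using hb
  let z : Fin t → Fin m := fun j => if j = k₁ then a₁ else if j = k₂ then a₂ else b j
  let z₁ : Fin t → Fin m := Function.update y k₁ a₁
  let z₂ : Fin t → Fin m := Function.update z k₁ u
  obtain ⟨gs', σ', hXX⟩ : ∃ gs' σ', X * X = tensGL gs' * factorPerm σ' := by
    exact ⟨gs * fun i => gs (σ.symm i), σ * σ, by rw [hX, wreath_mul]⟩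
  let v : (Fin t → Fin m) → F := fun x => ∏ i, (gs i : Matrix (Fin m) (Fin m) F) (x i) (y (σ.symm i))
  let w : (Fin t → Fin m) → F := fun x => ∏ i, (gs' i : Matrix (Fin m) (Fin m) F) (x i) (y (σ'.symm i))
  have hw : ∀ x, w x = v x + v x - if x = y then 1 else 0 := fun x => by
    have h := congrFun (congrFun (sub_one_sq h2) x) y
    rw [← Units.val_mul, hXX, wreath_apply] at h
    rw [Matrix.sub_apply, Matrix.add_apply, hX, wreath_apply, Matrix.one_apply] at h
    exact h
  have hswap : ∀ c : Fin t → Fin m → F, (∏ i, c i (y i)) * ∏ i, c i (z i) = (∏ i, c i (z₁ i)) * ∏ i, c i (z₂ i) := by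
    intro c
    rw [← Finset.prod_mul_distrib, ← Finset.prod_mul_distrib]
    refine Finset.prod_congr rfl fun i _ => ?_
    by_cases hi : i = k₁
    · subst hi
      simp [z₁, z₂, z, hy1, mul_comm]
    · simp [z₁, z₂, hi]
  have hvz : v z ≠ 0 := Finset.prod_ne_zero_iff.mpr fun i _ => by
    by_cases hi : i = k₁
    · subst hi
      simp only [z, if_true]
      rw [show σ.symm k₁ = k₀ from σ.symm_apply_apply k₀, hy0]
      exact hc₀
    · by_cases hi' : i = k₂
      · subst hi'
        simp only [z, if_neg h21, if_true]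
        rw [show σ.symm k₂ = k₁ from σ.symm_apply_apply k₁, hy1]
        exact ha₂
      · simp only [z, if_neg hi, if_neg hi']
        exact hb i
  have hzy : z ≠ y := fun e => ha₁ (by have := congrFun e k₁; simpa [z, hy1] using this)
  have hz1y : z₁ ≠ y := fun e => ha₁ (by have := congrFun e k₁; simpa [z₁, hy1] using this)
  have hz2y : z₂ ≠ y := fun e => hc₂ (by
    have := congrFun e k₂
    simp only [z₂, Function.update_of_ne h21, z, if_neg h21, if_true, hy2] at this
    exact this.symm)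
  have h1 : w y * w z = w z₁ * w z₂ := hswap (fun i x => (gs' i : Matrix (Fin m) (Fin m) F) x (y (σ'.symm i)))
  have h3 : v y * v z = v z₁ * v z₂ := hswap (fun i x => (gs i : Matrix (Fin m) (Fin m) F) x (y (σ.symm i)))
  rw [hw, hw, hw, hw, if_pos rfl, if_neg hzy, if_neg hz1y, if_neg hz2y] at h1
  have h4 : (2 : F) * v z = 0 := by linear_combination -h1 + 4 * h3
  exact hvz ((mul_eq_zero.mp h4).resolve_left two)

/-- A permutation of order two moves many dimensions. -/
theorem swap_bound (hm : 3 ≤ m) (gs : Fin t → GL (Fin m) F) {σ : Equiv.Perm (Fin t)} (hσ : σ * σ = 1)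
    {k : Fin t} (hk : σ k ≠ k) (h2 : (tensGL gs * factorPerm σ : GL (Fin t → Fin m) F) * (tensGL gs * factorPerm σ) = 1)
    (hr : ((tensGL gs * factorPerm σ : GL (Fin t → Fin m) F).val - 1).rank ≤ m ^ (t - 1)) :
    m = 3 ∧ σ = Equiv.swap k (σ k) := by
  classical
  set l := σ k with hl
  have hinv : ∀ j, σ (σ j) = j := fun j => by rw [← Equiv.Perm.mul_apply, hσ, Equiv.Perm.one_apply]
  have hsymm : ∀ j, σ.symm j = σ j := fun j => by
    rw [Equiv.symm_apply_eq, hinv]
  have hprod : (tensGL (gs * fun i => gs (σ.symm i)) : GL (Fin t → Fin m) F) = 1 := by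
    have e : tensGL (gs * fun i => gs (σ.symm i)) * factorPerm (σ * σ) =
        (tensGL gs * factorPerm σ : GL (Fin t → Fin m) F) * (tensGL gs * factorPerm σ) := by
      rw [wreath_mul]
    rwa [hσ, factorPerm_one, mul_one, h2] at e
  have hsc : ∀ j, ∃ s : F, (gs j : Matrix (Fin m) (Fin m) F) * (gs (σ j) : Matrix (Fin m) (Fin m) F) = s • 1 :=
    fun j => by
      obtain ⟨c, -, hc⟩ := tens_eq_one_imp (congrArg Units.val hprod) j
      exact ⟨c, by rw [← hc, Pi.mul_apply, hsymm]; rfl⟩
  let ord : Fin t → Fin t → Prop := fun j j' => σ j = j' ∧ j ≠ j'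
  -- normalise the second member of each of the pairs
  let Q : ∀ (k' : Fin t), Fin t → GL (Fin m) F := fun k' j => if j = σ k then gs j else if j = σ k' ∧ σ k' ≠ k' ∧ k' ≠ σ k then gs j else 1
  have key : ∀ (k' : Fin t) (z y : Fin t → Fin m),
      ((tensGL (Q k'))⁻¹ * (tensGL gs * factorPerm σ) * tensGL (Q k') : GL (Fin t → Fin m) F).val z y ≠ 0 →
      (z k = y l ∧ z l = y k) ∧
        ((σ k' ≠ k' ∧ k' ≠ σ k ∧ k' ≠ k) → z k' = y (σ k') ∧ z (σ k') = y k') := by
    intro k' z y hne
    have e : ((tensGL (Q k'))⁻¹ * (tensGL gs * factorPerm σ) * tensGL (Q k') : GL (Fin t → Fin m) F) =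
        tensGL (fun j => (Q k' j)⁻¹ * gs j * Q k' (σ.symm j)) * factorPerm σ := by
      have hi : (tensGL (Q k'))⁻¹ = (tensGL fun j => (Q k' j)⁻¹ : GL (Fin t → Fin m) F) :=
        (map_inv (tensHom m t F) (Q k')).symm
      rw [hi, mul_assoc, mul_assoc (tensGL gs), factorPerm_mul_tensGL, ← mul_assoc (tensGL gs), tensGL_mul,
        ← mul_assoc, tensGL_mul]
      congr 2
      funext j
      simp [mul_assoc]
    rw [e, wreath_apply, Finset.prod_ne_zero_iff] at hne
    have hzero : ∀ j, (∃ s : F, (((Q k' j)⁻¹ * gs j * Q k' (σ.symm j) : GL (Fin m) F) : Matrix (Fin m) (Fin m) F) = s • 1) →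
        z j = y (σ j) := by
      rintro j ⟨s, hs⟩
      have h := hne j (Finset.mem_univ j)
      rw [hs, hsymm] at h
      by_contra hc
      simp [Matrix.one_apply, hc] at h
    have hkk : k ≠ σ k := fun h => hk h.symm
    refine ⟨⟨hzero k ?_, ?_⟩, ?_⟩
    · obtain ⟨s, hs⟩ := hsc k
      refine ⟨s, ?_⟩
      have hq1 : Q k' k = 1 := by
        simp only [Q, if_neg hkk]
        rw [if_neg]
        rintro ⟨he, -, hne'⟩
        exact hne' (by rw [← hinv k', ← he])
      have hq2 : Q k' (σ k) = gs (σ k) := by simp [Q]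
      rw [hsymm, hq1, hq2, inv_one, one_mul, Units.val_mul, hs]
    · have h := hzero (σ k) ⟨1, ?_⟩
      · rwa [hinv] at h
      have hq1 : Q k' k = 1 := by
        simp only [Q, if_neg hkk]
        rw [if_neg]
        rintro ⟨he, -, hne'⟩
        exact hne' (by rw [← hinv k', ← he])
      have hq2 : Q k' (σ k) = gs (σ k) := by simp [Q]
      rw [hsymm, hinv, hq1, hq2, mul_one, inv_mul_cancel, Units.val_one, one_smul]
    · rintro ⟨hk', hkl', hkk'⟩
      have hq1 : Q k' k' = 1 := by simp [Q, hkl', Ne.symm hk']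
      have hq2 : Q k' (σ k') = gs (σ k') := by simp [Q, hk', hkl']
      refine ⟨hzero k' ?_, ?_⟩
      · obtain ⟨s, hs⟩ := hsc k'
        exact ⟨s, by rw [hsymm, hq1, hq2, inv_one, one_mul, Units.val_mul, hs]⟩
      · have h := hzero (σ k') ⟨1, by rw [hsymm, hinv, hq1, hq2, mul_one, inv_mul_cancel, Units.val_one, one_smul]⟩
        rwa [hinv] at h
  have hrank : ∀ k', ((((tensGL (Q k'))⁻¹ * (tensGL gs * factorPerm σ) * tensGL (Q k') : GL (Fin t → Fin m) F).val) - 1).rank ≤
      m ^ (t - 1) := fun k' => by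
    have h := ClMax99.TensorRank.rank_conj (tensGL (Q k'))⁻¹ (tensGL gs * factorPerm σ : GL (Fin t → Fin m) F).val 1
    rw [inv_inv, one_smul] at h
    rw [Units.val_mul, Units.val_mul ((tensGL (Q k'))⁻¹), h]
    exact hr
  have htot : (Finset.univ : Finset (Fin t → Fin m)).card = m ^ t := by simp
  have hkl : k ≠ l := fun h => hk h.symm
  have ht : 2 ≤ t := by
    by_contra h
    exact hkl (Fin.ext (by have := k.isLt; have := l.isLt; omega))
  let Y₁ := Finset.univ.filter fun y : Fin t → Fin m => True ∧ y k < y l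
  have hY₁ : 2 * Y₁.card + m ^ (t - 1) = m ^ t := by
    have h := two_mul_card_lt (m := m) k l hkl (fun _ => True) (fun _ => Iff.rfl)
    simp only [Finset.filter_true, htot] at h
    rwa [show (Finset.univ.filter fun y : Fin t → Fin m => True ∧ y k = y l).card = m ^ (t - 1) by
      simp only [true_and]; exact card_diag k l hkl] at h
  have hp : m ^ t = m * m ^ (t - 1) := by rw [← pow_succ', Nat.sub_add_cancel (by omega)]
  refine ⟨?_, ?_⟩
  · by_contra hm3
    have h := (card_le_rank_of_block _ Y₁ fun a ha b hb => ?_).trans (hrank k)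
    · nlinarith [pow_pos (show 0 < m by omega) (t - 1), Nat.mul_le_mul_right (m ^ (t - 1)) (show 4 ≤ m by omega)]
    · by_contra hne
      obtain ⟨⟨h1, h2⟩, -⟩ := key k a b hne
      simp only [Y₁, Finset.mem_filter] at ha hb
      rw [h1, h2] at ha
      exact lt_asymm ha.2.2 hb.2.2
  · refine Equiv.ext fun j => ?_
    by_cases hjk : j = k
    · subst hjk; simp [hl]
    by_cases hjl : j = l
    · subst hjl; simp [hl, hinv]
    rw [Equiv.swap_apply_of_ne_of_ne hjk hjl]
    by_contra hj
    have hkj' : k ≠ σ j := fun h => hjl (by rw [hl, h, hinv])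
    have hlj' : l ≠ σ j := fun h => hjk (σ.injective h).symm
    let Y₂ := Finset.univ.filter fun y : Fin t → Fin m => y k = y l ∧ y j < y (σ j)
    have hY₂ : 2 * Y₂.card + m ^ (t - 2) = m ^ (t - 1) := by
      have h := two_mul_card_lt (m := m) j (σ j) (Ne.symm hj) (fun y => y k = y l) (fun y => by
        rw [Function.comp_apply, Function.comp_apply, Equiv.swap_apply_of_ne_of_ne (Ne.symm hjk) hkj',
          Equiv.swap_apply_of_ne_of_ne (Ne.symm hjl) hlj'])
      rwa [card_diag k l hkl, show (Finset.univ.filter fun y : Fin t → Fin m => y k = y l ∧ y j = y (σ j)).card =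
        m ^ (t - 2) from card_diag_two k l j (σ j) hkl (Ne.symm hj) (Ne.symm hjk) hkj' (Ne.symm hjl) hlj'] at h
    have h := (card_le_rank_of_block _ (Y₁ ∪ Y₂) fun a ha b hb => ?_).trans (hrank j)
    · rw [Finset.card_union_of_disjoint] at h
      · have hp2 : m ^ (t - 1) = m * m ^ (t - 2) := by rw [← pow_succ']; congr 1; omega
        have hpos := pow_pos (show 0 < m by omega) (t - 2)
        nlinarith [Nat.mul_le_mul_right (m ^ (t - 2)) (show 3 * m ≤ m * m from Nat.mul_le_mul_right m hm)]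
      · rw [Finset.disjoint_left]
        intro y h1 h2
        simp only [Y₁, Y₂, Finset.mem_filter] at h1 h2
        exact ne_of_lt h1.2.2 h2.2.1
    · by_contra hne
      obtain ⟨⟨h1, h2⟩, h3⟩ := key j a b hne
      obtain ⟨h4, h5⟩ := h3 ⟨hj, hjl, hjk⟩
      simp only [Y₁, Y₂, Finset.mem_union, Finset.mem_filter, Finset.mem_univ, true_and] at ha hb
      rw [h1, h2, h4, h5] at ha
      omega

/-- Elements of the stabiliser with quadratic displacement of small rank. -/
theorem root_class [Finite F] (hm : 3 ≤ m) (ht : 1 ≤ t) {h : GL (Fin t → Fin m) F}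
    (hh : h ∈ Geo.tensorWreathStandard m t F)
    (h2 : ((h : Matrix (Fin t → Fin m) (Fin t → Fin m) F) - 1) * ((h : Matrix (Fin t → Fin m) (Fin t → Fin m) F) - 1) = 0)
    (hr : ((h : Matrix (Fin t → Fin m) (Fin t → Fin m) F) - 1).rank ≤ m ^ (t - 1)) :
    h = 1 ∨ IsSlotRoot h ∨ ((2 : F) = 0 ∧ m = 3 ∧ ∃ gs k l, k ≠ l ∧ h = tensGL gs * factorPerm (Equiv.swap k l)) := by
  classical
  have hslot : ∀ i B, (h : Matrix (Fin t → Fin m) (Fin t → Fin m) F) = slot i B → h = 1 ∨ IsSlotRoot h := by
    intro i B hB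
    have hd : (h : Matrix (Fin t → Fin m) (Fin t → Fin m) F) - 1 = slot i (B - 1) := by rw [hB, slot_sub', slot_one']
    by_cases hB1 : B - 1 = 0
    · exact Or.inl (Units.ext (by rw [Units.val_one, ← sub_eq_zero, hd, hB1, slot_zero']))
    · refine Or.inr ⟨i, B - 1, ⟨?_, ?_⟩, by rw [← hd, add_sub_cancel]⟩
      · rw [hd, rank_slot] at hr
        refine le_antisymm (Nat.le_of_mul_le_mul_left (hr.trans_eq (mul_one _).symm) (pow_pos (by omega) _)) ?_
        rw [Nat.one_le_iff_ne_zero]
        intro h0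
        rw [ClMax99.TensorRank.rank_eq, Submodule.finrank_eq_zero, LinearMap.range_eq_bot] at h0
        exact hB1 (Matrix.toLin'.injective (h0.trans (map_zero _).symm))
      · refine slot_injective (show 0 < m by omega) i ?_
        rw [slot_mul', slot_zero', ← hd, h2]
  obtain ⟨gs, σ, rfl⟩ := exists_wreath_elem hh
  by_cases hσ1 : σ = 1
  · subst hσ1
    obtain ⟨i, B, hB⟩ := tens_eq_slot hm ht gs (by simpa [factorPerm_one] using hr)
    exact (hslot i B (by rw [factorPerm_one, mul_one, hB])).imp id Or.inl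
  have hsq : ∀ τ : Equiv.Perm (Fin t), τ * τ = 1 → τ = σ →
      (tensGL gs * factorPerm σ : GL (Fin t → Fin m) F) * (tensGL gs * factorPerm σ) =
        tensGL (gs * fun i => gs (σ.symm i)) := by
    rintro τ hτ rfl
    rw [wreath_mul, hτ, factorPerm_one, mul_one]
  by_cases two : (2 : F) = 0
  · have hh2 : (tensGL gs * factorPerm σ : GL (Fin t → Fin m) F) * (tensGL gs * factorPerm σ) = 1 := by
      refine Units.ext ?_
      rw [Units.val_mul, sub_one_sq h2, Units.val_one, ← two_smul F _, two, zero_smul, zero_sub]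
      have : (1 : Matrix (Fin t → Fin m) (Fin t → Fin m) F) + 1 = 0 := by rw [← two_smul F 1, two, zero_smul]
      exact neg_eq_of_add_eq_zero_left this
    have hσ2 : σ * σ = 1 := by
      refine perm_unique (show 2 ≤ m by omega) (a := gs * fun i => gs (σ.symm i)) (b := 1) ?_
      rw [factorPerm_one, tensGL_one, one_mul, ← hh2, wreath_mul]
    obtain ⟨k, hk⟩ : ∃ k, σ k ≠ k := by
      by_contra hc
      push Not at hc
      exact hσ1 (Equiv.ext hc)
    obtain ⟨h3, hσ⟩ := swap_bound hm gs hσ2 hk hh2 hr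
    exact Or.inr (Or.inr ⟨two, h3, gs, k, σ k, Ne.symm hk, by rw [← hσ]⟩)
  · exfalso
    have hσ2 := sigma_sq_eq_one (show 2 ≤ m by omega) two h2
    have hXX := congrArg Units.val (hsq σ hσ2 rfl)
    rw [Units.val_mul, sub_one_sq h2] at hXX
    set X := (tensGL gs * factorPerm σ : GL (Fin t → Fin m) F).val
    set T := (tensGL (gs * fun i => gs (σ.symm i)) : GL (Fin t → Fin m) F).val
    have hT : T - 1 = (2 : F) • (X - 1) := by rw [← hXX, two_smul]; abel
    obtain ⟨i, B, hB⟩ := tens_eq_slot hm ht (gs * fun i => gs (σ.symm i)) (by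
      show (T - 1).rank ≤ _
      rw [hT, show (2 : F) • (X - 1) = ((2 : F) • (1 : Matrix (Fin t → Fin m) (Fin t → Fin m) F)) * (X - 1) by rw [Matrix.smul_mul, one_mul], Matrix.rank_mul_eq_right_of_isUnit_det _ _ (by
        rw [Matrix.det_smul, Matrix.det_one, mul_one]; exact (pow_ne_zero _ two).isUnit)]
      exact hr)
    have hX : X = slot i ((2 : F)⁻¹ • (B + 1)) := by
      rw [slot_smul', slot_add', slot_one', ← hB]
      show X = (2 : F)⁻¹ • (T + 1)
      rw [← hXX, sub_add_cancel, ← two_smul F, inv_smul_smul₀ two]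
    rcases hslot i _ hX with h1 | ⟨j, A, hA, h1⟩
    · exact hσ1 (perm_unique (show 2 ≤ m by omega) (a := gs) (b := 1) (by rw [h1, tensGL_one, factorPerm_one, mul_one]))
    · obtain ⟨g, -, hg⟩ := hA.exists_unit
      refine hσ1 (perm_unique (show 2 ≤ m by omega) (a := gs) (b := Function.update 1 j g) ?_)
      rw [factorPerm_one, mul_one]
      exact Units.ext (h1.trans (by show _ = (slotU j g).val; rw [slotU_coe, hg, slot_one_add]))

end Cfsg.Agent.WreathMax
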