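import Mathlib

/-!
The sum of a quadratic map over an elementary abelian group vanishes (helper1).
-/

set_option autoImplicit false
set_option linter.unusedSectionVars false

namespace Cfsg.Agent.WreathMax

variable {p : ℕ} [Fact p.Prime]

theorem sum_val_eq_zero (hp : p ≠ 2) {R : Type*} [CommRing R] [CharP R p] :
    ∑ a : ZMod p, ((a.val : ℕ) : R) = 0 := by
  have hp2 : ¬ p ∣ 2 := fun h => hp ((Nat.prime_dvd_prime_iff_eq Fact.out Nat.prime_two).mp h)
  have h1 : ∀ a : ZMod p, ((a.val : ℕ) : R) = ZMod.castHom (dvd_refl p) R a := fun a => by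
    rw [ZMod.castHom_apply, ← ZMod.natCast_val]
  simp only [h1]
  have h2 : ∑ a : ZMod p, a = 0 := by
    have h := Equiv.sum_comp (Equiv.neg (ZMod p)) (fun a => a)
    simp only [Equiv.neg_apply] at h
    rw [Finset.sum_neg_distrib] at h
    have h3 : (2 : ZMod p) * ∑ a : ZMod p, a = 0 := by linear_combination -h
    refine (mul_eq_zero.mp h3).resolve_left fun e => hp2 ?_
    exact (ZMod.natCast_eq_zero_iff 2 p).mp (by exact_mod_cast e)
  rw [← map_sum, h2, map_zero]

theorem sum_pair_eq_zero {r : ℕ} (hr : 3 ≤ r ∨ (p ≠ 2 ∧ 2 ≤ r)) {R : Type*} [CommRing R] [CharP R p] (i j : Fin r) :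
    ∑ x : Fin r → ZMod p, (((x i).val * (x j).val : ℕ) : R) = 0 := by
  classical
  have hone : ∑ _a : ZMod p, (1 : R) = 0 := by simp [ZMod.card, CharP.cast_eq_zero R p]
  let φ : Fin r → ZMod p → R := fun k a =>
    (if k = i then ((a.val : ℕ) : R) else 1) * (if k = j then ((a.val : ℕ) : R) else 1)
  have e : ∀ x : Fin r → ZMod p, (((x i).val * (x j).val : ℕ) : R) = ∏ k, φ k (x k) := fun x => by
    simp only [φ, Finset.prod_mul_distrib, Finset.prod_ite_eq', Finset.mem_univ, if_true, Nat.cast_mul]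
  simp only [e, ← Fintype.prod_sum]
  by_cases hk : ∃ k, k ≠ i ∧ k ≠ j
  · obtain ⟨k, hki, hkj⟩ := hk
    exact Finset.prod_eq_zero (Finset.mem_univ k) (by simp [φ, hki, hkj, hone])
  · push Not at hk
    have hc : r ≤ 2 := by
      have h1 : (Finset.univ : Finset (Fin r)) ⊆ {i, j} := fun k _ => by
        simp only [Finset.mem_insert, Finset.mem_singleton]
        exact or_iff_not_imp_left.mpr (hk k)
      have h2 := (Finset.card_le_card h1).trans Finset.card_le_two
      simpa using h2
    obtain ⟨hp, hr2⟩ := hr.resolve_left (by omega)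
    have hij : i ≠ j := by
      rintro rfl
      haveI : Nontrivial (Fin r) := Fin.nontrivial_iff_two_le.mpr hr2
      obtain ⟨k, hk'⟩ := exists_ne i
      exact hk' (hk k hk')
    refine Finset.prod_eq_zero (Finset.mem_univ i) ?_
    simp only [φ, if_true, if_neg hij, mul_one]
    exact sum_val_eq_zero hp

theorem sum_one_eq_zero {r : ℕ} (hr : 2 ≤ r) {R : Type*} [CommRing R] [CharP R p] (i : Fin r) :
    ∑ x : Fin r → ZMod p, (((x i).val : ℕ) : R) = 0 := by
  classical
  have hone : ∑ _a : ZMod p, (1 : R) = 0 := by simp [ZMod.card, CharP.cast_eq_zero R p]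
  let φ : Fin r → ZMod p → R := fun k a => if k = i then ((a.val : ℕ) : R) else 1
  have e : ∀ x : Fin r → ZMod p, (((x i).val : ℕ) : R) = ∏ k, φ k (x k) := fun x => by
    simp [φ, Finset.prod_ite_eq']
  simp only [e, ← Fintype.prod_sum]
  haveI : Nontrivial (Fin r) := Fin.nontrivial_iff_two_le.mpr hr
  obtain ⟨k, hk⟩ := exists_ne i
  exact Finset.prod_eq_zero (Finset.mem_univ k) (by simp [φ, hk, hone])

/-- A quadratic map sums to zero over an elementary abelian group which is not too small. -/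
theorem sum_quadratic_eq_zero {F : Type*} [Field F] [CharP F p] {L : Type*} [AddCommGroup L] [Module (ZMod p) L]
    [Fintype L] (hL : 3 ≤ Module.finrank (ZMod p) L ∨ (p ≠ 2 ∧ 2 ≤ Module.finrank (ZMod p) L))
    {M : Type*} [AddCommGroup M] [Module F M] (l : L →+ M) (B : L →+ L →+ M) (y : M) :
    ∑ v : L, (y + l v + B v v) = 0 := by
  classical
  set r := Module.finrank (ZMod p) L
  let b := Module.finBasis (ZMod p) L
  rw [← b.equivFun.symm.toEquiv.sum_comp]
  have hx : ∀ x : Fin r → ZMod p, b.equivFun.symm x = ∑ i, (x i).val • b i := fun x => by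
    rw [Module.Basis.equivFun_symm_apply]
    refine Finset.sum_congr rfl fun i _ => ?_
    rw [← Nat.cast_smul_eq_nsmul (ZMod p), ZMod.natCast_zmod_val]
  simp only [LinearEquiv.coe_toEquiv, hx, Finset.sum_add_distrib]
  have hr2 : 2 ≤ r := by omega
  have hy : ∑ _x : Fin r → ZMod p, y = 0 := by
    rw [Finset.sum_const, Finset.card_univ, Fintype.card_fun, ZMod.card, Fintype.card_fin, ← Nat.cast_smul_eq_nsmul F,
      Nat.cast_pow, CharP.cast_eq_zero, zero_pow (by omega), zero_smul]
  have hl : ∑ x : Fin r → ZMod p, l (∑ i, (x i).val • b i) = 0 := by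
    simp only [map_sum, map_nsmul, ← Nat.cast_smul_eq_nsmul F]
    rw [Finset.sum_comm]
    exact Finset.sum_eq_zero fun i _ => by rw [← Finset.sum_smul, sum_one_eq_zero hr2 i, zero_smul]
  have hB : ∑ x : Fin r → ZMod p, B (∑ i, (x i).val • b i) (∑ i, (x i).val • b i) = 0 := by
    simp only [map_sum, map_nsmul, AddMonoidHom.finsetSum_apply, AddMonoidHom.smul_apply, smul_smul,
      Finset.smul_sum, ← Nat.cast_smul_eq_nsmul F]
    rw [Finset.sum_comm]
    refine Finset.sum_eq_zero fun i _ => ?_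
    rw [Finset.sum_comm]
    refine Finset.sum_eq_zero fun j _ => ?_
    rw [← Finset.sum_smul]
    simp only [← Nat.cast_mul, sum_pair_eq_zero hL, zero_smul]
  rw [hy, hl, hB, add_zero, add_zero]

end Cfsg.Agent.WreathMax
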