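import Cfsg.Agent.WreathMax.Phi
import Cfsg.Agent.WreathMax.RootClass
import Cfsg.Agent.WreathMax.QuadSum

/-!
Averaging over the cosets of the stabiliser (helper1).
-/

set_option autoImplicit false
set_option linter.unusedSectionVars false

namespace Cfsg.Agent.WreathMax

open Matrix Cfsg.Agent.MaxSub Cfsg.Agent.MaxSub.Asch Cfsg.Agent.FG75.SpinTensor
open scoped Kronecker

variable {F : Type*} [Field F] {m t : ℕ}

theorem conjHom_mul' (g h : GL (Fin t → Fin m) F) (X : Matrix (Fin t → Fin m) (Fin t → Fin m) F) :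
    conjHom (g * h) X = conjHom g (conjHom h X) := by
  simp only [conjHom_apply, _root_.mul_inv_rev, Units.val_mul, mul_assoc]

/-- The conjugate of the slot projections. -/
def twist (g : GL (Fin t → Fin m) F) :
    Matrix (Fin t → Fin m) (Fin t → Fin m) F →ₗ[F] Matrix (Fin t → Fin m) (Fin t → Fin m) F :=
  (conjHom g).toLinearMap ∘ₗ Phi ∘ₗ (conjHom g⁻¹).toLinearMap

theorem twist_apply (g : GL (Fin t → Fin m) F) (X : Matrix (Fin t → Fin m) (Fin t → Fin m) F) :
    twist g X = conjHom g (Phi (conjHom g⁻¹ X)) := rfl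

theorem twist_mul_right [Finite F] (g : GL (Fin t → Fin m) F) {w : GL (Fin t → Fin m) F}
    (hw : w ∈ Geo.tensorWreathStandard m t F) : twist (g * w) = twist g := by
  refine LinearMap.ext fun X => ?_
  rw [twist_apply, twist_apply, conjHom_mul', _root_.mul_inv_rev, conjHom_mul', ← Phi_equivariant hw,
    conjHom_conjHom_inv]

theorem twist_mul_left (a g : GL (Fin t → Fin m) F) (X : Matrix (Fin t → Fin m) (Fin t → Fin m) F) :
    twist (a * g) (conjHom a X) = conjHom a (twist g X) := by
  rw [twist_apply, twist_apply, conjHom_mul', _root_.mul_inv_rev, conjHom_mul',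
    show conjHom a⁻¹ (conjHom a X) = X by
      have := conjHom_conjHom_inv a⁻¹ X
      rwa [inv_inv] at this]

variable (H : Subgroup (GL (Fin t → Fin m) F))

/-- The cosets of the stabiliser in `H`. -/
abbrev Cosets : Type _ := ↥H ⧸ (Geo.tensorWreathStandard m t F).subgroupOf H

/-- The twist attached to a coset. -/
noncomputable def cosetTwist [Finite F] :
    Cosets H → Matrix (Fin t → Fin m) (Fin t → Fin m) F →ₗ[F] Matrix (Fin t → Fin m) (Fin t → Fin m) F :=
  fun q => Quotient.liftOn' q (fun g : H => twist (g : GL (Fin t → Fin m) F)) fun g g' hgg' => by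
    rw [QuotientGroup.leftRel_apply, Subgroup.mem_subgroupOf] at hgg'
    rw [show (g' : GL (Fin t → Fin m) F) = (g : GL (Fin t → Fin m) F) * ((g⁻¹ * g' : H) : GL (Fin t → Fin m) F) by simp,
      twist_mul_right _ hgg']

variable [Fintype F]

theorem cosetTwist_mk (g : H) : cosetTwist H (QuotientGroup.mk g) = twist (g : GL (Fin t → Fin m) F) := rfl

/-- The averaged map. -/
noncomputable def avg : Matrix (Fin t → Fin m) (Fin t → Fin m) F →ₗ[F] Matrix (Fin t → Fin m) (Fin t → Fin m) F :=
  letI := Fintype.ofFinite (Cosets H)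
  ∑ q : Cosets H, cosetTwist H q

theorem cosetTwist_smul (g : H) (q : Cosets H) (X : Matrix (Fin t → Fin m) (Fin t → Fin m) F) :
    cosetTwist H (g • q) (conjHom (g : GL (Fin t → Fin m) F) X) =
      conjHom (g : GL (Fin t → Fin m) F) (cosetTwist H q X) := by
  induction q using QuotientGroup.induction_on with
  | H x => exact twist_mul_left _ _ _

theorem avg_equivariant {g : GL (Fin t → Fin m) F} (hg : g ∈ H) (X : Matrix (Fin t → Fin m) (Fin t → Fin m) F) :
    avg H (conjHom g X) = conjHom g (avg H X) := by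
  letI := Fintype.ofFinite (Cosets H)
  simp only [avg, LinearMap.sum_apply, map_sum]
  rw [← Equiv.sum_comp (MulAction.toPerm (⟨g, hg⟩ : H))]
  exact Finset.sum_congr rfl fun q _ => cosetTwist_smul H ⟨g, hg⟩ q X

/-- The cosets different from the stabiliser itself give the defect. -/
theorem avg_sub_Phi (X : Matrix (Fin t → Fin m) (Fin t → Fin m) F) [Fintype (Cosets H)] [DecidableEq (Cosets H)] :
    avg H X - Phi X = ∑ q ∈ Finset.univ.erase (QuotientGroup.mk (1 : H)), cosetTwist H q X := by
  have h1 : cosetTwist H (QuotientGroup.mk (1 : H)) X = Phi X := by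
    rw [cosetTwist_mk, OneMemClass.coe_one, twist_apply]
    simp [conjHom_apply]
  rw [Finset.sum_erase_eq_sub (Finset.mem_univ _), h1]
  congr 1
  rw [avg, LinearMap.sum_apply]
  congr 1
  exact Finset.eq_univ_of_forall (fun x => @Finset.mem_univ _ (Fintype.ofFinite _) x)

theorem mk_eq_one_iff (g : H) :
    (QuotientGroup.mk g : Cosets H) = QuotientGroup.mk 1 ↔
      (g : GL (Fin t → Fin m) F) ∈ Geo.tensorWreathStandard m t F := by
  rw [eq_comm, QuotientGroup.eq, Subgroup.mem_subgroupOf]
  simp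

/-- The sum over the orbits of a group of transvections off the base coset vanishes. -/
theorem avg_eq_Phi_of_fixed {p : ℕ} [Fact p.Prime] [CharP F p] {V : Type*} [AddCommGroup V] [Module (ZMod p) V]
    [Finite V] (N : V →+ Matrix (Fin t → Fin m) (Fin t → Fin m) F) (a : Multiplicative V →* H)
    (ha : ∀ v, (a (Multiplicative.ofAdd v) : GL (Fin t → Fin m) F).val = 1 + N v)
    (hW : ∀ v, (a (Multiplicative.ofAdd v) : GL (Fin t → Fin m) F) ∈ Geo.tensorWreathStandard m t F)
    (hL : ∀ g : H, (g : GL (Fin t → Fin m) F) ∉ Geo.tensorWreathStandard m t F → ∃ L : Submodule (ZMod p) V,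
      (3 ≤ Module.finrank (ZMod p) L ∨ (p ≠ 2 ∧ 2 ≤ Module.finrank (ZMod p) L)) ∧
      (∀ v ∈ L, (g : GL (Fin t → Fin m) F)⁻¹ * (a (Multiplicative.ofAdd v) : GL (Fin t → Fin m) F) *
          (g : GL (Fin t → Fin m) F) ∈ Geo.tensorWreathStandard m t F → v = 0) ∧
      ∀ v, ∃ l ∈ L, (g : GL (Fin t → Fin m) F)⁻¹ * (a (Multiplicative.ofAdd (v - l)) : GL (Fin t → Fin m) F) *
          (g : GL (Fin t → Fin m) F) ∈ Geo.tensorWreathStandard m t F)
    {X : Matrix (Fin t → Fin m) (Fin t → Fin m) F}
    (hX : ∀ v, N v * X = 0 ∧ X * N v = 0) : avg H X = Phi X := by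
  classical
  letI := Fintype.ofFinite (Cosets H)
  letI := Fintype.ofFinite V
  rw [← sub_eq_zero, avg_sub_Phi]
  let α : V → Cosets H → Cosets H := fun v q => a (Multiplicative.ofAdd v) • q
  have hα : ∀ v w q, α v (α w q) = α (v + w) q := fun v w q => by simp [α, smul_smul, map_mul]
  have hα0 : ∀ q, α 0 q = q := fun q => by simp [α]
  let r : Setoid (Cosets H) :=
    { r := fun q q' => ∃ v, α v q = q'
      iseqv :=
        ⟨fun q => ⟨0, hα0 q⟩, fun {q q'} ⟨v, hv⟩ => ⟨-v, by rw [← hv, hα, neg_add_cancel, hα0]⟩,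
          fun {q q' q''} ⟨v, hv⟩ ⟨w, hw⟩ => ⟨w + v, by rw [← hα, hv, hw]⟩⟩ }
  letI : Fintype (Quotient r) := Fintype.ofFinite _
  rw [← Finset.sum_fiberwise (Finset.univ.erase (QuotientGroup.mk (1 : H))) (fun q => Quotient.mk r q)]
  refine Finset.sum_eq_zero fun o _ => ?_
  by_cases hne : ((Finset.univ.erase (QuotientGroup.mk (1 : H))).filter fun q => Quotient.mk r q = o) = ∅
  · rw [hne, Finset.sum_empty]
  obtain ⟨q₀, hq₀⟩ := Finset.nonempty_iff_ne_empty.mpr hne
  simp only [Finset.mem_filter, Finset.mem_erase, Finset.mem_univ, and_true] at hq₀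
  obtain ⟨hq₀, rfl⟩ := hq₀
  obtain ⟨g, rfl⟩ := QuotientGroup.mk_surjective q₀
  have hg : (g : GL (Fin t → Fin m) F) ∉ Geo.tensorWreathStandard m t F := fun h => hq₀ ((mk_eq_one_iff H g).mpr h)
  obtain ⟨L, hLr, hLinj, hLsurj⟩ := hL g hg
  have hfix : ∀ v, α v (QuotientGroup.mk g) = QuotientGroup.mk g ↔
      (g : GL (Fin t → Fin m) F)⁻¹ * (a (Multiplicative.ofAdd v) : GL (Fin t → Fin m) F) * (g : GL (Fin t → Fin m) F) ∈
        Geo.tensorWreathStandard m t F := fun v => by
    show (QuotientGroup.mk (a (Multiplicative.ofAdd v) * g) : Cosets H) = QuotientGroup.mk g ↔ _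
    rw [eq_comm, QuotientGroup.eq, Subgroup.mem_subgroupOf]
    simp [mul_assoc]
  have himg : ((Finset.univ.erase (QuotientGroup.mk (1 : H))).filter fun q => Quotient.mk r q = Quotient.mk r (QuotientGroup.mk g)) =
      (Finset.univ : Finset L).image fun l : L => α (l : V) (QuotientGroup.mk g) := by
    ext q
    simp only [Finset.mem_filter, Finset.mem_erase, Finset.mem_univ, and_true, Finset.mem_image, true_and]
    constructor
    · rintro ⟨-, hq⟩
      obtain ⟨v, hv⟩ := Quotient.exact hq.symm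
      obtain ⟨l, hl, hvl⟩ := hLsurj v
      refine ⟨⟨l, hl⟩, ?_⟩
      rw [← hv, ← sub_add_cancel v l, add_comm (v - l) l, ← hα l (v - l), (hfix (v - l)).mpr hvl]
    · rintro ⟨l, rfl⟩
      refine ⟨fun h => hq₀ ?_, (Quotient.sound (show r (QuotientGroup.mk g) (α (l : V) (QuotientGroup.mk g)) from ⟨(l : V), rfl⟩)).symm⟩
      have h' := congrArg (α (-(l : V))) h
      rw [hα, neg_add_cancel, hα0] at h'
      rw [h']
      exact (mk_eq_one_iff H _).mpr (by simpa using hW (-(l : V)))
  have hinj : Function.Injective fun l : L => α (l : V) (QuotientGroup.mk g) := by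
    intro l l' h
    have h' := congrArg (α (-(l' : V))) h
    simp only [hα, neg_add_cancel, hα0] at h'
    have := hLinj _ (L.add_mem (L.neg_mem l'.2) l.2) ((hfix _).mp h')
    exact Subtype.ext (neg_add_eq_zero.mp this).symm
  rw [himg, Finset.sum_image fun x _ y _ h => hinj h]
  set Y := cosetTwist H (QuotientGroup.mk g) X
  have hinv : ∀ v, ((a (Multiplicative.ofAdd v) : GL (Fin t → Fin m) F)⁻¹).val = 1 - N v := fun v => by
    rw [← InvMemClass.coe_inv, ← map_inv, ← ofAdd_neg, ha, map_neg, sub_eq_add_neg]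
  have hterm : ∀ v, cosetTwist H (α v (QuotientGroup.mk g)) X = Y + (N v * Y - Y * N v) + -(N v * Y * N v) := by
    intro v
    have hfixX : conjHom (a (Multiplicative.ofAdd v) : GL (Fin t → Fin m) F) X = X := by
      rw [conjHom_apply, ha, hinv, add_mul, one_mul, (hX v).1, add_zero, mul_sub, mul_one, (hX v).2, sub_zero]
    have h := cosetTwist_smul H (a (Multiplicative.ofAdd v)) (QuotientGroup.mk g) X
    rw [hfixX] at h
    rw [h, conjHom_apply, ha, hinv]
    noncomm_ring
  let l₁ : L →+ Matrix (Fin t → Fin m) (Fin t → Fin m) F :=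
    AddMonoidHom.mk' (fun v => N v * Y - Y * N v) fun v w => by
      simp only [Submodule.coe_add, map_add, add_mul, mul_add]; abel
  let B : L →+ L →+ Matrix (Fin t → Fin m) (Fin t → Fin m) F :=
    AddMonoidHom.mk' (fun v => AddMonoidHom.mk' (fun w => -(N v * Y * N w)) fun w w' => by
      simp only [Submodule.coe_add, map_add, mul_add]; abel) fun v v' => by
        refine AddMonoidHom.ext fun w => ?_
        simp only [AddMonoidHom.mk'_apply, AddMonoidHom.add_apply, Submodule.coe_add, map_add, add_mul]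
        abel
  simp only [hterm]
  exact sum_quadratic_eq_zero (F := F) hLr l₁ B Y

end Cfsg.Agent.WreathMax
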