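import Cfsg.Agent.FG75.SpinTensor
import Cfsg.Agent.TensorMax.LineStab
import Cfsg.Agent.ClMax99.TensorRank

/-!
Low rank matrices in the span of the slots of a tensor power live in one slot (helper1).
-/

set_option autoImplicit false
set_option linter.unusedSectionVars false

namespace Cfsg.Agent.WreathMax

open Matrix Cfsg.Agent.MaxSub Cfsg.Agent.MaxSub.Asch Cfsg.Agent.FG75.SpinTensor
open scoped Kronecker

variable {F : Type*} [Field F] {m t : ℕ}

/-- A sum of two Kronecker products with sufficiently general factors has large rank. -/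
theorem card_lt_rank {a : ℕ} {W : Type} [Fintype W] [DecidableEq W] (ha : 3 ≤ a)
    {A : Matrix (Fin a) (Fin a) F} (hA : ∀ c : F, A ≠ c • 1) {P Q : Matrix W W F}
    (hP : ∀ z, P *ᵥ z = 0 → z = 0) (hPQ : ∀ c : F, c • P + Q ≠ 0) :
    Fintype.card W < (A ⊗ₖ P + (1 : Matrix (Fin a) (Fin a) F) ⊗ₖ Q).rank := by
  classical
  obtain ⟨v, hv0, hv⟩ := TensorMax.exists_not_eigen hA
  have hU : Module.finrank F (Submodule.span F ({v, A *ᵥ v} : Set (Fin a → F))) < a := by
    refine lt_of_le_of_lt ((finrank_span_le_card (R := F) _).trans ?_) (show 2 < a by omega)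
    simp only [Set.toFinset_insert, Set.toFinset_singleton]
    exact Finset.card_le_two
  obtain ⟨u, hu⟩ : ∃ u, u ∉ Submodule.span F ({v, A *ᵥ v} : Set (Fin a → F)) := by
    by_contra hc
    push Not at hc
    rw [Submodule.eq_top_iff'.mpr hc, finrank_top, Module.finrank_fin_fun] at hU
    omega
  obtain ⟨φ, hφ, hφu⟩ := exists_annihilator hu
  have hφv : φ ⬝ᵥ v = 0 := hφ v (Submodule.subset_span (by simp))
  have hφAv : φ ⬝ᵥ (A *ᵥ v) = 0 := hφ _ (Submodule.subset_span (by simp))
  obtain ⟨z₀, hz₀⟩ : ∃ z, ((φ ⬝ᵥ (A *ᵥ u)) • P + Q) *ᵥ z ≠ 0 := by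
    by_contra hc
    push Not at hc
    refine hPQ (φ ⬝ᵥ (A *ᵥ u)) (Matrix.ext fun i j => ?_)
    simpa [Matrix.mulVec_single_one] using congrFun (hc (Pi.single j 1)) i
  set Z := A ⊗ₖ P + (1 : Matrix (Fin a) (Fin a) F) ⊗ₖ Q with hZ
  let L : ((W → F) × F) →ₗ[F] (Fin a × W → F) :=
    { toFun := fun zs p => v p.1 * zs.1 p.2 + zs.2 * (u p.1 * z₀ p.2)
      map_add' := fun x y => by funext p; simp [mul_add, add_mul]; ring
      map_smul' := fun c x => by funext p; simp [mul_add]; ring }
  have hkr : ∀ (B : Matrix (Fin a) (Fin a) F) (R : Matrix W W F) (x : Fin a → F) (z : W → F) (i : Fin a) (j : W),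
      ((B ⊗ₖ R) *ᵥ fun p => x p.1 * z p.2) (i, j) = (B *ᵥ x) i * (R *ᵥ z) j := by
    intro B R x z i j
    simp only [Matrix.mulVec, dotProduct, Matrix.kroneckerMap_apply, Fintype.sum_prod_type, Finset.sum_mul_sum]
    exact Finset.sum_congr rfl fun i _ => Finset.sum_congr rfl fun j _ => by ring
  have hinj : Function.Injective (Matrix.toLin' Z ∘ₗ L) := by
    refine (injective_iff_map_eq_zero _).2 fun zs hzs => ?_
    obtain ⟨z, s⟩ := zs
    have key : ∀ i j, (A *ᵥ v) i * (P *ᵥ z) j + v i * (Q *ᵥ z) j +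
        s * ((A *ᵥ u) i * (P *ᵥ z₀) j + u i * (Q *ᵥ z₀) j) = 0 := by
      intro i j
      have h := congrFun hzs (i, j)
      simp only [LinearMap.comp_apply, Matrix.toLin'_apply] at h
      have hL : L (z, s) = (fun p => v p.1 * z p.2) + s • fun p => u p.1 * z₀ p.2 := by
        funext p; simp [L]
      rw [hL, hZ, Matrix.add_mulVec, Matrix.mulVec_add, Matrix.mulVec_add, Matrix.mulVec_smul, Matrix.mulVec_smul] at h
      simp only [Pi.add_apply, Pi.smul_apply, smul_eq_mul, Pi.zero_apply, hkr, Matrix.one_mulVec] at h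
      linear_combination h
    have hs : s = 0 := by
      by_contra hs
      refine hz₀ (funext fun j => ?_)
      have h : ∑ i, φ i * ((A *ᵥ v) i * (P *ᵥ z) j + v i * (Q *ᵥ z) j +
          s * ((A *ᵥ u) i * (P *ᵥ z₀) j + u i * (Q *ᵥ z₀) j)) = 0 :=
        Finset.sum_eq_zero fun i _ => by rw [key i j, mul_zero]
      have e : ∀ x : Fin a → F, ∑ i, φ i * x i = φ ⬝ᵥ x := fun x => rfl
      simp only [mul_add, Finset.sum_add_distrib, ← mul_assoc, mul_comm (φ _) s, ← Finset.sum_mul] at h
      simp only [mul_assoc s, ← Finset.mul_sum, e, hφAv, hφv, hφu, zero_mul, zero_add] at h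
      rw [Matrix.add_mulVec, Matrix.smul_mulVec, Pi.add_apply, Pi.smul_apply, smul_eq_mul, Pi.zero_apply]
      refine (mul_eq_zero.1 ?_).resolve_left hs
      linear_combination h
    have hz : P *ᵥ z = 0 := by
      funext j
      by_contra hne
      refine hv (Submodule.mem_span_singleton.mpr ⟨-((Q *ᵥ z) j) / (P *ᵥ z) j, funext fun i => ?_⟩)
      rw [Pi.smul_apply, smul_eq_mul]
      have h := key i j
      rw [hs, zero_mul, add_zero] at h
      have hne' : (P *ᵥ z) j ≠ 0 := hne
      field_simp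
      linear_combination -h
    simp [hs, hP z hz]
  have h1 := LinearMap.finrank_range_of_inj hinj
  rw [Module.finrank_prod, Module.finrank_pi, Module.finrank_self] at h1
  rw [ClMax99.TensorRank.rank_eq]
  have h2 := Submodule.finrank_mono (LinearMap.range_comp_le_range L (Matrix.toLin' Z))
  omega

/-- The index set of the slots other than `i`. -/
abbrev Rest (i : Fin t) (m : ℕ) : Type := {j // j ≠ i} → Fin m

/-- Separating the slot `i`. -/
abbrev splitSlot (i : Fin t) (m : ℕ) : (Fin t → Fin m) ≃ Fin m × Rest i m := Equiv.funSplitAt i (Fin m)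

theorem splitSlot_symm_self (i : Fin t) (a : Fin m) (z : Rest i m) : (splitSlot i m).symm (a, z) i = a := by
  simp [splitSlot, Equiv.funSplitAt, Equiv.piSplitAt]

theorem splitSlot_symm_ne (i : Fin t) (a : Fin m) (z : Rest i m) (j : {j // j ≠ i}) :
    (splitSlot i m).symm (a, z) j = z j := by
  simp [splitSlot, Equiv.funSplitAt, Equiv.piSplitAt, j.2]

/-- The product over the slots other than `i`. -/
def restTens (i : Fin t) (b : Fin t → Matrix (Fin m) (Fin m) F) : Matrix (Rest i m) (Rest i m) F :=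
  Matrix.of fun z w => ∏ j : {j // j ≠ i}, b j (z j) (w j)

theorem restTens_congr {i : Fin t} {b c : Fin t → Matrix (Fin m) (Fin m) F} (h : ∀ j, j ≠ i → b j = c j) :
    restTens i b = restTens i c := by
  ext z w
  simp only [restTens, Matrix.of_apply]
  exact Finset.prod_congr rfl fun j _ => by rw [h (j : Fin t) j.2]

theorem restTens_one (i : Fin t) : restTens i (1 : Fin t → Matrix (Fin m) (Fin m) F) = 1 := by
  ext z w
  rw [restTens, Matrix.of_apply, Matrix.one_apply]
  split_ifs with h
  · subst h; simp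
  · obtain ⟨j, hj⟩ := Function.ne_iff.mp h
    exact Finset.prod_eq_zero (Finset.mem_univ j) (by simp [hj])

theorem restTens_mul (i : Fin t) (b c : Fin t → Matrix (Fin m) (Fin m) F) :
    restTens i b * restTens i c = restTens i (b * c) := by
  ext z w
  simp only [Matrix.mul_apply, restTens, Matrix.of_apply, Pi.mul_apply, Fintype.prod_sum, ← Finset.prod_mul_distrib]

theorem reindex_tens (i : Fin t) (b : Fin t → Matrix (Fin m) (Fin m) F) :
    Matrix.reindex (splitSlot i m) (splitSlot i m) (tens b) = b i ⊗ₖ restTens i b := by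
  ext ⟨a, z⟩ ⟨c, w⟩
  rw [Matrix.reindex_apply, Matrix.submatrix_apply, tens_apply, Fintype.prod_eq_mul_prod_subtype_ne _ i]
  simp only [Matrix.kroneckerMap_apply, restTens, Matrix.of_apply, splitSlot_symm_self, splitSlot_symm_ne]

theorem reindex_slot (i : Fin t) (A : Matrix (Fin m) (Fin m) F) :
    Matrix.reindex (splitSlot i m) (splitSlot i m) (slot i A) = A ⊗ₖ (1 : Matrix (Rest i m) (Rest i m) F) := by
  rw [slot, reindex_tens, Function.update_self,
    restTens_congr (c := 1) (fun j hj => Function.update_of_ne hj _ _), restTens_one]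

theorem reindex_one (i : Fin t) :
    Matrix.reindex (splitSlot i m) (splitSlot i m) (1 : Matrix (Fin t → Fin m) (Fin t → Fin m) F) =
      (1 : Matrix (Fin m) (Fin m) F) ⊗ₖ (1 : Matrix (Rest i m) (Rest i m) F) := by
  rw [Matrix.reindex_apply, Matrix.submatrix_one_equiv, Matrix.one_kronecker_one]

theorem card_rest (i : Fin t) (m : ℕ) : Fintype.card (Rest i m) = m ^ (t - 1) := by
  rw [Fintype.card_fun, Fintype.card_fin, Fintype.card_subtype_compl, Fintype.card_fin, Fintype.card_subtype_eq]

theorem slot_zero' (i : Fin t) : slot i (0 : Matrix (Fin m) (Fin m) F) = 0 :=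
  tens_eq_zero (l := i) (Function.update_self _ _ _)

theorem slot_sum' {κ : Type*} (i : Fin t) (s : Finset κ) (A : κ → Matrix (Fin m) (Fin m) F) :
    slot i (∑ k ∈ s, A k) = ∑ k ∈ s, slot i (A k) := by
  classical
  induction s using Finset.induction with
  | empty => simp [slot_zero']
  | insert a s ha ih => rw [Finset.sum_insert ha, Finset.sum_insert ha, slot_add', ih]

theorem slot_injective (hm : 0 < m) (i : Fin t) :
    Function.Injective (slot i : Matrix (Fin m) (Fin m) F → _) := fun A B h => by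
  ext a b
  have := congrFun (congrFun h (Function.update (fun _ => ⟨0, hm⟩) i a)) (Function.update (fun _ => ⟨0, hm⟩) i b)
  rw [slot_entry_self _ (fun j hj => by simp [hj]), slot_entry_self _ (fun j hj => by simp [hj])] at this
  simpa using this

theorem kron_one_mul {a : ℕ} {W : Type} [Fintype W] [DecidableEq W] (A B : Matrix (Fin a) (Fin a) F) :
    (A ⊗ₖ (1 : Matrix W W F)) * (B ⊗ₖ (1 : Matrix W W F)) = (A * B) ⊗ₖ (1 : Matrix W W F) := by
  rw [← Matrix.mul_kronecker_mul, one_mul]

/-- The rank of a matrix in one slot. -/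
theorem rank_slot (i : Fin t) (A : Matrix (Fin m) (Fin m) F) : (slot i A).rank = m ^ (t - 1) * A.rank := by
  have hW := Fintype.equivFin (Rest i m)
  have h := Matrix.rank_reindex (splitSlot i m) (splitSlot i m) (slot i A)
  rw [← h, reindex_slot, ← card_rest i m]
  rw [← Matrix.rank_reindex ((Equiv.prodComm _ _).trans (hW.prodCongr (Equiv.refl _)))
    ((Equiv.prodComm _ _).trans (hW.prodCongr (Equiv.refl _))) (A ⊗ₖ (1 : Matrix (Rest i m) (Rest i m) F))]
  have e : Matrix.reindex ((Equiv.prodComm _ _).trans (hW.prodCongr (Equiv.refl _)))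
      ((Equiv.prodComm _ _).trans (hW.prodCongr (Equiv.refl _))) (A ⊗ₖ (1 : Matrix (Rest i m) (Rest i m) F)) =
      (1 : Matrix (Fin (Fintype.card (Rest i m))) (Fin (Fintype.card (Rest i m))) F) ⊗ₖ A := by
    ext ⟨x, a⟩ ⟨y, b⟩
    simp [Matrix.one_apply, mul_comm]
  rw [e, ClMax99.TensorRank.rank_one_kronecker]

theorem nonscalar_cases {A : Matrix (Fin m) (Fin m) F} (hA : ∀ c : F, A ≠ c • 1) :
    (∃ a b, a ≠ b ∧ A a b ≠ 0) ∨ ∃ a b, A a a ≠ A b b := by
  by_contra hc
  push Not at hc
  rcases Nat.eq_zero_or_pos m with rfl | hm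
  · exact hA 0 (Matrix.ext fun i => i.elim0)
  refine hA (A ⟨0, hm⟩ ⟨0, hm⟩) (Matrix.ext fun a b => ?_)
  by_cases h : a = b
  · subst h; simp [hc.2 a ⟨0, hm⟩]
  · simp [h, hc.1 a b h]

/-- A matrix in the span of the slots of rank at most `m ^ (t - 1)` involves at most one slot
up to scalars. -/
theorem sum_slot_eq_slot (hm : 3 ≤ m) (ht : 1 ≤ t) (A : Fin t → Matrix (Fin m) (Fin m) F)
    (hr : (∑ i, slot i (A i)).rank ≤ m ^ (t - 1)) : ∃ i B, ∑ j, slot j (A j) = slot i B := by
  classical
  have hall : ∀ i₀, (∀ c : F, A i₀ ≠ c • 1) → ∀ j, j ≠ i₀ → ∃ c : F, A j = c • 1 := by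
    intro i₀ hi₀ j₀ hj₀
    by_contra hj
    push Not at hj
    let e := splitSlot i₀ m
    let a₀ : Fin m := ⟨0, by omega⟩
    let Y : Matrix (Rest i₀ m) (Rest i₀ m) F :=
      Matrix.of fun z w => ∑ j : {j // j ≠ i₀}, slot (j : Fin t) (A j) (e.symm (a₀, z)) (e.symm (a₀, w))
    have hX : Matrix.reindex e e (∑ i, slot i (A i)) =
        A i₀ ⊗ₖ (1 : Matrix (Rest i₀ m) (Rest i₀ m) F) + (1 : Matrix (Fin m) (Fin m) F) ⊗ₖ Y := by
      rw [← reindex_slot i₀ (A i₀)]
      ext ⟨a, z⟩ ⟨c, w⟩
      simp only [Matrix.reindex_apply, Matrix.submatrix_apply, Matrix.sum_apply, Matrix.add_apply,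
        Matrix.kroneckerMap_apply, Matrix.one_apply, Y, Matrix.of_apply]
      rw [Fintype.sum_eq_add_sum_subtype_ne _ i₀]
      congr 1
      by_cases hac : a = c
      · subst hac
        rw [if_pos rfl, one_mul]
        refine Finset.sum_congr rfl fun j _ => ?_
        rw [slot_apply, slot_apply]
        rw [splitSlot_symm_ne, splitSlot_symm_ne, splitSlot_symm_ne, splitSlot_symm_ne]
        congr 1
        refine Finset.prod_congr rfl fun k hk => ?_
        by_cases hki : k = i₀
        · subst hki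
          rw [splitSlot_symm_self, splitSlot_symm_self, splitSlot_symm_self, splitSlot_symm_self,
            Matrix.one_apply_eq, Matrix.one_apply_eq]
        · rw [splitSlot_symm_ne i₀ a z ⟨k, hki⟩, splitSlot_symm_ne i₀ a w ⟨k, hki⟩,
            splitSlot_symm_ne i₀ a₀ z ⟨k, hki⟩, splitSlot_symm_ne i₀ a₀ w ⟨k, hki⟩]
      · rw [if_neg hac, zero_mul]
        refine Finset.sum_eq_zero fun j _ => slot_entry_eq_zero _ (Ne.symm j.2) ?_
        simpa [e, splitSlot_symm_self] using hac
    have hY : ∀ c : F, c • (1 : Matrix (Rest i₀ m) (Rest i₀ m) F) + Y ≠ 0 := by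
      intro c hc
      have hd : ∀ z w, z ≠ w → Y z w = 0 := fun z w h => by
        simpa [Matrix.one_apply, h] using congrFun (congrFun hc z) w
      have hd' : ∀ z w, Y z z = Y w w := fun z w => by
        have h1 := congrFun (congrFun hc z) z
        have h2 := congrFun (congrFun hc w) w
        simp at h1 h2
        linear_combination h1 - h2
      let jj : {j // j ≠ i₀} := ⟨j₀, hj₀⟩
      let base : Fin m → Rest i₀ m := fun a => Function.update (fun _ => a₀) jj a
      have hterm : ∀ a b (j : {j // j ≠ i₀}), j ≠ jj → slot (j : Fin t) (A j) (e.symm (a₀, base a)) (e.symm (a₀, base b)) =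
          if a = b then A j a₀ a₀ else 0 := by
        intro a b j hjj
        have hv : ∀ k : {j // j ≠ i₀}, k ≠ jj → ∀ a, e.symm (a₀, base a) (k : Fin t) = a₀ := fun k hk a => by
          rw [splitSlot_symm_ne]; simp [base, hk]
        by_cases hab : a = b
        · subst hab
          rw [if_pos rfl, slot_entry_self _ (fun k _ => rfl), hv j hjj]
        · rw [if_neg hab]
          refine slot_entry_eq_zero _ (j := j₀) (fun h => hjj (Subtype.ext h.symm)) ?_
          rw [show j₀ = (jj : Fin t) from rfl, splitSlot_symm_ne, splitSlot_symm_ne]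
          simpa [base] using hab
      have hY2 : ∀ a b, Y (base a) (base b) = A j₀ a b +
          (if a = b then ∑ j : {j // j ≠ jj}, A (j : {j // j ≠ i₀}) a₀ a₀ else 0) := by
        intro a b
        simp only [Y, Matrix.of_apply]
        rw [Fintype.sum_eq_add_sum_subtype_ne _ jj]
        congr 1
        · rw [slot_entry_self, splitSlot_symm_ne, splitSlot_symm_ne]
          · simp [base, jj]
          · intro k hk
            by_cases hki : k = i₀
            · subst hki; simp [e, splitSlot_symm_self]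
            · rw [splitSlot_symm_ne i₀ a₀ _ ⟨k, hki⟩, splitSlot_symm_ne i₀ a₀ _ ⟨k, hki⟩]
              have : (⟨k, hki⟩ : {j // j ≠ i₀}) ≠ jj := fun h => hk (congrArg Subtype.val h)
              simp [base, this]
        · by_cases hab : a = b
          · rw [if_pos hab]; exact Finset.sum_congr rfl fun j _ => by rw [hterm a b j j.2, if_pos hab]
          · rw [if_neg hab]; exact Finset.sum_eq_zero fun j _ => by rw [hterm a b j j.2, if_neg hab]
      rcases nonscalar_cases hj with ⟨a, b, hab, hne⟩ | ⟨a, b, hne⟩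
      · have := hd (base a) (base b) (fun h => hab (by simpa [base] using congrFun h jj))
        rw [hY2, if_neg hab, add_zero] at this
        exact hne this
      · have := hd' (base a) (base b)
        rw [hY2, hY2, if_pos rfl, if_pos rfl] at this
        exact hne (add_right_cancel this)
    have h := card_lt_rank hm hi₀ (P := (1 : Matrix (Rest i₀ m) (Rest i₀ m) F)) (fun z hz => by simpa using hz) hY
    rw [← hX, Matrix.rank_reindex, card_rest] at h
    omega
  by_cases hex : ∃ i₀, ∀ c : F, A i₀ ≠ c • 1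
  · obtain ⟨i₀, hi₀⟩ := hex
    choose c hc using hall i₀ hi₀
    refine ⟨i₀, A i₀ + (∑ j : {j // j ≠ i₀}, c j j.2) • 1, ?_⟩
    rw [slot_add', slot_smul_one, Fintype.sum_eq_add_sum_subtype_ne _ i₀, Finset.sum_smul]
    congr 1
    refine Finset.sum_congr rfl fun j _ => ?_
    rw [hc j j.2, slot_smul_one]
  · push Not at hex
    choose c hc using hex
    refine ⟨⟨0, by omega⟩, (∑ j, c j) • 1, ?_⟩
    rw [slot_smul_one, Finset.sum_smul]
    refine Finset.sum_congr rfl fun j _ => ?_
    rw [hc j, slot_smul_one]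

/-- An invertible pure tensor close to the identity lives in one slot. -/
theorem tens_eq_slot (hm : 3 ≤ m) (ht : 1 ≤ t) (gs : Fin t → GL (Fin m) F)
    (hr : ((tensGL gs : GL (Fin t → Fin m) F).val - 1).rank ≤ m ^ (t - 1)) :
    ∃ i B, (tensGL gs : GL (Fin t → Fin m) F).val = slot i B := by
  classical
  set b : Fin t → Matrix (Fin m) (Fin m) F := fun i => (gs i : Matrix (Fin m) (Fin m) F) with hb
  have hv : (tensGL gs : GL (Fin t → Fin m) F).val = tens b := rfl
  rw [hv] at hr ⊢
  have hall : ∀ i₀, (∀ c : F, b i₀ ≠ c • 1) → ∀ j, j ≠ i₀ → ∃ c : F, b j = c • 1 := by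
    intro i₀ hi₀ j₀ hj₀
    by_contra hj
    push Not at hj
    have hPz : ∀ z, restTens i₀ b *ᵥ z = 0 → z = 0 := fun z hz => by
      have h1 : restTens i₀ (fun i => ((gs i)⁻¹ : GL (Fin m) F).val) * restTens i₀ b = 1 := by
        rw [restTens_mul, restTens_congr (c := 1) (fun j _ => by simp [hb]), restTens_one]
      have := congrArg (restTens i₀ (fun i => ((gs i)⁻¹ : GL (Fin m) F).val) *ᵥ ·) hz
      simp only [Matrix.mulVec_mulVec, h1, Matrix.one_mulVec, Matrix.mulVec_zero] at this
      exact this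
    have hPQ : ∀ c : F, c • restTens i₀ b + (-1) ≠ 0 := by
      intro c hc
      rw [← sub_eq_add_neg, sub_eq_zero] at hc
      have h1 : tens (Function.update b i₀ (c • 1)) = 1 := by
        apply (Matrix.reindex (splitSlot i₀ m) (splitSlot i₀ m)).injective
        rw [reindex_tens, reindex_one, Function.update_self,
          restTens_congr (c := b) (fun j hj => Function.update_of_ne hj _ _), Matrix.smul_kronecker,
          ← Matrix.kronecker_smul, hc]
      obtain ⟨d, -, hd⟩ := tens_eq_one_imp h1 j₀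
      rw [Function.update_of_ne hj₀] at hd
      exact hj d hd
    have h := card_lt_rank hm hi₀ hPz hPQ
    rw [← reindex_tens, ← neg_one_smul F (1 : Matrix (Rest i₀ m) (Rest i₀ m) F), Matrix.kronecker_smul,
      neg_one_smul, ← sub_eq_add_neg, ← reindex_one,
      show ∀ X Y, Matrix.reindex (splitSlot i₀ m) (splitSlot i₀ m) X - Matrix.reindex (splitSlot i₀ m) (splitSlot i₀ m) Y =
        (Matrix.reindex (splitSlot i₀ m) (splitSlot i₀ m) (X - Y) : Matrix _ _ F) from fun X Y => rfl,
      Matrix.rank_reindex, card_rest] at h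
    omega
  obtain ⟨i₀, hi₀⟩ : ∃ i₀ : Fin t, ∀ j, j ≠ i₀ → ∃ c : F, b j = c • 1 := by
    by_cases hex : ∃ i₀, ∀ c : F, b i₀ ≠ c • 1
    · obtain ⟨i₀, hi₀⟩ := hex; exact ⟨i₀, hall i₀ hi₀⟩
    · push Not at hex; exact ⟨⟨0, by omega⟩, fun j _ => hex j⟩
  choose c hc using hi₀
  let cc : Fin t → F := fun j => if h : j = i₀ then 1 else c j h
  refine ⟨i₀, (∏ j, cc j) • b i₀, ?_⟩
  rw [slot_smul', slot, ← tens_smul]
  congr 1
  funext j
  by_cases h : j = i₀
  · subst h; simp [cc]
  · simp [cc, h, hc j h]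

end Cfsg.Agent.WreathMax
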