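import Cfsg.Agent.FG75.SpinTensor

/-!
Root elements of the slots of a tensor power (helper1).
-/

set_option autoImplicit false

namespace Cfsg.Agent.WreathMax

open Matrix Cfsg.Agent.MaxSub.Asch

variable {F : Type*} [Field F] {m t : ℕ}

/-- A non-trivial transvection. -/
def IsRootNil (A : Matrix (Fin m) (Fin m) F) : Prop := A.rank = 1 ∧ A * A = 0

/-- The transvections of one slot. -/
def IsSlotRoot (g : GL (Fin t → Fin m) F) : Prop :=
  ∃ i A, IsRootNil A ∧ (g : Matrix (Fin t → Fin m) (Fin t → Fin m) F) = 1 + slot i A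

/-- No transvection of a slot is conjugated to another one outside the stabiliser. -/
def NoRootFusion (H : Subgroup (GL (Fin t → Fin m) F)) : Prop :=
  ∀ g ∈ H, g ∉ Geo.tensorWreathStandard m t F → ∀ u, IsSlotRoot u → ¬ IsSlotRoot (g⁻¹ * u * g)

end Cfsg.Agent.WreathMax
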