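import Cfsg.Agent.WreathMax.SlotRank
import Cfsg.Agent.WreathMax.Defs
import Cfsg.Agent.MaxSub.Frame.Basic

/-!
Slot elements and transvections of slots (helper1).
-/

set_option autoImplicit false
set_option linter.unusedSectionVars false

namespace Cfsg.Agent.WreathMax

open Matrix Cfsg.Agent.MaxSub Cfsg.Agent.MaxSub.Asch Cfsg.Agent.FG75.SpinTensor
open scoped Kronecker

variable {F : Type*} [Field F] {m t : ℕ}

theorem tensGL_mem (gs : Fin t → GL (Fin m) F) : tensGL gs ∈ Geo.tensorWreathStandard m t F :=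
  Subgroup.subset_closure (Or.inl ⟨gs, fun _ _ => rfl⟩)

theorem factorPerm_mem (σ : Equiv.Perm (Fin t)) : factorPerm σ ∈ Geo.tensorWreathStandard m t F :=
  Subgroup.subset_closure (Or.inr ⟨σ, fun _ _ => rfl⟩)

/-- An invertible matrix in one slot. -/
def slotU (i : Fin t) (A : GL (Fin m) F) : GL (Fin t → Fin m) F := tensGL (Function.update 1 i A)

theorem slotU_coe (i : Fin t) (A : GL (Fin m) F) :
    (slotU i A : Matrix (Fin t → Fin m) (Fin t → Fin m) F) = slot i (A : Matrix (Fin m) (Fin m) F) := by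
  show tens _ = tens _
  congr 1
  funext j
  rcases eq_or_ne j i with rfl | hj
  · simp
  · simp [Function.update_of_ne hj]

theorem slotU_mul (i : Fin t) (A B : GL (Fin m) F) : slotU i (A * B) = slotU i A * slotU i B :=
  Units.ext (by rw [Units.val_mul, slotU_coe, slotU_coe, slotU_coe, Units.val_mul, slot_mul'])

theorem slotU_mem (i : Fin t) (A : GL (Fin m) F) : slotU i A ∈ Geo.tensorWreathStandard m t F :=
  tensGL_mem _

theorem det_slot (i : Fin t) (A : Matrix (Fin m) (Fin m) F) : (slot i A).det = A.det ^ (m ^ (t - 1)) := by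
  rw [← Matrix.det_reindex_self (splitSlot i m), reindex_slot, Matrix.det_kronecker, Matrix.det_one, one_pow,
    mul_one, card_rest]

theorem det_slotU {i : Fin t} {A : GL (Fin m) F} (hA : Matrix.GeneralLinearGroup.det A = 1) :
    Matrix.GeneralLinearGroup.det (slotU i A) = 1 := by
  refine Units.ext ?_
  have h := congrArg Units.val hA
  simp only [Matrix.GeneralLinearGroup.val_det_apply, Units.val_one] at h
  rw [Matrix.GeneralLinearGroup.val_det_apply, slotU_coe, det_slot, h, one_pow, Units.val_one]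

theorem slot_sub' (i : Fin t) (A B : Matrix (Fin m) (Fin m) F) : slot i (A - B) = slot i A - slot i B := by
  rw [eq_sub_iff_add_eq, ← slot_add', sub_add_cancel]

theorem slot_one_add (i : Fin t) (A : Matrix (Fin m) (Fin m) F) : slot i (1 + A) = 1 + slot i A := by
  rw [slot_add', slot_one']

theorem IsRootNil.exists_vecMulVec {A : Matrix (Fin m) (Fin m) F} (h : IsRootNil A) :
    ∃ v φ : Fin m → F, v ≠ 0 ∧ φ ≠ 0 ∧ φ ⬝ᵥ v = 0 ∧ A = vecMulVec v φ := by
  obtain ⟨h1, h2⟩ := h
  rw [ClMax99.TensorRank.rank_eq] at h1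
  obtain ⟨⟨v, hv⟩, hv0, hspan⟩ := finrank_eq_one_iff'.mp h1
  have hv' : v ≠ 0 := fun e => hv0 (Subtype.ext e)
  choose φ hφ using fun j : Fin m => hspan ⟨A *ᵥ Pi.single j 1, _, Matrix.toLin'_apply _ _⟩
  have hA : A = vecMulVec v φ := by
    ext i j
    have h := congrFun (congrArg Subtype.val (hφ j)) i
    simp only [SetLike.val_smul, Pi.smul_apply, smul_eq_mul, Matrix.mulVec_single_one, Matrix.col_apply] at h
    rw [vecMulVec_apply, ← h, mul_comm]
  have hA0 : A ≠ 0 := fun e => by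
    rw [← ClMax99.TensorRank.rank_eq, e, Matrix.rank_zero] at h1
    exact zero_ne_one h1
  have hφ0 : φ ≠ 0 := fun e => hA0 (by rw [hA, e, vecMulVec_zero])
  refine ⟨v, φ, hv', hφ0, ?_, hA⟩
  rw [hA, vecMulVec_mul_vecMulVec] at h2
  obtain ⟨i, hi⟩ := Function.ne_iff.mp hv'
  obtain ⟨j, hj⟩ := Function.ne_iff.mp hφ0
  have h := congrFun (congrFun h2 i) j
  simp only [vecMulVec_apply, Pi.smul_apply, smul_eq_mul, Matrix.zero_apply, mul_eq_zero] at h
  rcases h with h | h | h
  · exact absurd h hi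
  · exact h
  · exact absurd h hj

theorem isRootNil_single {a b : Fin m} (hab : a ≠ b) {c : F} (hc : c ≠ 0) :
    IsRootNil (Matrix.single a b c) := by
  refine ⟨le_antisymm ?_ ?_, by simp [Ne.symm hab]⟩
  · rw [show Matrix.single a b c = vecMulVec (Pi.single a c) (Pi.single b 1) by
      ext i j; simp [Matrix.single_apply, vecMulVec_apply, Pi.single_apply]; grind]
    exact rank_vecMulVec_le _ _
  · rw [Nat.one_le_iff_ne_zero]
    intro h
    rw [ClMax99.TensorRank.rank_eq, Submodule.finrank_eq_zero, LinearMap.range_eq_bot] at h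
    have h' := congrFun (LinearMap.congr_fun h (Pi.single b 1)) a
    simp [Matrix.single_apply] at h'
    exact hc h'

theorem IsRootNil.exists_unit {A : Matrix (Fin m) (Fin m) F} (h : IsRootNil A) :
    ∃ g : GL (Fin m) F, Matrix.GeneralLinearGroup.det g = 1 ∧ (g : Matrix (Fin m) (Fin m) F) = 1 + A := by
  obtain ⟨v, φ, -, -, hφv, rfl⟩ := h.exists_vecMulVec
  exact ⟨tv v φ, det_tv v φ, tv_coe hφv⟩

/-- The transvection of a slot. -/
theorem IsRootNil.exists_slotRoot {A : Matrix (Fin m) (Fin m) F} (h : IsRootNil A) (i : Fin t) :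
    ∃ g : GL (Fin t → Fin m) F, g ∈ Geo.tensorWreathStandard m t F ∧
      Matrix.GeneralLinearGroup.det g = 1 ∧ (g : Matrix (Fin t → Fin m) (Fin t → Fin m) F) = 1 + slot i A := by
  obtain ⟨g, hg, hgA⟩ := h.exists_unit
  exact ⟨slotU i g, slotU_mem i g, det_slotU hg, by rw [slotU_coe, hgA, slot_one_add]⟩

theorem IsSlotRoot.mem {g : GL (Fin t → Fin m) F} (h : IsSlotRoot g) :
    g ∈ Geo.tensorWreathStandard m t F ∧ Matrix.GeneralLinearGroup.det g = 1 := by
  obtain ⟨i, A, hA, hg⟩ := h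
  obtain ⟨g', h1, h2, h3⟩ := hA.exists_slotRoot i
  obtain rfl : g = g' := Units.ext (hg.trans h3.symm)
  exact ⟨h1, h2⟩

theorem IsRootNil.conj {A : Matrix (Fin m) (Fin m) F} (h : IsRootNil A) (g : GL (Fin m) F) :
    IsRootNil ((g : Matrix (Fin m) (Fin m) F) * A * ((g⁻¹ : GL (Fin m) F) : Matrix (Fin m) (Fin m) F)) := by
  refine ⟨?_, ?_⟩
  · have h1 := ClMax99.TensorRank.rank_conj g A 0
    rw [zero_smul, sub_zero, sub_zero] at h1
    rw [h1, h.1]
  · rw [show ∀ P A Q : Matrix (Fin m) (Fin m) F, P * A * Q * (P * A * Q) = P * (A * (Q * P) * A) * Q from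
      fun P A Q => by simp only [mul_assoc], Units.inv_mul, mul_one, h.2, mul_zero, zero_mul]

theorem conj_one_add (g : GL (Fin t → Fin m) F) (X : Matrix (Fin t → Fin m) (Fin t → Fin m) F) :
    (g : Matrix (Fin t → Fin m) (Fin t → Fin m) F) * (1 + X) * ((g⁻¹ : GL (Fin t → Fin m) F) : Matrix _ _ F) =
      1 + (g : Matrix (Fin t → Fin m) (Fin t → Fin m) F) * X * ((g⁻¹ : GL (Fin t → Fin m) F) : Matrix _ _ F) := by
  rw [mul_add, add_mul, mul_one, Units.mul_inv]

/-- Members of the stabiliser permute the transvections of slots. -/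
theorem IsSlotRoot.conj [Finite F] {u : GL (Fin t → Fin m) F} (h : IsSlotRoot u) {w : GL (Fin t → Fin m) F}
    (hw : w ∈ Geo.tensorWreathStandard m t F) : IsSlotRoot (w * u * w⁻¹) := by
  obtain ⟨i, A, hA, hu⟩ := h
  obtain ⟨gs, σ, -, hwc⟩ := wreath_conj hw
  exact ⟨σ i, _, hA.conj (gs (σ i)), by rw [Units.val_mul, Units.val_mul, hu, conj_one_add, hwc]⟩

theorem factorPerm_mulVec (σ : Equiv.Perm (Fin t)) (v : (Fin t → Fin m) → F) :
    ((factorPerm σ : GL (Fin t → Fin m) F) : Matrix _ _ F) *ᵥ v = fun x => v (x ∘ σ) := by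
  funext y
  simp [factorPerm, Matrix.mulVec, dotProduct]

theorem conj_specialLinear_le {H : Subgroup (GL (Fin t → Fin m) F)} (x : GL (Fin t → Fin m) F)
    (h : Geo.specialLinear (Fin t → Fin m) F ≤ H.map (MulAut.conj x).toMonoidHom) :
    Geo.specialLinear (Fin t → Fin m) F ≤ H := fun g hg => by
  obtain ⟨k, hk, hkg⟩ := h (show x * g * x⁻¹ ∈ Geo.specialLinear (Fin t → Fin m) F by
    have hg' : Matrix.GeneralLinearGroup.det g = 1 := hg
    show Matrix.GeneralLinearGroup.det (x * g * x⁻¹) = 1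
    simp [hg'])
  have : x * k * x⁻¹ = x * g * x⁻¹ := hkg
  rwa [mul_left_cancel (mul_right_cancel this)] at hk

end Cfsg.Agent.WreathMax
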