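import Cfsg.Agent.WreathMax.EAlg

/-!
An element centralising a transvection of the first slot (helper1).
-/

set_option autoImplicit false
set_option linter.unusedSectionVars false

namespace Cfsg.Agent.WreathMax

open Matrix Cfsg.Agent.MaxSub Cfsg.Agent.MaxSub.Asch Cfsg.Agent.FG75.SpinTensor
open scoped Kronecker

variable {F : Type*} [Field F] [Fintype F] {m t : ℕ} {H : Subgroup (GL (Fin (t + 1) → Fin m) F)}

/-- A matrix with one row of blocks. -/
def rowM (o : Fin m) (P : Fin m → Matrix (Fin t → Fin m) (Fin t → Fin m) F) :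
    Matrix (Fin (t + 1) → Fin m) (Fin (t + 1) → Fin m) F :=
  ∑ q, kz (Matrix.single o q 1) (P q)

/-- A matrix with one column of blocks. -/
def colM (w : Fin m) (Q : Fin m → Matrix (Fin t → Fin m) (Fin t → Fin m) F) :
    Matrix (Fin (t + 1) → Fin m) (Fin (t + 1) → Fin m) F :=
  ∑ p, kz (Matrix.single p w 1) (Q p)

theorem zblk_rowM (o : Fin m) (P : Fin m → Matrix (Fin t → Fin m) (Fin t → Fin m) F) (a b : Fin m) :
    zblk (rowM o P) a b = if a = o then P b else 0 := by
  simp only [rowM, zblk_sum, zblk_kz, Matrix.single_apply, ite_smul, one_smul, zero_smul]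
  by_cases h : a = o
  · subst h; simp
  · simp [h, Ne.symm h]

theorem zblk_colM (w : Fin m) (Q : Fin m → Matrix (Fin t → Fin m) (Fin t → Fin m) F) (a b : Fin m) :
    zblk (colM w Q) a b = if b = w then Q a else 0 := by
  simp only [colM, zblk_sum, zblk_kz, Matrix.single_apply, ite_smul, one_smul, zero_smul]
  by_cases h : b = w
  · subst h; simp
  · simp [h, Ne.symm h]

/-- A row of blocks in `H` splits. -/
theorem mem_eAlg_of_row (hM : ContainsM H) (hm : 3 ≤ m) {o : Fin m} {P : Fin m → Matrix (Fin t → Fin m) (Fin t → Fin m) F}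
    (hP : P o = 0) {g : GL (Fin (t + 1) → Fin m) F} (hg : g ∈ H) (hgP : g.val = 1 + rowM o P) {j : Fin m}
    (hj : j ≠ o) : P j ∈ eAlg hM hm := by
  obtain ⟨k, -, hk⟩ := Finset.exists_mem_notMem_of_card_lt_card (s := ({o, j} : Finset (Fin m)))
    (t := Finset.univ) (lt_of_le_of_lt Finset.card_le_two (by rw [Finset.card_univ, Fintype.card_fin]; omega))
  simp only [Finset.mem_insert, Finset.mem_singleton, not_or] at hk
  obtain ⟨x, hx1, hx2, hx⟩ := (isRootNil_single (F := F) (Ne.symm hk.2) one_ne_zero).exists_slotRoot (0 : Fin (t + 1))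
  set N := kz (Matrix.single j k (1 : F)) (1 : Matrix (Fin t → Fin m) (Fin t → Fin m) F) with hN
  have hx' : x.val = 1 + N := by rw [hx, slot_zero_eq_kz]
  have hNN : N * N = 0 := by rw [hN, kz_single_mul, if_neg hk.2]
  have hinv : (x⁻¹).val = 1 - N := by
    refine left_inv_eq_right_inv (Units.inv_mul x) ?_
    rw [hx', add_mul, mul_sub, one_mul, mul_sub, mul_one, hNN]; simp
  set R := rowM o P with hR
  have hNR : N * R = 0 := by
    rw [hR, rowM, Finset.mul_sum]
    exact Finset.sum_eq_zero fun q _ => by rw [hN, kz_single_mul, if_neg hk.1]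
  have hRN : R * N = kz (Matrix.single o k 1) (P j) := by
    rw [hR, rowM, Finset.sum_mul, Finset.sum_eq_single j]
    · rw [hN, kz_single_mul, if_pos rfl, mul_one]
    · intro q _ hq; rw [hN, kz_single_mul, if_neg hq]
    · simp
  have hRR : R * R = 0 := by
    rw [hR, rowM, Finset.sum_mul]
    refine Finset.sum_eq_zero fun q _ => ?_
    rw [Finset.mul_sum]
    refine Finset.sum_eq_zero fun q' _ => ?_
    rw [kz_single_mul]
    split_ifs with h
    · rw [h, hP, zero_mul, kz_zero_right]
    · rfl
  have hRK : R * kz (Matrix.single o k 1) (P j) = 0 := by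
    rw [hR, rowM, Finset.sum_mul]
    refine Finset.sum_eq_zero fun q _ => ?_
    rw [kz_single_mul]
    split_ifs with h
    · rw [h, hP, zero_mul, kz_zero_right]
    · rfl
  have hginv : (g⁻¹).val = 1 - R := by
    refine left_inv_eq_right_inv (Units.inv_mul g) ?_
    rw [hgP, add_mul, mul_sub, one_mul, mul_sub, mul_one, hRR]; simp
  have hmem : InT H o k (-P j) := by
    refine ⟨g⁻¹ * (x * g * x⁻¹), mul_mem (inv_mem hg) (mul_mem (mul_mem (hM x hx1 hx2) hg) (inv_mem (hM x hx1 hx2))), ?_⟩
    rw [Units.val_mul, Units.val_mul, Units.val_mul, hgP, hginv, hinv, hx']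
    have e : (1 + N) * (1 + R) * (1 - N) = 1 + R - R * N := by
      simp only [mul_add, add_mul, mul_sub, one_mul, mul_one, hNR, hNN, zero_mul, add_zero]
      abel
    rw [e, hRN, sub_mul, one_mul, mul_sub, mul_add, mul_one, hRR, hRK, kz_neg_right]
    abel
  have := neg_mem (mem_eAlg_of_inT hM hm (Ne.symm hk.1) hmem)
  rwa [neg_neg] at this

/-- A column of blocks in `H` splits. -/
theorem mem_eAlg_of_col (hM : ContainsM H) (hm : 3 ≤ m) {w : Fin m} {Q : Fin m → Matrix (Fin t → Fin m) (Fin t → Fin m) F}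
    (hQ : Q w = 0) {g : GL (Fin (t + 1) → Fin m) F} (hg : g ∈ H) (hgQ : g.val = 1 + colM w Q) {k : Fin m}
    (hk : k ≠ w) : Q k ∈ eAlg hM hm := by
  obtain ⟨j, -, hj⟩ := Finset.exists_mem_notMem_of_card_lt_card (s := ({w, k} : Finset (Fin m)))
    (t := Finset.univ) (lt_of_le_of_lt Finset.card_le_two (by rw [Finset.card_univ, Fintype.card_fin]; omega))
  simp only [Finset.mem_insert, Finset.mem_singleton, not_or] at hj
  obtain ⟨x, hx1, hx2, hx⟩ := (isRootNil_single (F := F) hj.2 one_ne_zero).exists_slotRoot (0 : Fin (t + 1))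
  set N := kz (Matrix.single j k (1 : F)) (1 : Matrix (Fin t → Fin m) (Fin t → Fin m) F) with hN
  have hx' : x.val = 1 + N := by rw [hx, slot_zero_eq_kz]
  have hNN : N * N = 0 := by rw [hN, kz_single_mul, if_neg (Ne.symm hj.2)]
  have hinv : (x⁻¹).val = 1 - N := by
    refine left_inv_eq_right_inv (Units.inv_mul x) ?_
    rw [hx', add_mul, mul_sub, one_mul, mul_sub, mul_one, hNN]; simp
  set C := colM w Q with hC
  have hCN : C * N = 0 := by
    rw [hC, colM, Finset.sum_mul]
    exact Finset.sum_eq_zero fun q _ => by rw [hN, kz_single_mul, if_neg (Ne.symm hj.1)]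
  have hNC : N * C = kz (Matrix.single j w 1) (Q k) := by
    rw [hC, colM, Finset.mul_sum, Finset.sum_eq_single k]
    · rw [hN, kz_single_mul, if_pos rfl, one_mul]
    · intro q _ hq; rw [hN, kz_single_mul, if_neg (Ne.symm hq)]
    · simp
  have hCC : C * C = 0 := by
    rw [hC, colM, Finset.sum_mul]
    refine Finset.sum_eq_zero fun q _ => ?_
    rw [Finset.mul_sum]
    refine Finset.sum_eq_zero fun q' _ => ?_
    rw [kz_single_mul]
    split_ifs with h
    · rw [← h, hQ, mul_zero, kz_zero_right]
    · rfl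
  have hCK : C * kz (Matrix.single j w 1) (Q k) = 0 := by
    rw [hC, colM, Finset.sum_mul]
    exact Finset.sum_eq_zero fun q _ => by rw [kz_single_mul, if_neg (Ne.symm hj.1)]
  have hginv : (g⁻¹).val = 1 - C := by
    refine left_inv_eq_right_inv (Units.inv_mul g) ?_
    rw [hgQ, add_mul, mul_sub, one_mul, mul_sub, mul_one, hCC]; simp
  have hmem : InT H j w (Q k) := by
    refine ⟨g⁻¹ * (x * g * x⁻¹), mul_mem (inv_mem hg) (mul_mem (mul_mem (hM x hx1 hx2) hg) (inv_mem (hM x hx1 hx2))), ?_⟩
    rw [Units.val_mul, Units.val_mul, Units.val_mul, hgQ, hginv, hinv, hx']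
    have e : (1 + N) * (1 + C) * (1 - N) = 1 + C + N * C := by
      simp only [mul_add, add_mul, mul_sub, one_mul, mul_one, mul_assoc, hCN, hNN, mul_zero, add_zero]
      abel
    rw [e, hNC, sub_mul, one_mul, mul_add, mul_add, mul_one, hCC, hCK]
    abel
  exact mem_eAlg_of_inT hM hm hj.1 hmem

/-- An element normalising the transvection of the first slot: either the algebra is larger than the scalars,
or the element respects the first slot. -/
theorem block_dichotomy (hM : ContainsM H) (hm : 3 ≤ m) {o w : Fin m} (how : o ≠ w) {s : GL (Fin (t + 1) → Fin m) F}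
    (hs : s.val * kz (Matrix.single o w (1 : F)) 1 = kz (Matrix.single o w (1 : F)) 1 * s.val)
    (hsM : ∀ u, IsSlotRoot u → s * u * s⁻¹ ∈ H) :
    (∃ X ∈ eAlg hM hm, ∀ c : F, X ≠ c • 1) ∨ ∃ (k : GL (Fin m) F) (S : GL (Fin t → Fin m) F), s = kzU k S := by
  classical
  by_contra hcon
  push Not at hcon
  obtain ⟨hscal, hno⟩ := hcon
  set N := kz (Matrix.single o w (1 : F)) (1 : Matrix (Fin t → Fin m) (Fin t → Fin m) F) with hN
  set r := s⁻¹ with hr
  have hr' : r.val * N = N * r.val := by
    have h := congrArg (fun X => r.val * X * r.val) hs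
    simp only [hr, mul_assoc, Units.mul_inv, mul_one, Units.inv_mul_cancel_left] at h
    exact h.symm
  have hblk : ∀ (x : GL (Fin (t + 1) → Fin m) F), x.val * N = N * x.val → (∀ a, a ≠ o → zblk x.val a o = 0) ∧
      (∀ b, b ≠ w → zblk x.val w b = 0) ∧ zblk x.val o o = zblk x.val w w := by
    intro x hx
    have key : ∀ a b, (if b = w then zblk x.val a o else 0) = if a = o then zblk x.val w b else 0 := fun a b => by
      have h := congrArg (fun X => zblk X a b) hx
      simp only [zblk_mul, hN, zblk_kz, Matrix.single_apply, ite_smul, one_smul, zero_smul, mul_ite, ite_mul, mul_one,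
        one_mul, mul_zero, zero_mul] at h
      by_cases hb : b = w <;> by_cases ha : a = o <;>
        simp [hb, ha, eq_comm (a := o), eq_comm (a := w)] at h ⊢ <;> exact h
    refine ⟨fun a ha => ?_, fun b hb => ?_, ?_⟩
    · simpa [ha] using key a w
    · have := key o b
      rw [if_neg hb, if_pos rfl] at this
      exact this.symm
    · simpa using key o w
  obtain ⟨hs1, hs2, hs3⟩ := hblk s hs
  obtain ⟨hr1, hr2, hr3⟩ := hblk r hr'
  set S := zblk s.val o o with hS
  set S' := zblk r.val o o with hS'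
  have hsr : ∀ a b, (∑ c, zblk s.val a c * zblk r.val c b) = if a = b then 1 else 0 := fun a b => by
    rw [← zblk_mul, ← zblk_one, ← Units.val_mul, hr, mul_inv_cancel, Units.val_one]
  have hSS : S * S' = 1 := by
    have h := hsr w w
    rwa [if_pos rfl, Finset.sum_eq_single w (fun c _ hc => by rw [hs2 c hc, zero_mul]) (by simp), ← hs3, ← hr3] at h
  have hS'S : S' * S = 1 := mul_eq_one_comm.mp hSS
  -- rows
  have hrow : ∀ l q, l ≠ o → q ≠ o → ∃ c : F, zblk r.val l q = c • S' := by
    intro l q hl hq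
    obtain ⟨u, -, -, hu⟩ := (isRootNil_single (F := F) (Ne.symm hl) one_ne_zero).exists_slotRoot (0 : Fin (t + 1))
    have hval : (s * u * s⁻¹).val = 1 + rowM o fun q => S * zblk r.val l q := by
      rw [Units.val_mul, Units.val_mul, hu, slot_zero_eq_kz, conj_one_add]
      congr 1
      refine zblk_ext fun a b => ?_
      rw [zblk_rowM, zblk_mul]
      simp only [zblk_mul, zblk_kz, Matrix.single_apply, ite_smul, one_smul, zero_smul, mul_ite, mul_one, mul_zero]
      rw [Finset.sum_eq_single l]
      · rw [Finset.sum_eq_single o]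
        · rw [if_pos ⟨rfl, rfl⟩]
          by_cases ha : a = o
          · subst ha; rw [if_pos rfl]
          · rw [if_neg ha, hs1 a ha, zero_mul]
        · intro c _ hc; rw [if_neg (fun h => hc h.1.symm)]
        · simp
      · intro c _ hc
        rw [Finset.sum_eq_zero (fun d _ => by rw [if_neg (fun h => hc h.2.symm)]), zero_mul]
      · simp
    have hmem := mem_eAlg_of_row hM hm (P := fun q => S * zblk r.val l q) (by rw [hr1 l hl, mul_zero])
      (hsM u ⟨0, _, isRootNil_single (Ne.symm hl) one_ne_zero, hu⟩) hval hq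
    obtain ⟨c, hc⟩ := hscal _ hmem
    refine ⟨c, ?_⟩
    have h := congrArg (S' * ·) hc
    simpa [← mul_assoc, hS'S] using h
  -- columns
  have hcol : ∀ p j, p ≠ w → j ≠ w → ∃ c : F, zblk s.val p j = c • S := by
    intro p j hp hj
    obtain ⟨u, -, -, hu⟩ := (isRootNil_single (F := F) hj one_ne_zero).exists_slotRoot (0 : Fin (t + 1))
    have hval : (s * u * s⁻¹).val = 1 + colM w fun p => zblk s.val p j * S' := by
      rw [Units.val_mul, Units.val_mul, hu, slot_zero_eq_kz, conj_one_add]
      congr 1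
      refine zblk_ext fun a b => ?_
      rw [zblk_colM, zblk_mul]
      simp only [zblk_mul, zblk_kz, Matrix.single_apply, ite_smul, one_smul, zero_smul, mul_ite, mul_one, mul_zero]
      rw [Finset.sum_eq_single w]
      · rw [Finset.sum_eq_single j]
        · rw [if_pos ⟨rfl, rfl⟩]
          by_cases hb : b = w
          · subst hb; rw [if_pos rfl, ← hr3]
          · rw [if_neg hb, ← hr, hr2 b hb, mul_zero]
        · intro c _ hc; rw [if_neg (fun h => hc h.1.symm)]
        · simp
      · intro c _ hc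
        rw [Finset.sum_eq_zero (fun d _ => by rw [if_neg (fun h => hc h.2.symm)]), zero_mul]
      · simp
    have hmem := mem_eAlg_of_col hM hm (Q := fun p => zblk s.val p j * S') (by rw [hs2 j hj, zero_mul])
      (hsM u ⟨0, _, isRootNil_single hj one_ne_zero, hu⟩) hval hp
    obtain ⟨c, hc⟩ := hscal _ hmem
    refine ⟨c, ?_⟩
    have h := congrArg (· * S) hc
    simpa [mul_assoc, hS'S] using h
  choose C hC using fun l q : {j // j ≠ o} => hrow l q l.2 q.2
  -- the lower right corner
  have hlow : ∀ p q : {j // j ≠ o}, ∃ c : F, zblk s.val p q = c • S := by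
    let Cm : Matrix {j // j ≠ o} {j // j ≠ o} F := Matrix.of C
    let Nm : (Fin t → Fin m) → (Fin t → Fin m) → Matrix {j // j ≠ o} {j // j ≠ o} F :=
      fun z y => Matrix.of fun p j => (zblk s.val p j * S') z y
    have hmul : ∀ z y, Nm z y * Cm = if z = y then 1 else 0 := by
      intro z y
      ext p q
      have h := hsr p q
      rw [Fintype.sum_eq_add_sum_subtype_ne _ o, hs1 p p.2, zero_mul, zero_add] at h
      simp only [hC, Matrix.mul_smul] at h
      have h' := congrFun (congrFun h z) y
      simp only [Matrix.sum_apply, Matrix.smul_apply, smul_eq_mul] at h'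
      rw [Matrix.mul_apply]
      simp only [Nm, Cm, Matrix.of_apply, mul_comm _ (C _ q)]
      rw [h']
      by_cases hpq : p = q
      · subst hpq; by_cases hzy : z = y <;> simp [hzy, Matrix.one_apply]
      · by_cases hzy : z = y <;> simp [hzy, hpq, Subtype.coe_injective.ne hpq]
    let z₀ : Fin t → Fin m := fun _ => o
    have hinv : Cm * Nm z₀ z₀ = 1 := mul_eq_one_comm.mp (by rw [hmul, if_pos rfl])
    intro p q
    refine ⟨Nm z₀ z₀ p q, ?_⟩
    have h1 : zblk s.val p q * S' = Nm z₀ z₀ p q • 1 := by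
      ext z y
      have h2 : Nm z y = (if z = y then 1 else 0) * Nm z₀ z₀ := by
        rw [← hmul, mul_assoc, hinv, mul_one]
      have h3 := congrFun (congrFun h2 p) q
      by_cases hzy : z = y
      · subst hzy; rw [if_pos rfl, one_mul] at h3; simpa [Nm] using h3
      · rw [if_neg hzy, zero_mul] at h3; simpa [Nm, hzy] using h3
    have h := congrArg (· * S) h1
    simpa [mul_assoc, hS'S] using h
  -- all blocks apart from the corner
  have hall : ∀ p q, ∃ c : F, ¬ (p = o ∧ q = w) → zblk s.val p q = c • S := by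
    intro p q
    by_cases hp : p = o
    · by_cases hq : q = w
      · exact ⟨0, fun h => absurd ⟨hp, hq⟩ h⟩
      · obtain ⟨c, hc⟩ := hcol p q (hp ▸ how) hq
        exact ⟨c, fun _ => hc⟩
    · by_cases hq : q = o
      · exact ⟨0, fun _ => by rw [hq, hs1 p hp, zero_smul]⟩
      · obtain ⟨c, hc⟩ := hlow ⟨p, hp⟩ ⟨q, hq⟩
        exact ⟨c, fun _ => hc⟩
  choose κ hκ using hall
  let K : Matrix (Fin m) (Fin m) F := Matrix.of fun p q => if p = o ∧ q = w then 0 else κ p q
  set X := zblk s.val o w * S' with hX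
  have hS0 : S ≠ 0 := fun h => by
    rw [h, zero_mul] at hSS
    have h1 := congrFun (congrFun hSS (fun _ => o)) (fun _ => o)
    rw [Matrix.zero_apply, Matrix.one_apply_eq] at h1
    exact zero_ne_one h1
  have hKw : ∀ q, K w q = if q = w then 1 else 0 := by
    intro q
    have h := hκ w q (fun h => how h.1.symm)
    show (if w = o ∧ q = w then 0 else κ w q) = _
    rw [if_neg (fun h => how h.1.symm)]
    by_cases hq : q = w
    · subst hq
      rw [if_pos rfl]
      rw [← hs3] at h
      exact (smul_left_injective F hS0 ((one_smul F S).trans h)).symm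
    · rw [if_neg hq]
      rw [hs2 q hq] at h
      exact (smul_eq_zero.mp h.symm).resolve_right hS0
  have hsval : s.val = (1 + kz (Matrix.single o w 1) X) * kz K S := by
    refine zblk_ext fun a b => ?_
    rw [add_mul, one_mul, kz_mul, zblk_add, zblk_kz, zblk_kz, hX, mul_assoc, hS'S, mul_one]
    have e : (Matrix.single o w (1 : F) * K) a b = if a = o then K w b else 0 := by
      simp only [Matrix.mul_apply, Matrix.single_apply, ite_mul, one_mul, zero_mul]
      by_cases ha : a = o
      · subst ha; simp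
      · simp [ha, Ne.symm ha]
    rw [e, hKw]
    show _ = (if a = o ∧ b = w then (0 : F) else κ a b) • S + _
    by_cases h : a = o ∧ b = w
    · obtain ⟨rfl, rfl⟩ := h; simp
    · rw [if_neg h, hκ a b h]
      by_cases ha : a = o
      · rw [if_pos ha, if_neg (fun hb => h ⟨ha, hb⟩), zero_smul, add_zero]
      · rw [if_neg ha, zero_smul, add_zero]
  set A := kz (Matrix.single o w (1 : F)) X with hA
  have hAA : A * A = 0 := by rw [hA, kz_single_mul, if_neg (Ne.symm how)]
  have hu : IsUnit ((1 + A) * kz K S) := hsval ▸ s.isUnit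
  have hA' : (1 - A) * (1 + A) = 1 := by rw [sub_mul, mul_add, one_mul, mul_add, mul_one, hAA]; simp
  obtain ⟨kU, hkU⟩ : IsUnit (K : Matrix (Fin m) (Fin m) F) := by
    rw [Matrix.isUnit_iff_isUnit_det]
    have h := (Matrix.isUnit_iff_isUnit_det _).mp hu
    rw [Matrix.det_mul, det_kz] at h
    rcases Nat.eq_zero_or_pos (m ^ t) with h0 | h0
    · exact absurd (pow_eq_zero_iff'.mp h0).1 (by omega)
    · exact (isUnit_pow_iff h0.ne').mp (isUnit_of_mul_isUnit_left (isUnit_of_mul_isUnit_right h))
  let SU : GL (Fin t → Fin m) F := ⟨S, S', hSS, hS'S⟩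
  by_cases hXs : ∃ c : F, X = c • 1
  · obtain ⟨c, hc⟩ := hXs
    obtain ⟨g, -, hg⟩ : ∃ g : GL (Fin m) F, Matrix.GeneralLinearGroup.det g = 1 ∧ g.val = 1 + Matrix.single o w c := by
      by_cases hc0 : c = 0
      · exact ⟨1, map_one _, by rw [hc0, Matrix.single_zero, add_zero, Units.val_one]⟩
      · exact (isRootNil_single how hc0).exists_unit
    refine hno (g * kU) SU (Units.ext ?_)
    rw [kzU_coe, Units.val_mul, hg, hkU, hsval, show (SU : GL (Fin t → Fin m) F).val = S from rfl,
      ← one_mul S, ← kz_mul, hA, hc, kz_smul_right, ← kz_smul_left, Matrix.smul_single, smul_eq_mul, mul_one,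
      kz_add_left, kz_one, one_mul]
  · push Not at hXs
    obtain ⟨j, -, hj⟩ := Finset.exists_mem_notMem_of_card_lt_card (s := ({o, w} : Finset (Fin m)))
      (t := Finset.univ) (lt_of_le_of_lt Finset.card_le_two (by rw [Finset.card_univ, Fintype.card_fin]; omega))
    simp only [Finset.mem_insert, Finset.mem_singleton, not_or] at hj
    have hroot := (isRootNil_single (F := F) hj.1 one_ne_zero).conj kU⁻¹
    obtain ⟨u, -, -, hu'⟩ := hroot.exists_slotRoot (0 : Fin (t + 1))
    obtain ⟨v, hv1, hv2, hv⟩ := (isRootNil_single (F := F) hj.1 (neg_ne_zero.mpr one_ne_zero)).exists_slotRoot (0 : Fin (t + 1))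
    set E' := kz (Matrix.single j o (1 : F)) (1 : Matrix (Fin t → Fin m) (Fin t → Fin m) F) with hE'
    have hv' : v.val = 1 - E' := by
      rw [hv, slot_zero_eq_kz, show Matrix.single j o (-1 : F) = (-1 : F) • Matrix.single j o (1 : F) by
        rw [Matrix.smul_single, smul_eq_mul, mul_one], kz_smul_left, neg_one_smul, ← sub_eq_add_neg]
    have hrval : r.val = kz (kU⁻¹).val S' * (1 - A) := by
      refine left_inv_eq_right_inv (by rw [hr]; exact Units.inv_mul s) ?_
      rw [hsval, mul_assoc, ← mul_assoc (kz K S), kz_mul, ← hkU, Units.mul_inv, hSS, kz_one, one_mul,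
        add_mul, one_mul, mul_sub, mul_one, hAA]
      simp
    have hconj : (s * u * s⁻¹).val = (1 + A) * (1 + E') * (1 - A) := by
      rw [Units.val_mul, Units.val_mul, ← hr, hrval, hsval, hu', slot_zero_eq_kz, inv_inv]
      have e : kz K S * (1 + kz ((kU⁻¹).val * Matrix.single j o 1 * kU.val) 1) * kz (kU⁻¹).val S' = 1 + E' := by
        rw [mul_add, mul_one, add_mul, kz_mul, kz_mul, kz_mul, ← hkU, hSS, Units.mul_inv, kz_one, mul_one, hSS]
        congr 2
        simp only [← mul_assoc, Units.mul_inv, one_mul]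
        rw [mul_assoc, Units.mul_inv, mul_one]
      rw [← mul_assoc, mul_assoc (1 + A) (kz K S), mul_assoc (1 + A) _ (kz (kU⁻¹).val S'), e]
    have hAE : A * E' = 0 := by rw [hA, hE', kz_single_mul, if_neg (fun h : w = j => hj.2 h.symm)]
    have hEA : E' * A = kz (Matrix.single j w 1) X := by rw [hA, hE', kz_single_mul, if_pos rfl, one_mul]
    have hEE : E' * E' = 0 := by rw [hE', kz_single_mul, if_neg (Ne.symm hj.1)]
    have hEK : E' * kz (Matrix.single j w 1) X = 0 := by rw [hE', kz_single_mul, if_neg (Ne.symm hj.1)]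
    have hmem : InT H j w (-X) := by
      refine ⟨v * (s * u * s⁻¹), mul_mem (hM v hv1 hv2) (hsM u ⟨0, _, hroot, hu'⟩), ?_⟩
      rw [Units.val_mul, hv', hconj]
      have e : (1 + A) * (1 + E') * (1 - A) = 1 + E' - kz (Matrix.single j w 1) X := by
        simp only [mul_add, add_mul, mul_sub, one_mul, mul_one, hAE, hAA, hEA, zero_mul, add_zero]
        abel
      rw [e, sub_mul, one_mul, mul_sub, mul_add, mul_one, hEE, hEK, kz_neg_right]
      abel
    obtain ⟨c, hc⟩ := hscal _ (mem_eAlg_of_inT hM hm hj.2 hmem)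
    exact hXs (-c) (by rw [neg_smul, ← hc, neg_neg])

end Cfsg.Agent.WreathMax
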