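import Cfsg.Agent.WreathMax.Kz

/-!
The algebra of matrices occurring in root subgroups across the first slot (helper1).
-/

set_option autoImplicit false
set_option linter.unusedSectionVars false

namespace Cfsg.Agent.WreathMax

open Matrix Cfsg.Agent.MaxSub Cfsg.Agent.MaxSub.Asch Cfsg.Agent.FG75.SpinTensor
open scoped Kronecker commutatorElement

variable {F : Type*} [Field F] [Fintype F] {m t : ℕ}

/-- `1 + E_ab ⊗ X` lies in `H`. -/
def InT (H : Subgroup (GL (Fin (t + 1) → Fin m) F)) (a b : Fin m) (X : Matrix (Fin t → Fin m) (Fin t → Fin m) F) :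
    Prop :=
  ∃ g ∈ H, (g : Matrix (Fin (t + 1) → Fin m) (Fin (t + 1) → Fin m) F) = 1 + kz (Matrix.single a b 1) X

variable {H : Subgroup (GL (Fin (t + 1) → Fin m) F)}

theorem kz_single_mul (a b c d : Fin m) (X Y : Matrix (Fin t → Fin m) (Fin t → Fin m) F) :
    kz (Matrix.single a b (1 : F)) X * kz (Matrix.single c d 1) Y =
      if b = c then kz (Matrix.single a d 1) (X * Y) else 0 := by
  rw [kz_mul]
  split_ifs with h
  · subst h; rw [Matrix.single_mul_single_same, mul_one]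
  · rw [Matrix.single_mul_single_of_ne (h := h), kz_zero_left]

theorem InT.add {a b : Fin m} (hab : a ≠ b) {X Y : Matrix (Fin t → Fin m) (Fin t → Fin m) F}
    (hX : InT H a b X) (hY : InT H a b Y) : InT H a b (X + Y) := by
  obtain ⟨g, hg, hgX⟩ := hX
  obtain ⟨g', hg', hgY⟩ := hY
  refine ⟨g * g', mul_mem hg hg', ?_⟩
  rw [Units.val_mul, hgX, hgY, add_mul, one_mul, mul_add, mul_one, kz_single_mul, if_neg (Ne.symm hab), kz_add_right]
  abel

theorem InT.comm {a b c : Fin m} (hab : a ≠ b) (hbc : b ≠ c) (hac : a ≠ c)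
    {X Y : Matrix (Fin t → Fin m) (Fin t → Fin m) F} (hX : InT H a b X) (hY : InT H b c Y) :
    InT H a c (X * Y) := by
  obtain ⟨g, hg, hgX⟩ := hX
  obtain ⟨g', hg', hgY⟩ := hY
  refine ⟨g * g' * g⁻¹ * g'⁻¹, mul_mem (mul_mem (mul_mem hg hg') (inv_mem hg)) (inv_mem hg'), ?_⟩
  have hinv : ∀ (k : GL (Fin (t + 1) → Fin m) F) (N : Matrix (Fin (t + 1) → Fin m) (Fin (t + 1) → Fin m) F),
      k.val = 1 + N → N * N = 0 → (k⁻¹).val = 1 - N := fun k N hk hN => by
    refine left_inv_eq_right_inv (Units.inv_mul k) ?_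
    rw [hk, add_mul, mul_sub, one_mul, mul_sub, mul_one, hN]
    simp
  set N₁ := kz (Matrix.single a b (1 : F)) X
  set N₂ := kz (Matrix.single b c (1 : F)) Y
  have h11 : N₁ * N₁ = 0 := by rw [kz_single_mul, if_neg (Ne.symm hab)]
  have h22 : N₂ * N₂ = 0 := by rw [kz_single_mul, if_neg (Ne.symm hbc)]
  have h21 : N₂ * N₁ = 0 := by rw [kz_single_mul, if_neg (Ne.symm hac)]
  have h12 : N₁ * N₂ = kz (Matrix.single a c 1) (X * Y) := by rw [kz_single_mul, if_pos rfl]
  rw [Units.val_mul, Units.val_mul, Units.val_mul, hgX, hgY, hinv g N₁ hgX h11, hinv g' N₂ hgY h22, ← h12]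
  have e1 : (1 + N₁) * (1 + N₂) = 1 + N₁ + N₂ + N₁ * N₂ := by noncomm_ring
  have e2 : (1 - N₁) * (1 - N₂) = 1 - N₁ - N₂ + N₁ * N₂ := by noncomm_ring
  rw [mul_assoc, e1, e2]
  have h11' : ∀ Z, N₁ * (N₁ * Z) = 0 := fun Z => by rw [← mul_assoc, h11, zero_mul]
  have h22' : ∀ Z, N₂ * (N₂ * Z) = 0 := fun Z => by rw [← mul_assoc, h22, zero_mul]
  have h21' : ∀ Z, N₂ * (N₁ * Z) = 0 := fun Z => by rw [← mul_assoc, h21, zero_mul]
  simp only [mul_add, add_mul, mul_sub, sub_mul, one_mul, mul_one, mul_assoc, h11, h22, h21, h11', h22', h21',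
    mul_zero, add_zero, sub_zero]
  abel

theorem inT_scalar (hM : ContainsM H) {a b : Fin m} (hab : a ≠ b) (c : F) :
    InT H a b (c • (1 : Matrix (Fin t → Fin m) (Fin t → Fin m) F)) := by
  by_cases hc : c = 0
  · exact ⟨1, one_mem H, by rw [hc, zero_smul, kz_zero_right, add_zero, Units.val_one]⟩
  obtain ⟨g, h1, h2, h3⟩ := (isRootNil_single hab hc).exists_slotRoot (0 : Fin (t + 1))
  refine ⟨g, hM g h1 h2, ?_⟩
  rw [h3, slot_zero_eq_kz, kz_smul_right, ← kz_smul_left, Matrix.smul_single, smul_eq_mul, mul_one]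

/-- A single position gives every position. -/
theorem InT.all (hM : ContainsM H) (hm : 3 ≤ m) {a b : Fin m} (hab : a ≠ b)
    {X : Matrix (Fin t → Fin m) (Fin t → Fin m) F} (hX : InT H a b X) (a' b' : Fin m) (hab' : a' ≠ b') :
    InT H a' b' X := by
  have hone : ∀ {p q : Fin m}, p ≠ q → InT H p q (1 : Matrix (Fin t → Fin m) (Fin t → Fin m) F) := fun {p q} h => by
    simpa using inT_scalar hM h 1
  have hrow : ∀ {p q : Fin m}, p ≠ q → InT H p q X → ∀ r, r ≠ q → InT H r q X := fun {p q} hpq h r hrq => by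
    by_cases hrp : r = p
    · rw [hrp]; exact h
    · have := InT.comm hrp hpq hrq (hone hrp) h
      rwa [one_mul] at this
  have hcol : ∀ {p q : Fin m}, p ≠ q → InT H p q X → ∀ r, r ≠ p → InT H p r X := fun {p q} hpq h r hrp => by
    by_cases hrq : r = q
    · rw [hrq]; exact h
    · have := InT.comm hpq (Ne.symm hrq) (Ne.symm hrp) h (hone (Ne.symm hrq))
      rwa [mul_one] at this
  by_cases ha' : a' = b
  · obtain ⟨c, -, hc⟩ := Finset.exists_mem_notMem_of_card_lt_card (s := ({a, b} : Finset (Fin m)))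
      (t := Finset.univ) (lt_of_le_of_lt Finset.card_le_two (by rw [Finset.card_univ, Fintype.card_fin]; omega))
    simp only [Finset.mem_insert, Finset.mem_singleton, not_or] at hc
    have h1 := hcol hab hX c hc.1
    have h2 := hrow (Ne.symm hc.1) h1 a' (by rw [ha']; exact Ne.symm hc.2)
    exact hcol (by rw [ha']; exact Ne.symm hc.2) h2 b' (Ne.symm hab')
  · exact hcol ha' (hrow hab hX a' ha') b' (Ne.symm hab')

/-- The algebra of `X` with `1 + E_ab ⊗ X` in `H` for all `a ≠ b`. -/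
def eAlg (hM : ContainsM H) (hm : 3 ≤ m) : Subalgebra F (Matrix (Fin t → Fin m) (Fin t → Fin m) F) where
  carrier := {X | ∀ a b : Fin m, a ≠ b → InT H a b X}
  mul_mem' {X Y} hX hY a b hab := by
    obtain ⟨c, -, hc⟩ := Finset.exists_mem_notMem_of_card_lt_card (s := ({a, b} : Finset (Fin m)))
      (t := Finset.univ) (lt_of_le_of_lt Finset.card_le_two (by rw [Finset.card_univ, Fintype.card_fin]; omega))
    simp only [Finset.mem_insert, Finset.mem_singleton, not_or] at hc
    exact InT.comm (Ne.symm hc.1) hc.2 hab (hX a c (Ne.symm hc.1)) (hY c b hc.2)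
  add_mem' {X Y} hX hY a b hab := InT.add hab (hX a b hab) (hY a b hab)
  algebraMap_mem' c a b hab := by rw [Algebra.algebraMap_eq_smul_one]; exact inT_scalar hM hab c

theorem mem_eAlg {hM : ContainsM H} {hm : 3 ≤ m} {X : Matrix (Fin t → Fin m) (Fin t → Fin m) F} :
    X ∈ eAlg hM hm ↔ ∀ a b : Fin m, a ≠ b → InT H a b X := Iff.rfl

theorem mem_eAlg_of_inT (hM : ContainsM H) (hm : 3 ≤ m) {a b : Fin m} (hab : a ≠ b)
    {X : Matrix (Fin t → Fin m) (Fin t → Fin m) F} (hX : InT H a b X) : X ∈ eAlg hM hm :=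
  fun a' b' hab' => InT.all hM hm hab hX a' b' hab'

theorem eAlg_stable (hM : ContainsM H) (hm : 3 ≤ m) : RootStable (Subalgebra.toSubmodule (eAlg hM hm)) := by
  intro i p q hpq X hX a b hab
  obtain ⟨g, hg, hgX⟩ := hX a b hab
  obtain ⟨u, hu1, hu2, hu⟩ := (isRootNil_single (F := F) hpq one_ne_zero).exists_slotRoot i.succ
  refine ⟨u * g * u⁻¹, mul_mem (mul_mem (hM u hu1 hu2) hg) (inv_mem (hM u hu1 hu2)), ?_⟩
  have hu' : u.val = kz 1 (1 + su i p q) := by rw [hu, slot_succ_eq_kz, kz_add_right, kz_one]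
  have hN : su (F := F) i p q * su i p q = 0 := su_mul_ne i (Ne.symm hpq)
  have hinv : (u⁻¹).val = kz 1 (1 - su i p q) := by
    refine left_inv_eq_right_inv (Units.inv_mul u) ?_
    rw [hu', kz_mul, one_mul, add_mul, one_mul, mul_sub, mul_one, hN]
    simp [kz_one]
  rw [Units.val_mul, Units.val_mul, hgX, mul_add, add_mul, mul_one, Units.mul_inv, hu', hinv, kz_mul, kz_mul,
    one_mul, mul_one]

end Cfsg.Agent.WreathMax
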