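import Cfsg.Agent.WreathMax.Fusion

/-!
The averaging argument for two elements and factors of dimension three (helper1).
-/

set_option autoImplicit false
set_option linter.unusedSectionVars false

namespace Cfsg.Agent.WreathMax

open Matrix Cfsg.Agent.MaxSub Cfsg.Agent.MaxSub.Asch Cfsg.Agent.FG75.SpinTensor
open scoped Kronecker

variable {F : Type*} [Field F] [Fintype F] {m t : ℕ}

theorem trace_slot_root {A : Matrix (Fin m) (Fin m) F} (hA : IsRootNil A) : A.trace = 0 := by
  obtain ⟨v, φ, -, -, h, rfl⟩ := hA.exists_vecMulVec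
  rw [Matrix.trace_vecMulVec, dotProduct_comm, h]

theorem ptr_conj_other {i k : Fin t} (hki : k ≠ i) (A : GL (Fin m) F) (X : Matrix (Fin t → Fin m) (Fin t → Fin m) F) :
    ptr i (conjHom (slotU k A) X) = ptr i X := by
  suffices h : ptr i ∘ₗ (conjHom (slotU k A)).toLinearMap = ptr i from LinearMap.congr_fun h X
  refine linearMap_ext_tens fun B => ?_
  have e : slotU k A = tensGL (Function.update 1 k A) * factorPerm 1 := by rw [factorPerm_one, mul_one]; rfl
  simp only [LinearMap.comp_apply, AlgHom.toLinearMap_apply, e, conjHom_wreath_tens, ptr_tens, trace_conj,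
    Equiv.Perm.one_symm, Equiv.Perm.one_apply]
  rw [Function.update_of_ne (Ne.symm hki)]
  simp

theorem trace_ptr (i : Fin t) (X : Matrix (Fin t → Fin m) (Fin t → Fin m) F) : (ptr i X).trace = X.trace := by
  rw [Matrix.trace, Matrix.trace, ← (splitSlot i m).symm.sum_comp, Fintype.sum_prod_type]
  rfl

/-- Transvections of one slot act without fixed cosets in pairs. -/
theorem ptr_sum_eq_zero (hm : 3 ≤ m) (ht : 1 ≤ t) (two : (2 : F) = 0) {H : Subgroup (GL (Fin t → Fin m) F)}
    [Fintype (Cosets H)] [DecidableEq (Cosets H)] (hcase : NoRootFusion H) {u₁ u₂ : H}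
    (hu₁ : IsSlotRoot (u₁ : GL (Fin t → Fin m) F)) (hu₂ : IsSlotRoot (u₂ : GL (Fin t → Fin m) F))
    (hu₁₂ : IsSlotRoot ((u₁ * u₂ : H) : GL (Fin t → Fin m) F))
    (f : Cosets H → F) (hf₁ : ∀ q, f (u₁ • q) = f q) (hf₂ : ∀ q, f (u₂ • q) = f q) :
    ∑ q ∈ Finset.univ.erase (QuotientGroup.mk (1 : H)), f q = 0 := by
  classical
  have hsq : ∀ u : H, IsSlotRoot (u : GL (Fin t → Fin m) F) → u * u = 1 := fun u hu => by
    obtain ⟨i, A, hA, hu⟩ := hu
    refine Subtype.ext (Units.ext ?_)
    rw [Subgroup.coe_mul, Units.val_mul, hu, OneMemClass.coe_one, Units.val_one, add_mul, one_mul, mul_add,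
      mul_one, ← slot_mul', hA.2, slot_zero', add_zero, add_assoc, ← two_smul F (slot i A), two,
      zero_smul, add_zero]
  have hpair : ∀ q, f q + f q = 0 := fun q => by rw [← two_mul, two, zero_mul]
  have hbase : ∀ u : H, IsSlotRoot (u : GL (Fin t → Fin m) F) → ∀ q : Cosets H,
      q ≠ QuotientGroup.mk 1 → u • q ≠ QuotientGroup.mk 1 := by
    intro u hu q hq h
    refine hq ?_
    have h1 := congrArg (u • ·) h
    simp only [smul_smul, hsq u hu, one_smul] at h1
    rw [h1]
    show (QuotientGroup.mk (u * 1) : Cosets H) = _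
    exact (mk_eq_one_iff H _).mpr (by simpa using hu.mem.1)
  rw [← Finset.sum_filter_add_sum_filter_not _ (fun q => u₁ • q = q)]
  have h1 : ∑ q ∈ (Finset.univ.erase (QuotientGroup.mk (1 : H))).filter (fun q => ¬ u₁ • q = q), f q = 0 := by
    refine Finset.sum_involution (fun q _ => u₁ • q) (fun q _ => by rw [hf₁]; exact hpair q) (fun q hq _ => ?_)
      (fun q hq => ?_) (fun q _ => by rw [smul_smul, hsq _ hu₁, one_smul])
    · exact (Finset.mem_filter.mp hq).2
    · simp only [Finset.mem_filter, Finset.mem_erase, Finset.mem_univ, and_true] at hq ⊢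
      refine ⟨hbase _ hu₁ q hq.1, fun h => hq.2 ?_⟩
      rw [smul_smul, hsq _ hu₁, one_smul] at h
      exact h.symm
  rw [h1, add_zero]
  have hfix : ∀ q : Cosets H, q ≠ QuotientGroup.mk 1 → u₁ • q = q → u₂ • q ≠ q := by
    intro q hq h1 h2
    obtain ⟨g, rfl⟩ := QuotientGroup.mk_surjective q
    have hg : (g : GL (Fin t → Fin m) F) ∉ Geo.tensorWreathStandard m t F := fun h => hq ((mk_eq_one_iff H g).mpr h)
    have hW : ∀ u : H, u • (QuotientGroup.mk g : Cosets H) = QuotientGroup.mk g →
        (g : GL (Fin t → Fin m) F)⁻¹ * (u : GL (Fin t → Fin m) F) * (g : GL (Fin t → Fin m) F) ∈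
          Geo.tensorWreathStandard m t F := fun u hu => by
      have h : (QuotientGroup.mk (u * g) : Cosets H) = QuotientGroup.mk g := hu
      rw [eq_comm, QuotientGroup.eq, Subgroup.mem_subgroupOf] at h
      simpa [mul_assoc] using h
    have h12 : (u₁ * u₂) • (QuotientGroup.mk g : Cosets H) = QuotientGroup.mk g := by rw [mul_smul, h2, h1]
    obtain ⟨-, -, a, k, l, hkl, ha⟩ := fusion_dichotomy hm ht hcase g.2 hg hu₁ (hW _ h1)
    obtain ⟨-, -, a', k', l', hkl', ha'⟩ := fusion_dichotomy hm ht hcase g.2 hg hu₂ (hW _ h2)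
    obtain ⟨-, -, a'', k'', l'', hkl'', ha''⟩ := fusion_dichotomy hm ht hcase g.2 hg hu₁₂ (hW _ h12)
    have hprod : (tensGL a * factorPerm (Equiv.swap k l) : GL (Fin t → Fin m) F) *
        (tensGL a' * factorPerm (Equiv.swap k' l')) = tensGL a'' * factorPerm (Equiv.swap k'' l'') := by
      rw [← ha, ← ha', ← ha'', Subgroup.coe_mul]; group
    rw [wreath_mul] at hprod
    have hs := congrArg Equiv.Perm.sign (perm_unique (show 2 ≤ m by omega) hprod)
    rw [Equiv.Perm.sign_mul, Equiv.Perm.sign_swap hkl, Equiv.Perm.sign_swap hkl', Equiv.Perm.sign_swap hkl''] at hs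
    exact absurd hs (by decide)
  have hc : u₂ * u₁ = u₁ * u₂ := by
    have h := hsq _ hu₁₂
    calc u₂ * u₁ = (u₁ * u₁) * u₂ * u₁ * (u₂ * u₂) := by rw [hsq _ hu₁, hsq _ hu₂, one_mul, mul_one]
      _ = u₁ * ((u₁ * u₂) * (u₁ * u₂)) * u₂ := by group
      _ = u₁ * u₂ := by rw [h, mul_one]
  refine Finset.sum_involution (fun q _ => u₂ • q) (fun q _ => by rw [hf₂]; exact hpair q) (fun q hq _ => ?_)
    (fun q hq => ?_) (fun q _ => by rw [smul_smul, hsq _ hu₂, one_smul])
  · simp only [Finset.mem_filter, Finset.mem_erase, Finset.mem_univ, and_true] at hq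
    exact hfix q hq.1 hq.2
  · simp only [Finset.mem_filter, Finset.mem_erase, Finset.mem_univ, and_true] at hq ⊢
    refine ⟨hbase _ hu₂ q hq.1, ?_⟩
    rw [smul_smul, ← hc, mul_smul, hq.2]

theorem slot_span_le {i : Fin t} (hm : 3 ≤ m) {S : Submodule F (Matrix (Fin t → Fin m) (Fin t → Fin m) F)}
    (hS : RootStable S) (h : ∀ a b : Fin m, a ≠ b → su i a b ∈ S) {A : Matrix (Fin m) (Fin m) F} (hA : A.trace = 0) :
    slot i A ∈ S := by
  let o : Fin m := ⟨0, by omega⟩
  have hd : ∀ a b : Fin m, a ≠ b → su i a a - su i b b ∈ S := fun a b hab => by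
    have := bracket_mem hS hm i hab (h b a (Ne.symm hab))
    rwa [su_mul, su_mul] at this
  have e : A = ∑ a, ∑ b, A a b • (Matrix.single a b (1 : F) - if a = b then Matrix.single o o 1 else 0) := by
    simp only [smul_sub, Finset.sum_sub_distrib, smul_ite, smul_zero, Finset.sum_ite_eq, Finset.mem_univ, if_true,
      ← Finset.sum_smul]
    rw [show ∑ a, A a a = A.trace from rfl, hA, zero_smul, sub_zero]
    conv_lhs => rw [Matrix.matrix_eq_sum_single A]
    simp [Matrix.smul_single]
  rw [e, slot_sum']
  refine sum_mem fun a _ => ?_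
  rw [slot_sum']
  refine sum_mem fun b _ => ?_
  rw [slot_smul']
  refine S.smul_mem _ ?_
  by_cases hab : a = b
  · subst hab
    rw [if_pos rfl, slot_sub']
    by_cases hao : a = o
    · subst hao; rw [sub_self]; exact zero_mem _
    · exact hd a o hao
  · rw [if_neg hab, sub_zero]; exact h a b hab

/-- A sum over the units of one slot. -/
theorem slotTrace_conj {i : Fin t} {a b : Fin m} (hab : a ≠ b) (X : Matrix (Fin t → Fin m) (Fin t → Fin m) F)
    (x y : Fin t → Fin m) :
    ∑ c, ((1 + su i a b) * X * (1 - su i a b) : Matrix (Fin t → Fin m) (Fin t → Fin m) F) (Function.update x i c) (Function.update y i c) =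
      ∑ c, X (Function.update x i c) (Function.update y i c) := by
  have e : (1 + su (F := F) i a b) * X * (1 - su i a b) = X + su i a b * X - X * su i a b - su i a b * (X * su i a b) := by
    noncomm_ring
  simp only [e, Matrix.sub_apply, Matrix.add_apply, su_mul_apply, mul_su_apply, Function.update_self,
    Function.update_idem, Finset.sum_sub_distrib, Finset.sum_add_distrib, Finset.sum_ite_eq', Finset.mem_univ, if_true]
  rw [if_neg hab]
  simp

/-- The exceptional parameters. -/
theorem le_wreath_exceptional (two : (2 : F) = 0) (ht : 3 ≤ t) {H : Subgroup (GL (Fin t → Fin 3) F)}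
    (hM : ContainsM H) (hcase : NoRootFusion H) : H ≤ Geo.tensorWreathStandard 3 t F := by
  classical
  letI := Fintype.ofFinite (Cosets H)
  have three : (3 : F) = 1 := by linear_combination two
  set z := avg H - Phi with hz
  have hzsub : ∀ X, z X = avg H X - Phi X := fun X => LinearMap.sub_apply _ _ _
  have hzA : ∀ (i : Fin t) (a b : Fin 3), a ≠ b → ∀ X, z ((1 + su i a b) * X * (1 - su i a b)) =
      (1 + su i a b) * z X * (1 - su i a b) := by
    intro i a b hab X
    obtain ⟨u, h1, h2, h3⟩ := (isRootNil_single (F := F) hab one_ne_zero).exists_slotRoot (t := t) i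
    have hinv : (u⁻¹).val = 1 - su i a b := by
      refine left_inv_eq_right_inv (Units.inv_mul u) ?_
      rw [h3, add_mul, mul_sub, one_mul, mul_sub, mul_one, su_mul_ne i (Ne.symm hab)]
      simp
    have h : z (conjHom u X) = conjHom u (z X) := by
      simp only [hzsub, map_sub, avg_equivariant H (hM u h1 h2), Phi_equivariant h1]
    rwa [conjHom_apply, conjHom_apply, h3, hinv] at h
  -- units in which some slot is scalar are killed
  have hkill : ∀ (i : Fin t) (A : Fin t → Matrix (Fin 3) (Fin 3) F), A i = 1 → z (tens A) = 0 := by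
    intro i A hA
    set Y := z (tens A) with hY
    have hfix : ∀ a b : Fin 3, a ≠ b → (1 + su i a b) * tens A * (1 - su i a b) = tens A := by
      intro a b hab
      have h1 : su (F := F) i a b * tens A = tens A * su i a b := by
        dsimp only [su]; rw [slot_mul_tens, tens_mul_slot, hA, mul_one, one_mul]
      rw [add_mul, one_mul, h1, mul_sub, mul_one, add_mul, mul_assoc (tens A), su_mul_ne i (Ne.symm hab), mul_zero]
      simp
    have hcomm : ∀ a b : Fin 3, a ≠ b → su i a b * Y = Y * su i a b := by
      intro a b hab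
      have h := hzA i a b hab (tens A)
      rw [hfix a b hab, ← hY] at h
      have h2 := congrArg (fun T => T * (1 + su i a b)) h
      have e3 : (1 - su (F := F) i a b) * (1 + su i a b) = 1 := by
        rw [sub_mul, mul_add, one_mul, mul_add, mul_one, su_mul_ne i (Ne.symm hab)]; simp
      simp only [mul_assoc, e3, mul_one] at h2
      rw [add_mul, one_mul, mul_add, mul_one] at h2
      exact (add_left_cancel h2).symm
    -- the traces over the slot vanish
    have htr : ∀ x y, ∑ c, Y (Function.update x i c) (Function.update y i c) = 0 := by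
      intro x y
      rw [hY, hzsub, avg_sub_Phi]
      simp only [Matrix.sum_apply]
      rw [Finset.sum_comm]
      have hroot : ∀ a b : Fin 3, a ≠ b → ∃ u : H, IsSlotRoot (u : GL (Fin t → Fin 3) F) ∧
          (u : GL (Fin t → Fin 3) F).val = 1 + su i a b ∧
          ∀ q, (∑ c, cosetTwist H (u • q) (tens A) (Function.update x i c) (Function.update y i c)) =
            ∑ c, cosetTwist H q (tens A) (Function.update x i c) (Function.update y i c) := by
        intro a b hab
        obtain ⟨u, h1, h2, h3⟩ := (isRootNil_single (F := F) hab one_ne_zero).exists_slotRoot (t := t) i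
        have hinv : (u⁻¹).val = 1 - su i a b := by
          refine left_inv_eq_right_inv (Units.inv_mul u) ?_
          rw [h3, add_mul, mul_sub, one_mul, mul_sub, mul_one, su_mul_ne i (Ne.symm hab)]
          simp
        refine ⟨⟨u, hM u h1 h2⟩, ⟨i, _, isRootNil_single hab one_ne_zero, h3⟩, h3, fun q => ?_⟩
        have h := cosetTwist_smul H ⟨u, hM u h1 h2⟩ q (tens A)
        rw [conjHom_apply, conjHom_apply] at h
        simp only [h3, hinv, hfix a b hab] at h
        simp only [h]
        exact slotTrace_conj hab _ x y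
      obtain ⟨u₁, hu₁, hv₁, hf₁⟩ := hroot 0 1 (by decide)
      obtain ⟨u₂, hu₂, hv₂, hf₂⟩ := hroot 0 2 (by decide)
      refine ptr_sum_eq_zero (le_refl 3) (by omega) two hcase hu₁ hu₂ ⟨i, Matrix.single (0 : Fin 3) (1 : Fin 3) (1 : F) + Matrix.single (0 : Fin 3) (2 : Fin 3) (1 : F), ?_, ?_⟩
        _ hf₁ hf₂
      · have e : Matrix.single (0 : Fin 3) (1 : Fin 3) (1 : F) + Matrix.single (0 : Fin 3) (2 : Fin 3) (1 : F) =
            vecMulVec (Pi.single (0 : Fin 3) (1 : F)) (Pi.single (1 : Fin 3) (1 : F) + Pi.single (2 : Fin 3) (1 : F)) := by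
          ext r s; fin_cases r <;> fin_cases s <;> simp [vecMulVec_apply]
        rw [e]
        refine ⟨le_antisymm (rank_vecMulVec_le _ _) ?_, by rw [vecMulVec_mul_vecMulVec]; simp⟩
        rw [Nat.one_le_iff_ne_zero]
        intro h0
        rw [ClMax99.TensorRank.rank_eq, Submodule.finrank_eq_zero, LinearMap.range_eq_bot] at h0
        have h1 := congrFun (congrFun (Matrix.toLin'.injective (h0.trans (map_zero _).symm) :
          vecMulVec (Pi.single (0 : Fin 3) (1 : F)) (Pi.single (1 : Fin 3) (1 : F) + Pi.single (2 : Fin 3) (1 : F)) = 0) 0) 1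
        simp [vecMulVec_apply] at h1
      · rw [Subgroup.coe_mul, Units.val_mul, hv₁, hv₂, add_mul, one_mul, mul_add, mul_one,
          su_mul_ne i (by decide), add_zero, slot_add', add_assoc, add_comm (su i 0 2)]
    have hd : ∀ x y, x i ≠ y i → Y x y = 0 := fun x y hxy => by
      obtain ⟨c, hc⟩ : ∃ c : Fin 3, c ≠ x i := exists_ne _
      have h1 : su i (x i) (x i) * Y = Y * su i (x i) (x i) := by
        rw [show su (F := F) i (x i) (x i) = su i (x i) c * su i c (x i) from (su_mul i _ _ _).symm, mul_assoc,
          hcomm c (x i) hc, ← mul_assoc, hcomm (x i) c (Ne.symm hc), mul_assoc]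
      have h := congrFun (congrFun h1 x) y
      rw [su_mul_apply, mul_su_apply, if_pos rfl, if_neg (Ne.symm hxy), Function.update_eq_self] at h
      exact h
    ext x y
    rw [Matrix.zero_apply]
    by_cases hxy : x i = y i
    · have hconst : ∀ c, Y (Function.update x i c) (Function.update y i c) = Y x y := fun c => by
        by_cases hc : c = x i
        · subst hc; rw [Function.update_eq_self, hxy, Function.update_eq_self]
        · have h := congrFun (congrFun (hcomm (x i) c (Ne.symm hc)) x) (Function.update y i c)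
          rw [su_mul_apply, mul_su_apply, if_pos rfl, Function.update_self, if_pos rfl, Function.update_idem, hxy,
            Function.update_eq_self] at h
          exact h
      have h := htr x y
      simp only [hconst, Finset.sum_const, Finset.card_univ, Fintype.card_fin, nsmul_eq_mul, Nat.cast_ofNat] at h
      rwa [three, one_mul] at h
    · exact hd x y hxy
  -- the partial traces of the defect vanish
  have hptr : ∀ (j : Fin t) X, ptr j (z X) = 0 := by
    intro j X
    obtain ⟨k, hkj⟩ : ∃ k : Fin t, k ≠ j := by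
      haveI : Nontrivial (Fin t) := Fin.nontrivial_iff_two_le.mpr (by omega)
      exact exists_ne j
    suffices h : ptr j ∘ₗ z = 0 from LinearMap.congr_fun h X
    refine linearMap_ext_tens fun A => ?_
    rw [LinearMap.comp_apply, LinearMap.zero_apply]
    let f : Matrix (Fin 3) (Fin 3) F → Matrix (Fin 3) (Fin 3) F := fun B => ptr j (z (tens (Function.update A k B)))
    have fadd : ∀ B C, f (B + C) = f B + f C := fun B C => by simp only [f, tens_update_add, map_add]
    have fsmul : ∀ (c : F) B, f (c • B) = c • f B := fun c B => by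
      have e : tens (Function.update A k (c • B)) = c • tens (Function.update A k B) := by
        ext u v
        simp only [tens_apply, Matrix.smul_apply, smul_eq_mul, Fintype.prod_eq_mul_prod_compl k, Function.update_self]
        rw [mul_assoc]
        congr 2
        exact Finset.prod_congr rfl fun l hl => by
          rw [Function.update_of_ne (by simpa using hl), Function.update_of_ne (by simpa using hl)]
      simp only [f, e, map_smul]
    let fl : Matrix (Fin 3) (Fin 3) F →ₗ[F] Matrix (Fin 3) (Fin 3) F :=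
      { toFun := f, map_add' := fadd, map_smul' := fsmul }
    have fone : fl 1 = 0 := by
      show ptr j (z (tens (Function.update A k 1))) = 0
      rw [hkill k _ (Function.update_self _ _ _), map_zero]
    have finv : ∀ a b : Fin 3, a ≠ b → ∀ B, fl ((1 + Matrix.single a b 1) * B * (1 - Matrix.single a b 1)) = fl B := by
      intro a b hab B
      obtain ⟨u, -, hu⟩ := (isRootNil_single (F := F) hab one_ne_zero).exists_unit
      have hs : (slotU k u).val = 1 + su k a b := by rw [slotU_coe, hu, slot_one_add]
      have hinv : ((slotU k u)⁻¹).val = 1 - su k a b := by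
        refine left_inv_eq_right_inv (Units.inv_mul _) ?_
        rw [hs, add_mul, mul_sub, one_mul, mul_sub, mul_one, su_mul_ne k (Ne.symm hab)]
        simp
      show ptr j (z (tens (Function.update A k _))) = ptr j (z (tens (Function.update A k B)))
      have e : tens (Function.update A k ((1 + Matrix.single a b 1) * B * (1 - Matrix.single a b 1))) =
          (1 + su k a b) * tens (Function.update A k B) * (1 - su k a b) := by
        dsimp only [su]
        rw [← slot_one_add, ← slot_one' (F := F) (d := 3) k, ← slot_sub', slot_mul_tens, tens_mul_slot,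
          Function.update_idem, Function.update_idem, Function.update_self, Function.update_self]
      rw [e, hzA k a b hab, ← hs, ← hinv, ← conjHom_apply, ptr_conj_other hkj]
    have hoff : ∀ a b : Fin 3, a ≠ b → fl (Matrix.single a b 1) = 0 := by
      intro a b hab
      obtain ⟨c, hca, hcb⟩ : ∃ c : Fin 3, c ≠ a ∧ c ≠ b := by revert a b; decide
      have h := finv a c (Ne.symm hca) (Matrix.single c b 1)
      have e : (1 + Matrix.single a c (1 : F)) * Matrix.single c b 1 * (1 - Matrix.single a c 1) =
          Matrix.single c b 1 + Matrix.single a b 1 := by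
        rw [add_mul, one_mul, Matrix.single_mul_single_same, mul_one, mul_sub, mul_one, add_mul,
          Matrix.single_mul_single_of_ne (h := Ne.symm hab), Matrix.single_mul_single_of_ne (h := Ne.symm hab)]
        simp
      rw [e, map_add] at h
      simpa using h
    have hdiag : ∀ a b : Fin 3, a ≠ b → fl (Matrix.single a a 1) = fl (Matrix.single b b 1) := by
      intro a b hab
      have h := finv a b hab (Matrix.single b a 1)
      have e : (1 + Matrix.single a b (1 : F)) * Matrix.single b a 1 * (1 - Matrix.single a b 1) =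
          Matrix.single b a 1 + Matrix.single a a 1 - Matrix.single b b 1 - Matrix.single a b 1 := by
        rw [add_mul, one_mul, Matrix.single_mul_single_same, mul_one, mul_sub, mul_one, add_mul,
          Matrix.single_mul_single_same, Matrix.single_mul_single_same, mul_one]
        abel
      rw [e, map_sub, map_sub, map_add, hoff a b hab, hoff b a (Ne.symm hab), zero_add, sub_zero] at h
      exact sub_eq_zero.mp h
    have hz0 : fl (Matrix.single 0 0 1) = 0 := by
      have h := fone
      rw [← Matrix.sum_single_one, map_sum, Fin.sum_univ_three, hdiag 1 0 (by decide), hdiag 2 0 (by decide),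
        ← two_smul F (fl (Matrix.single 0 0 1)), two, zero_smul, zero_add] at h
      exact h
    have hall : fl (A k) = 0 := by
      rw [Matrix.matrix_eq_sum_single (A k), map_sum]
      refine Finset.sum_eq_zero fun a _ => ?_
      rw [map_sum]
      refine Finset.sum_eq_zero fun b _ => ?_
      rw [show Matrix.single a b (A k a b) = A k a b • Matrix.single a b (1 : F) by simp [Matrix.smul_single], map_smul]
      by_cases hab : a = b
      · subst hab
        by_cases ha : a = 0
        · subst ha; rw [hz0, smul_zero]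
        · rw [hdiag a 0 ha, hz0, smul_zero]
      · rw [hoff a b hab, smul_zero]
    have hA : Function.update A k (A k) = A := Function.update_eq_self k A
    simpa [fl, f, hA] using hall
  set c := avg H with hcdef
  have hcz : ∀ X, c X = Phi X + z X := fun X => by rw [hzsub, add_sub_cancel]
  -- partial traces of a slot
  have hptr_slot : ∀ (j k : Fin t) (B : Matrix (Fin 3) (Fin 3) F), B.trace = 0 →
      ptr j (slot k B) = if j = k then B else 0 := by
    intro j k B hB
    rw [slot, ptr_tens]
    by_cases hjk : j = k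
    · subst hjk
      rw [if_pos rfl, Function.update_self, Finset.prod_eq_one (fun l _ => ?_), one_smul]
      rw [Function.update_of_ne l.2, Pi.one_apply, Matrix.trace_one, Fintype.card_fin, Nat.cast_ofNat, three]
    · rw [if_neg hjk, Finset.prod_eq_zero (i := ⟨k, Ne.symm hjk⟩) (Finset.mem_univ _), zero_smul]
      simp [hB]
  have hPhi_slot : ∀ (k : Fin t) (B : Matrix (Fin 3) (Fin 3) F), B.trace = 0 → Phi (slot k B) = slot k B := by
    intro k B hB
    rw [Phi_apply, Finset.sum_eq_single k (fun j _ hj => by rw [hptr_slot j k B hB, if_neg hj, slot_zero']) (by simp),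
      hptr_slot k k B hB, if_pos rfl]
  have hcroot : ∀ (i : Fin t) (a b : Fin 3), a ≠ b → c (su i a b) = su i a b := by
    intro i a b hab
    obtain ⟨k, hki⟩ : ∃ k : Fin t, k ≠ i := by
      haveI : Nontrivial (Fin t) := Fin.nontrivial_iff_two_le.mpr (by omega)
      exact exists_ne i
    rw [hcz, hPhi_slot i _ (trace_slot_root (isRootNil_single hab one_ne_zero)),
      show z (su i a b) = 0 from hkill k (Function.update 1 i (Matrix.single a b 1)) (Function.update_of_ne hki _ _),
      add_zero]
  let K := LinearMap.ker c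
  let Fix := LinearMap.ker (c - LinearMap.id)
  let S : Submodule F (Matrix (Fin t → Fin 3) (Fin t → Fin 3) F) :=
    { carrier := {X | X ∈ Fix ∧ ∀ Q ∈ K, X * Q - Q * X ∈ K}
      add_mem' := fun {X Y} hX hY => ⟨add_mem hX.1 hY.1, fun Q hQ => by
        rw [add_mul, mul_add, add_sub_add_comm]; exact add_mem (hX.2 Q hQ) (hY.2 Q hQ)⟩
      zero_mem' := ⟨zero_mem _, fun Q _ => by simp⟩
      smul_mem' := fun r {X} hX => ⟨Submodule.smul_mem _ r hX.1, fun Q hQ => by
        rw [Matrix.smul_mul, Matrix.mul_smul, ← smul_sub]; exact Submodule.smul_mem _ r (hX.2 Q hQ)⟩ }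
  have hSconj : ∀ g ∈ H, ∀ X ∈ S, conjHom g X ∈ S := by
    rintro g hg X ⟨hX1, hX2⟩
    refine ⟨?_, fun Q hQ => ?_⟩
    · simp only [Fix, LinearMap.mem_ker, LinearMap.sub_apply, LinearMap.id_apply, sub_eq_zero] at hX1 ⊢
      rw [hcdef, avg_equivariant H hg, ← hcdef, hX1]
    · have hQ' : conjHom g⁻¹ Q ∈ K := by
        rw [LinearMap.mem_ker] at hQ ⊢
        rw [hcdef, avg_equivariant H (inv_mem hg), ← hcdef, hQ, map_zero]
      have h := hX2 _ hQ'
      rw [LinearMap.mem_ker] at h ⊢
      rw [show Q = conjHom g (conjHom g⁻¹ Q) from (conjHom_conjHom_inv g Q).symm, ← map_mul, ← map_mul, ← map_sub,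
        hcdef, avg_equivariant H hg, ← hcdef, h, map_zero]
  have hstable : ∀ (V : Submodule F (Matrix (Fin t → Fin 3) (Fin t → Fin 3) F)),
      (∀ u : GL (Fin t → Fin 3) F, IsSlotRoot u → ∀ X ∈ V, conjHom u X ∈ V) → RootStable V := by
    intro V hV i a b hab X hX
    obtain ⟨u, h1, h2, h3⟩ := (isRootNil_single (F := F) hab one_ne_zero).exists_slotRoot (t := t) i
    have hinv : (u⁻¹).val = 1 - su i a b := by
      refine left_inv_eq_right_inv (Units.inv_mul u) ?_
      rw [h3, add_mul, mul_sub, one_mul, mul_sub, mul_one, su_mul_ne i (Ne.symm hab)]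
      simp
    have h := hV u ⟨i, _, isRootNil_single hab one_ne_zero, h3⟩ X hX
    rwa [conjHom_apply, h3, hinv] at h
  have hroot_mem : ∀ u : GL (Fin t → Fin 3) F, IsSlotRoot u → u ∈ H := fun u hu => hM u hu.mem.1 hu.mem.2
  have hKs : RootStable K := hstable K fun u hu X hX => by
    rw [LinearMap.mem_ker] at hX ⊢
    rw [hcdef, avg_equivariant H (hroot_mem u hu), ← hcdef, hX, map_zero]
  have hSs : RootStable S := hstable S fun u hu X hX => hSconj u (hroot_mem u hu) X hX
  have hsuS : ∀ (i : Fin t) (a b : Fin 3), a ≠ b → su i a b ∈ S := fun i a b hab =>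
    ⟨by simp only [Fix, LinearMap.mem_ker, LinearMap.sub_apply, LinearMap.id_apply, hcroot i a b hab, sub_self],
      fun Q hQ => bracket_mem hKs (le_refl 3) i hab hQ⟩
  intro g hg
  refine mem_wreath_of_span (le_refl 3) (by omega) g fun i a b hab => ?_
  set y := conjHom g (su (F := F) i a b) with hy
  refine ⟨fun j => ptr j y, ?_⟩
  show y = _
  rw [← Phi_apply]
  by_contra hne
  have hyS : y ∈ S := hSconj g hg _ (hsuS i a b hab)
  have hytr : y.trace = 0 := by
    rw [hy, conjHom_apply, Matrix.trace_mul_comm, ← mul_assoc, Units.inv_mul, one_mul, ← trace_ptr i, hptr_slot i i _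
      (trace_slot_root (isRootNil_single hab one_ne_zero)), if_pos rfl,
      trace_slot_root (isRootNil_single hab one_ne_zero)]
  have htrj : ∀ j, (ptr j y).trace = 0 := fun j => (trace_ptr j y).trans hytr
  set T := y - Phi y with hT
  have hT0 : T ≠ 0 := sub_ne_zero.mpr hne
  have hTphi : Phi T = 0 := by
    rw [hT, map_sub, sub_eq_zero]
    conv_rhs => rw [Phi_apply y, map_sum]
    rw [Phi_apply]
    exact Finset.sum_congr rfl fun j _ => (hPhi_slot j _ (htrj j)).symm
  have hTS : T ∈ S := by
    refine sub_mem hyS ?_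
    rw [Phi_apply]
    exact sum_mem fun j _ => slot_span_le (le_refl 3) hSs (fun a b h => hsuS j a b h) (htrj j)
  let S' := S ⊓ LinearMap.ker (Phi (F := F) (m := 3) (t := t))
  have hS's : RootStable S' := hstable S' fun u hu X hX => ⟨hSconj u (hroot_mem u hu) X hX.1, by
    have h := hX.2
    rw [SetLike.mem_coe, LinearMap.mem_ker] at h ⊢
    rw [Phi_equivariant hu.mem.1, h, map_zero]⟩
  have hzS' : ∀ X ∈ S', z X = X := by
    rintro X ⟨⟨hX, -⟩, hX'⟩
    simp only [Fix, SetLike.mem_coe, LinearMap.mem_ker, LinearMap.sub_apply, LinearMap.id_apply, sub_eq_zero] at hX hX'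
    rw [hzsub, hX, hX', sub_zero]
  have hTS' : T ∈ S' := ⟨hTS, hTphi⟩
  have hTns : ∀ r : F, T ≠ r • 1 := by
    intro r hr
    have h := hzS' T hTS'
    rw [hr, map_smul, ← tens_one, hkill ⟨0, by omega⟩ 1 rfl, smul_zero] at h
    exact hT0 (by rw [hr, ← tens_one, ← h])
  obtain ⟨Ts, p, q, hTs, hpq, hU⟩ := exists_units (le_refl 3) hS's hTS' hTns
  have huniv : Ts = Finset.univ := by
    by_contra hne'
    obtain ⟨k, hk⟩ : ∃ k, k ∉ Ts := by
      by_contra hc; push Not at hc; exact hne' (Finset.eq_univ_iff_forall.mpr hc)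
    have h := hzS' _ hU
    rw [unitsOn, hkill k _ (if_neg hk)] at h
    let x : Fin t → Fin 3 := fun j => if j ∈ Ts then p j else 0
    let x' : Fin t → Fin 3 := fun j => if j ∈ Ts then q j else 0
    have h1 := congrFun (congrFun h x) x'
    rw [Matrix.zero_apply, ← unitsOn, unitsOn_apply, if_pos] at h1
    · exact zero_ne_one h1
    · intro j; by_cases hj : j ∈ Ts <;> simp [x, x', hj]
  subst huniv
  let i₀ : Fin t := ⟨0, by omega⟩
  let i₁ : Fin t := ⟨1, by omega⟩
  let i₂ : Fin t := ⟨2, by omega⟩
  have h01 : i₀ ≠ i₁ := by simp [i₀, i₁, Fin.ext_iff]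
  have hX := units_all (le_refl 3) hS's Finset.univ hpq hU (fun _ => 0) (fun _ => 2) fun _ _ => by decide
  set Q := su (F := F) i₀ (2 : Fin 3) 1 * su i₁ 2 1 with hQ
  have hQt : Q = tens (Function.update (Function.update 1 i₁ (Matrix.single 2 1 1)) i₀ (Matrix.single 2 1 1)) := by
    rw [hQ]; dsimp only [su]
    rw [show slot (F := F) (d := 3) i₁ (Matrix.single 2 1 1) = tens (Function.update 1 i₁ (Matrix.single 2 1 1)) from rfl,
      slot_mul_tens, Function.update_of_ne h01, Pi.one_apply, mul_one]
  have hQK : Q ∈ K := by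
    rw [LinearMap.mem_ker, hcz, hQt, hkill i₂ _ (by
      rw [Function.update_of_ne (by simp [i₀, i₂, Fin.ext_iff]), Function.update_of_ne (by simp [i₁, i₂, Fin.ext_iff])]
      rfl), add_zero, Phi_apply]
    refine Finset.sum_eq_zero fun j _ => ?_
    rw [ptr_tens]
    by_cases hj : j = i₀
    · subst hj
      rw [Finset.prod_eq_zero (i := ⟨i₁, Ne.symm h01⟩) (Finset.mem_univ _), zero_smul, slot_zero']
      rw [Function.update_of_ne (Ne.symm h01), Function.update_self]
      exact trace_slot_root (isRootNil_single (by decide) one_ne_zero)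
    · rw [Finset.prod_eq_zero (i := ⟨i₀, Ne.symm hj⟩) (Finset.mem_univ _), zero_smul, slot_zero']
      rw [Function.update_self]
      exact trace_slot_root (isRootNil_single (by decide) one_ne_zero)
  have hbr := hX.1.2 Q hQK
  set x : Fin t → Fin 3 := fun _ => 0
  set d : Fin t → Fin 3 := fun _ => 2
  set d' : Fin t → Fin 3 := Function.update (Function.update d i₁ 1) i₀ 1
  have e1 : Q * unitsOn Finset.univ x d = 0 := by
    rw [hQt, unitsOn, tens_mul]
    refine tens_eq_zero (l := i₀) ?_
    simp [Pi.mul_apply, x, d]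
  have e2 : unitsOn (F := F) Finset.univ x d * Q = unitsOn Finset.univ x d' := by
    rw [hQt, unitsOn, tens_mul, unitsOn]
    congr 1
    funext j
    by_cases hj : j = i₀
    · subst hj; simp [d, d']
    · by_cases hj' : j = i₁
      · subst hj'; simp [d, d', hj]
      · simp [d, d', hj, hj']
  rw [e1, e2, sub_zero, LinearMap.mem_ker] at hbr
  have hX' := units_all (le_refl 3) hS's Finset.univ hpq hU x d' fun j _ => by
    by_cases hj : j = i₀
    · subst hj; simp [x, d']
    · by_cases hj' : j = i₁
      · subst hj'; simp [x, d', hj]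
      · simp [x, d, d', hj, hj']
  have h := hX'.1.1
  simp only [Fix, SetLike.mem_coe, LinearMap.mem_ker, LinearMap.sub_apply, LinearMap.id_apply, sub_eq_zero, hbr] at h
  have h1 := congrFun (congrFun h x) d'
  rw [Matrix.zero_apply, unitsOn_apply, if_pos (fun j => by simp)] at h1
  exact zero_ne_one h1

end Cfsg.Agent.WreathMax
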