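import Cfsg.Agent.WreathMax.Stab

/-!
The sum of the slot projections of a matrix (helper1).
-/

set_option autoImplicit false
set_option linter.unusedSectionVars false

namespace Cfsg.Agent.WreathMax

open Matrix Cfsg.Agent.MaxSub.Asch Cfsg.Agent.FG75.SpinTensor
open scoped Kronecker

variable {F : Type*} [Field F] {m t : ℕ}

/-- The partial trace onto the slot `i`. -/
def ptr (i : Fin t) : Matrix (Fin t → Fin m) (Fin t → Fin m) F →ₗ[F] Matrix (Fin m) (Fin m) F where
  toFun X := Matrix.of fun a b => ∑ z : Rest i m, X ((splitSlot i m).symm (a, z)) ((splitSlot i m).symm (b, z))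
  map_add' X Y := by ext a b; simp [Finset.sum_add_distrib]
  map_smul' c X := by ext a b; simp [Finset.mul_sum]

/-- The sum of the slot projections. -/
def Phi : Matrix (Fin t → Fin m) (Fin t → Fin m) F →ₗ[F] Matrix (Fin t → Fin m) (Fin t → Fin m) F :=
  ∑ i, (slotHom i).toLinearMap ∘ₗ ptr i

theorem Phi_apply (X : Matrix (Fin t → Fin m) (Fin t → Fin m) F) : Phi X = ∑ i, slot i (ptr i X) := by
  rw [Phi, LinearMap.sum_apply]; rfl

theorem ptr_tens (i : Fin t) (A : Fin t → Matrix (Fin m) (Fin m) F) :
    ptr i (tens A) = (∏ j : {j // j ≠ i}, (A j).trace) • A i := by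
  ext a b
  have h := fun z => congrFun (congrFun (reindex_tens i A) (a, z)) (b, z)
  simp only [Matrix.reindex_apply, Matrix.submatrix_apply, Matrix.kroneckerMap_apply] at h
  show ∑ z, _ = _
  simp only [h, ← Finset.mul_sum, Matrix.smul_apply, smul_eq_mul, restTens, Matrix.of_apply, Matrix.trace,
    Matrix.diag_apply, Fintype.prod_sum]
  exact mul_comm _ _

theorem trace_conj (g : GL (Fin m) F) (X : Matrix (Fin m) (Fin m) F) :
    ((g : Matrix (Fin m) (Fin m) F) * X * ((g⁻¹ : GL (Fin m) F) : Matrix (Fin m) (Fin m) F)).trace = X.trace := by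
  rw [Matrix.trace_mul_comm, ← mul_assoc, Units.inv_mul, one_mul]

theorem conjHom_wreath_tens (gs : Fin t → GL (Fin m) F) (σ : Equiv.Perm (Fin t))
    (A : Fin t → Matrix (Fin m) (Fin m) F) :
    conjHom (tensGL gs * factorPerm σ) (tens A) = tens fun j =>
      (gs j : Matrix (Fin m) (Fin m) F) * A (σ.symm j) * ((gs j)⁻¹ : GL (Fin m) F).val := by
  rw [conjHom_apply, _root_.mul_inv_rev, Units.val_mul, Units.val_mul, mul_assoc (tensGL gs).val,
    factorPerm_mul_tens, ← mul_assoc, ← mul_assoc, mul_assoc _ (factorPerm σ).val, Units.mul_inv, mul_one]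
  show tens (fun l => (gs l : Matrix (Fin m) (Fin m) F)) * tens _ *
    tens (fun l => (((gs l)⁻¹ : GL (Fin m) F) : Matrix (Fin m) (Fin m) F)) = _
  rw [tens_mul, tens_mul]
  rfl

theorem single_eq_tens (x y : Fin t → Fin m) :
    Matrix.single x y (1 : F) = tens fun j => Matrix.single (x j) (y j) (1 : F) := by
  ext u v
  simp only [tens_apply, Matrix.single_apply, Finset.prod_boole, Finset.mem_univ, forall_const]
  by_cases hc : x = u ∧ y = v
  · rw [if_pos hc, if_pos (fun j => ⟨congrFun hc.1 j, congrFun hc.2 j⟩)]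
  · rw [if_neg hc, if_neg (fun hj => hc ⟨funext fun j => (hj j).1, funext fun j => (hj j).2⟩)]

/-- Extensionality on pure tensors. -/
theorem linearMap_ext_tens {N : Type*} [AddCommGroup N] [Module F N]
    {f g : Matrix (Fin t → Fin m) (Fin t → Fin m) F →ₗ[F] N} (h : ∀ A, f (tens A) = g (tens A)) : f = g := by
  refine Matrix.ext_linearMap F fun x y => LinearMap.ext_ring ?_
  show f (Matrix.single x y 1) = g (Matrix.single x y 1)
  rw [single_eq_tens, h]

theorem slot_conj_wreath (gs : Fin t → GL (Fin m) F) (σ : Equiv.Perm (Fin t)) (i : Fin t)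
    (A : Matrix (Fin m) (Fin m) F) :
    conjHom (tensGL gs * factorPerm σ) (slot i A) =
      slot (σ i) ((gs (σ i) : Matrix (Fin m) (Fin m) F) * A * ((gs (σ i))⁻¹ : GL (Fin m) F).val) := by
  rw [slot, conjHom_wreath_tens, slot]
  congr 1
  funext j
  rcases eq_or_ne j (σ i) with rfl | hj
  · simp
  · rw [Function.update_of_ne hj, Function.update_of_ne (fun h => hj (by rw [← h]; simp))]
    simp

/-- The slot projections commute with the stabiliser. -/
theorem Phi_equivariant [Finite F] {w : GL (Fin t → Fin m) F} (hw : w ∈ Geo.tensorWreathStandard m t F)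
    (X : Matrix (Fin t → Fin m) (Fin t → Fin m) F) : Phi (conjHom w X) = conjHom w (Phi X) := by
  obtain ⟨gs, σ, rfl⟩ := exists_wreath_elem hw
  suffices h : Phi ∘ₗ (conjHom (tensGL gs * factorPerm σ)).toLinearMap =
      (conjHom (tensGL gs * factorPerm σ)).toLinearMap ∘ₗ Phi from LinearMap.congr_fun h X
  refine linearMap_ext_tens fun A => ?_
  simp only [LinearMap.comp_apply, AlgHom.toLinearMap_apply, conjHom_wreath_tens, Phi_apply, ptr_tens, slot_smul',
    map_sum, map_smul, slot_conj_wreath]
  rw [← Equiv.sum_comp σ]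
  refine Finset.sum_congr rfl fun i _ => ?_
  rw [Equiv.symm_apply_apply]
  congr 1
  simp only [trace_conj]
  refine (Fintype.prod_equiv (σ.subtypeEquiv fun j => ?_) (fun j : {j // j ≠ i} => (A j).trace) _ fun j => ?_).symm
  · simp
  · simp

theorem Phi_single_slot (i : Fin t) {a b : Fin m} (hab : a ≠ b) (c : Fin m) :
    Phi (Matrix.single (Function.update (fun _ => c) i a) (Function.update (fun _ => c) i b) (1 : F)) =
      slot i (Matrix.single a b 1) := by
  rw [single_eq_tens, Phi_apply]
  simp only [ptr_tens]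
  rw [Finset.sum_eq_single i]
  · rw [Function.update_self, Function.update_self, Finset.prod_eq_one (fun j _ => ?_), one_smul]
    rw [Function.update_of_ne j.2, Function.update_of_ne j.2, Matrix.trace_single_eq_same]
  · intro j _ hji
    rw [Finset.prod_eq_zero (i := ⟨i, Ne.symm hji⟩) (Finset.mem_univ _), zero_smul, slot_zero']
    simp [hab]
  · simp

end Cfsg.Agent.WreathMax
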